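import Cfsg.Agent.Lib.L34Univ.Variants
import Cfsg.Agent.Lib.Classical.SmallIso

/-!
A group with coordinates of the graph-field kind and split outer element is determined by the kernel of the
coefficient map.
-/

set_option autoImplicit false
set_option linter.unusedSectionVars false

namespace Cfsg.Agent.ONGlue

open Matrix Cfsg.Agent.L34Mult Cfsg.Agent.L34Univ Cfsg.Agent.AutPSL.Basic
open Cfsg.Agent.Classical.SmallIso Cfsg.Agent.Perm.L34Cover
open scoped commutatorElement

universe u u' v v'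

variable {F : Type u} [Field F] [Fintype F] {F' : Type u'} [Field F'] [Fintype F'] {W : Frame F} {W' : Frame F'}


theorem exists_frame_equiv (hF : Fintype.card F = 4) (hF' : Fintype.card F' = 4) (W : Frame F) (W' : Frame F') :
    ∃ s : F ≃+* F', s W.w = W'.w := by
  let e : F ≃+* F' := FiniteField.ringEquivOfCardEq (by rw [hF, hF'])
  rcases W'.cases (e W.w) with h | h | h | h
  · exact absurd (e.injective (h.trans (map_zero e).symm)) W.ne_zero
  · exact absurd (e.injective (h.trans (map_one e).symm)) W.ne_one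
  · exact ⟨e, h⟩
  · exact ⟨e.trans (frobRing W'), by
      rw [RingEquiv.trans_apply, h, frobRing_apply]; linear_combination W'.sq + (W'.w + 1) * W'.two⟩

variable (s : F ≃+* F')

/-- The isomorphism of the projective groups. -/
def psi : Matrix.ProjectiveSpecialLinearGroup (Fin 3) F ≃* Matrix.ProjectiveSpecialLinearGroup (Fin 3) F' :=
  pslCongr s

theorem psi_mk (x : Matrix.SpecialLinearGroup (Fin 3) F) :
    psi s (QuotientGroup.mk x) = QuotientGroup.mk (slCongr s x) := rfl

theorem slCongr_coe (x : Matrix.SpecialLinearGroup (Fin 3) F) (i j : Fin 3) :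
    (slCongr s x : Matrix (Fin 3) (Fin 3) F') i j = s ((x : Matrix (Fin 3) (Fin 3) F) i j) := rfl

theorem psi_lines (a : F) : psi s (p12 a) = p12 (s a) ∧ psi s (p23 a) = p23 (s a) ∧ psi s (p13 a) = p13 (s a) := by
  refine ⟨?_, ?_, ?_⟩ <;> simp only [p12, p23, p13, psi_mk] <;> congr 1 <;> refine Subtype.ext ?_ <;>
    ext i j <;> rw [slCongr_coe] <;> fin_cases i <;> fin_cases j <;> simp [rowE_coe, colE_coe]

variable {s} (hs : s W.w = W'.w)
include hs

theorem psi_tor : psi s (QuotientGroup.mk (tor W)) = QuotientGroup.mk (tor W') := by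
  rw [psi_mk]
  congr 1
  refine Subtype.ext ?_
  ext i j
  rw [slCongr_coe]
  fin_cases i <;> fin_cases j <;> simp [tor_coe, hs]

omit hs in
theorem psi_frob (p : (Matrix.ProjectiveSpecialLinearGroup (Fin 3) F)) : psi s (autFrob W p) = autFrob W' (psi s p) := by
  induction p using QuotientGroup.induction_on with | H x => ?_
  rw [autFrob_mk, psi_mk, psi_mk, autFrob_mk]
  congr 1
  refine Subtype.ext ?_
  ext i j
  rw [slCongr_coe, fieldSL_coe, fieldSL_coe, Matrix.map_apply, Matrix.map_apply, slCongr_coe, frobRing_apply,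
    frobRing_apply, map_mul]

omit hs in
theorem psi_graph (p : (Matrix.ProjectiveSpecialLinearGroup (Fin 3) F)) : psi s (autGraph p) = autGraph (psi s p) := by
  induction p using QuotientGroup.induction_on with | H x => ?_
  rw [autGraph_mk, psi_mk, psi_mk, autGraph_mk]
  congr 1
  refine Subtype.ext ?_
  have h : ((slCongr s x)⁻¹ : Matrix.SpecialLinearGroup (Fin 3) F') = slCongr s x⁻¹ := (map_inv (slCongr s) x).symm
  ext i j
  rw [slCongr_coe, conjSL_coe, conjSL_coe, iotaSL_coe, iotaSL_coe, h]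
  generalize x⁻¹ = y
  fin_cases i <;> fin_cases j <;>
    simp [antidiag, Matrix.mul_apply, Matrix.vecMul, dotProduct, Fin.sum_univ_three, slCongr_coe,
      Matrix.transpose_apply]

variable {M : Type v} [Group M] {M' : Type v'} [Group M'] {φ : M →* Matrix.ProjectiveSpecialLinearGroup (Fin 3) F}
  {φ' : M' →* Matrix.ProjectiveSpecialLinearGroup (Fin 3) F'} (D : Ctx W φ) (D' : Ctx W' φ') (b : M →* M')
  (hb : ∀ m, φ' (b m) = psi s (φ m))
include hb

theorem map_lift (L : Line W) (L' : Line W') (hL : ∀ a, psi s (L.el a) = L'.el (s a)) (hk : s L.k = L'.k) (a : F) :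
    b (D.lift L a) = D'.lift L' (s a) := by
  obtain ⟨u, hu⟩ := D.surjective (L.el (L.k⁻¹ * a))
  have h1 : φ' (b u) = L'.el (L'.k⁻¹ * s a) := by rw [hb, hu, hL, map_mul, map_inv₀, hk]
  rw [D.lift_eq L hu, D'.lift_eq L' h1, map_commutatorElement]
  exact Transfer.SplitLifts.comm_congr D'.central (by rw [hb, D.map_t, psi_tor hs, D'.map_t]) rfl

theorem map_kap (v : F) : b (D.kap v) = D'.kap (s v) := by
  have hx : ∀ a, b (D.x a) = D'.x (s a) := map_lift hs D D' b hb (lx W) (lx W') (fun a => (psi_lines s a).1) hs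
  have hy : ∀ a, b (D.y a) = D'.y (s a) := map_lift hs D D' b hb (ly W) (ly W') (fun a => (psi_lines s a).2.1) hs
  have hz : ∀ a, b (D.z a) = D'.z (s a) := map_lift hs D D' b hb (lz W) (lz W') (fun a => (psi_lines s a).2.2)
    (by show s (W.w + 1) = W'.w + 1; rw [map_add, hs, map_one])
  rw [Ctx.kap, Ctx.kap, map_mul, map_inv, map_commutatorElement, hx, hy, hz, map_one]

theorem map_iota (c : Coef) : b (D.iota c) = D'.iota c := by
  rw [Ctx.iota, Ctx.iota, map_mul, map_pow, map_pow, map_inv, map_inv, map_kap hs D D' b hb, map_kap hs D D' b hb,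
    map_one, hs]

omit hs hb

/-- A central element killed by an odd power is trivial. -/
theorem eq_one_iff_pow {N : Type v} [Group N] {ψ : N →* (Matrix.ProjectiveSpecialLinearGroup (Fin 3) F)}
    (hψs : Function.Surjective ψ) (hψc : ψ.ker ≤ Subgroup.center N) (hN : Nat.card (Subgroup.center N) = 4)
    {x : N} (hx : ψ x = 1) {n : ℕ} (hn : Odd n) : x = 1 ↔ x ^ n = 1 := by
  refine ⟨fun h => by rw [h, one_pow], fun h => ?_⟩
  have h4 : x ^ 4 = 1 := by
    have h' := pow_card_eq_one' (x := (⟨x, (L34Mult.ker_eq_center hψs hψc x).1 hx⟩ : Subgroup.center N))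
    rw [hN] at h'
    exact congrArg Subtype.val h'
  have hg : Nat.gcd n 4 = 1 := by
    rw [show 4 = 2 ^ 2 from rfl]
    exact Nat.Coprime.pow_right 2 (Nat.coprime_two_right.2 hn)
  have h' := pow_gcd_eq_one.2 ⟨h, h4⟩
  rwa [hg, pow_one] at h'

/-- Coordinates of the graph-field kind with split outer element determine the group. -/
theorem exists_iso (hF : Fintype.card F = 4) (hF' : Fintype.card F' = 4) {C : Type v} [Group C] [Finite C]
    {C' : Type v'} [Group C'] [Finite C'] {M : Subgroup C} [M.Normal] {M' : Subgroup C'} [M'.Normal]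
    (hi : M.index = 2) (hi' : M'.index = 2) (hp : commutator M = ⊤) (hp' : commutator M' = ⊤)
    (hZ : Nat.card (Subgroup.center M) = 4) (hZ' : Nat.card (Subgroup.center M') = 4)
    (X : Coords M W) (X' : Coords M' W') (hρ : X.ρ = autGraph * autFrob W) (hρ' : X'.ρ = autGraph * autFrob W')
    (ha : X.a = X'.a) (hb : X.b = X'.b) (hsq : X.sq = 0) (hsq' : X'.sq = 0) :
    ∃ θ : C ≃* C', (∀ x, θ x ∈ M' ↔ x ∈ M) ∧ θ (X.z : C) = (X'.z : C') ∧
      θ ((X.D.z 1 : M) : C) = ((X'.D.z 1 : M') : C') := by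
  classical
  obtain ⟨s, hs⟩ := exists_frame_equiv hF hF' W W'
  obtain ⟨U, _, _, σ, hσ⟩ := exists_isCover hF
  let φ'' : M' →* (Matrix.ProjectiveSpecialLinearGroup (Fin 3) F) := (psi s).symm.toMonoidHom.comp X'.φ
  have hφ'' : ∀ m, psi s (φ'' m) = X'.φ m := fun m => (psi s).apply_symm_apply _
  have hk'' : ∀ {m}, φ'' m = 1 ↔ X'.φ m = 1 := fun {m} => by rw [← hφ'' m]; exact ((psi s).map_eq_one_iff).symm
  have hc'' : φ''.ker ≤ Subgroup.center M' := fun m hm => X'.D.central (hk''.1 hm)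
  obtain ⟨p, hpS, hpσ⟩ := hσ.exists_hom hF X.D.surjective X.D.central hp
  obtain ⟨q, hqS, hqσ⟩ := hσ.exists_hom hF ((psi s).symm.surjective.comp X'.D.surjective) hc'' hp'
  obtain ⟨D₀⟩ : Nonempty (Ctx W σ) := Ctx.exists_ctx hσ.surjective hσ.central
  have hpσ' : ∀ u, X.φ (p u) = psi (RingEquiv.refl F) (σ u) := fun u => by
    have h := DFunLike.congr_fun hpσ u
    rw [MonoidHom.comp_apply] at h
    rw [h]
    induction σ u using QuotientGroup.induction_on with | H x => ?_
    rw [psi_mk]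
    exact congrArg QuotientGroup.mk (Subtype.ext rfl)
  have hiX : ∀ c, p (D₀.iota c) = X.D.iota c := map_iota (s := RingEquiv.refl F) (W := W) (W' := W) rfl D₀ X.D p hpσ'
  have hqσ' : ∀ u, X'.φ (q u) = psi s (σ u) := fun u => by rw [← hqσ]; exact (hφ'' _).symm
  have hiX' : ∀ c, q (D₀.iota c) = X'.D.iota c := map_iota hs D₀ X'.D q hqσ'
  haveI : CharP F 2 := charP_of_card_eq_prime_pow (f := 2) (by rw [hF]; norm_num)
  set n := (AutPSL.Roots.unitri (n := 3) (F := F)).index
  obtain ⟨k, hk⟩ := odd_index (F := F)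
  have hker : ∀ u, p u = 1 ↔ q u = 1 := fun u => by
    have hP : σ u ≠ 1 → ¬ p u = 1 ∧ ¬ q u = 1 := fun h => ⟨fun e => h (by
        rw [← hpσ, MonoidHom.comp_apply, e, map_one]), fun e => h (by
        rw [← hqσ, MonoidHom.comp_apply, e, map_one])⟩
    by_cases hu : σ u = 1
    · have h1 : X.φ (p u) = 1 := by rw [← MonoidHom.comp_apply, hpσ, hu]
      have h2 : φ'' (q u) = 1 := by rw [← MonoidHom.comp_apply, hqσ, hu]
      obtain ⟨c, hc⟩ := D₀.pow_index_mem hF hσ.perfect hu
      rw [eq_one_iff_pow X.D.surjective X.D.central hZ h1 ⟨k, hk⟩,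
        eq_one_iff_pow (ψ := φ'') ((psi s).symm.surjective.comp X'.D.surjective) hc'' hZ' h2 ⟨k, hk⟩,
        ← map_pow, ← map_pow, ← hc, hiX, hiX', X.iota_eq, X'.iota_eq, ← orderOf_dvd_iff_pow_eq_one,
        ← orderOf_dvd_iff_pow_eq_one, X.orderOf_z, X'.orderOf_z, ha, hb]
    · exact iff_of_false (hP hu).1 (hP hu).2
  have hkk : p.ker = q.ker := Subgroup.ext fun u => by rw [MonoidHom.mem_ker, MonoidHom.mem_ker]; exact hker u
  let η : M ≃* M' := (QuotientGroup.quotientKerEquivOfSurjective p hpS).symm.trans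
    ((QuotientGroup.quotientMulEquivOfEq hkk).trans (QuotientGroup.quotientKerEquivOfSurjective q hqS))
  have hη : ∀ u, η (p u) = q u := fun u => by
    have e : (QuotientGroup.quotientKerEquivOfSurjective p hpS).symm (p u) = QuotientGroup.mk u :=
      (MulEquiv.symm_apply_eq _).2 rfl
    rw [MulEquiv.trans_apply, MulEquiv.trans_apply, e]
    rfl
  have hηφ : ∀ m, X'.φ (η m) = psi s (X.φ m) := fun m => by
    obtain ⟨u, rfl⟩ := hpS m
    rw [hη, hqσ', ← hpσ]
    rfl
  -- the outer elements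
  let β : M →* M := MonoidHom.mk' (fun x => ⟨X.g * x * X.g⁻¹, X.conj_mem x⟩) fun x y =>
    Subtype.ext (by simp)
  let β' : M' →* M' := MonoidHom.mk' (fun x => ⟨X'.g * x * X'.g⁻¹, X'.conj_mem x⟩) fun x y =>
    Subtype.ext (by simp)
  have hcomm : η.toMonoidHom.comp β = β'.comp η.toMonoidHom := hom_ext_central hp X'.D.central
    (MonoidHom.ext fun m => by
      show X'.φ (η (β m)) = X'.φ (β' (η m))
      rw [hηφ, show X'.φ (β' (η m)) = X'.ρ (X'.φ (η m)) from X'.map_conj _, hηφ,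
        show X.φ (β m) = X.ρ (X.φ m) from X.map_conj _, hρ, hρ', MulAut.mul_apply, MulAut.mul_apply, psi_graph,
        psi_frob])
  have hcm : ∀ x : M, X'.g * (η x : C') * X'.g⁻¹ = (η ⟨X.g * x * X.g⁻¹, X.conj_mem x⟩ : C') := fun x =>
    (congrArg Subtype.val (DFunLike.congr_fun hcomm x)).symm
  have hg2 : X.g * X.g = 1 := by rw [X.g_sq, hsq, Ctx.iota_zero]; rfl
  have hg2' : X'.g * X'.g = 1 := by rw [X'.g_sq, hsq', Ctx.iota_zero]; rfl
  have hgi : X.g⁻¹ = X.g := inv_eq_of_mul_eq_one_right hg2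
  have hgi' : X'.g⁻¹ = X'.g := inv_eq_of_mul_eq_one_right hg2'
  have hmg : ∀ {x : C}, x ∉ M → x * X.g ∈ M := fun {x} hx =>
    (Subgroup.mul_mem_iff_of_index_two hi).2 (iff_of_false hx X.g_notMem)
  let f : C → C' := fun x => if h : x ∈ M then (η ⟨x, h⟩ : C') else η ⟨x * X.g, hmg h⟩ * X'.g
  have hfM : ∀ x : M, f x = η x := fun x => dif_pos x.2
  have hfg : ∀ x : M, f (x * X.g) = η x * X'.g := fun x => by
    have h : (x : C) * X.g ∉ M := fun h => X.g_notMem (by simpa using M.mul_mem (M.inv_mem x.2) h)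
    rw [show f (x * X.g) = η ⟨(x : C) * X.g * X.g, hmg h⟩ * X'.g from dif_neg h]
    congr 3
    exact Subtype.ext (show (x : C) * X.g * X.g = x by rw [mul_assoc, hg2, mul_one])
  have split : ∀ x : C, (∃ m : M, x = m) ∨ ∃ m : M, x = m * X.g := fun x => by
    by_cases h : x ∈ M
    · exact Or.inl ⟨⟨x, h⟩, rfl⟩
    · exact Or.inr ⟨⟨x * X.g, hmg h⟩, by rw [mul_assoc, hg2, mul_one]⟩
  have hgm : ∀ m : M, X'.g * (η m : C') = η ⟨X.g * m * X.g⁻¹, X.conj_mem m⟩ * X'.g := fun m => by
    rw [← hcm, inv_mul_cancel_right]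
  let fh : C →* C' := MonoidHom.mk' f fun x y => by
    rcases split x with ⟨m, rfl⟩ | ⟨m, rfl⟩ <;> rcases split y with ⟨n, rfl⟩ | ⟨n, rfl⟩
    · rw [hfM, hfM, ← Subgroup.coe_mul, hfM, map_mul, Subgroup.coe_mul]
    · rw [hfM, hfg, ← mul_assoc, ← Subgroup.coe_mul, hfg, map_mul, Subgroup.coe_mul, mul_assoc]
    · rw [hfg, hfM, show (m : C) * X.g * n = ((m * ⟨X.g * n * X.g⁻¹, X.conj_mem n⟩ : M) : C) * X.g by
        simp [mul_assoc], hfg, map_mul, Subgroup.coe_mul, mul_assoc, ← hgm, ← mul_assoc]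
    · rw [hfg, hfg, show (m : C) * X.g * (n * X.g) = ((m * ⟨X.g * n * X.g⁻¹, X.conj_mem n⟩ : M) : C) by
        simp [mul_assoc, hgi], hfM, map_mul, Subgroup.coe_mul,
        show (η m : C') * X'.g * (η n * X'.g) = η m * (X'.g * η n) * X'.g by group, hgm]
      generalize (η ⟨X.g * n * X.g⁻¹, X.conj_mem n⟩ : C') = r
      rw [mul_assoc, mul_assoc, hg2', mul_one]
  have hmem : ∀ x, f x ∈ M' ↔ x ∈ M := fun x => by
    rcases split x with ⟨m, rfl⟩ | ⟨m, rfl⟩
    · rw [hfM]; exact iff_of_true (η m).2 m.2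
    · rw [hfg]
      exact iff_of_false (fun h => X'.g_notMem (by simpa using M'.mul_mem (M'.inv_mem (η m).2) h))
        (fun h => X.g_notMem (by simpa using M.mul_mem (M.inv_mem m.2) h))
  have hinj : Function.Injective fh := (injective_iff_map_eq_one fh).2 fun x hx => by
    have hxM : x ∈ M := (hmem x).1 (by rw [show f x = fh x from rfl, hx]; exact one_mem _)
    have h := hfM ⟨x, hxM⟩
    rw [show f x = fh x from rfl, hx] at h
    exact congrArg Subtype.val (η.map_eq_one_iff.1 (Subtype.ext h.symm))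
  have hsur : Function.Surjective fh := fun y => by
    by_cases h : y ∈ M'
    · exact ⟨η.symm ⟨y, h⟩, by show f _ = y; rw [hfM, η.apply_symm_apply]⟩
    · have hy : y * X'.g ∈ M' := (Subgroup.mul_mem_iff_of_index_two hi').2 (iff_of_false h X'.g_notMem)
      exact ⟨η.symm ⟨_, hy⟩ * X.g, by
        show f _ = y
        rw [hfg, η.apply_symm_apply, mul_assoc, hg2', mul_one]⟩
  refine ⟨MulEquiv.ofBijective fh ⟨hinj, hsur⟩, hmem, ?_, ?_⟩
  · obtain ⟨c, hc⟩ := X.unit
    have h1 : p (D₀.iota c) = X.z := by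
      rw [hiX, X.iota_eq, hc, show (1 : ZMod 4).val = 1 from rfl, pow_one]
    have h2 : q (D₀.iota c) = X'.z := by
      rw [hiX', X'.iota_eq, ← ha, ← hb, hc, show (1 : ZMod 4).val = 1 from rfl, pow_one]
    show f _ = _
    rw [hfM, ← h1, hη, h2]
  · have h1 : p (D₀.z 1) = X.D.z 1 := map_lift (s := RingEquiv.refl F) (W := W) (W' := W) rfl D₀ X.D p hpσ' (lz W)
      (lz W) (fun a => (psi_lines _ a).2.2) rfl 1
    have h2 : q (D₀.z 1) = X'.D.z 1 := by
      have h := map_lift hs D₀ X'.D q hqσ' (lz W) (lz W') (fun a => (psi_lines s a).2.2)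
        (by show s (W.w + 1) = W'.w + 1; rw [map_add, hs, map_one]) 1
      rw [map_one] at h
      exact h
    show f _ = _
    rw [hfM, ← h1, hη, h2]

end Cfsg.Agent.ONGlue
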