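import Cfsg.Agent.Lib.ONGlue.Glue

/-!
# The twisted gluing is impossible

An element of `C(a)` conjugates an involution of the common part to `f`; the element `c d g` is then a square in
the centraliser of the first pair and its image is not a square in that of the second.
-/

set_option autoImplicit false

noncomputable section

namespace Cfsg.Agent.ONGlue

open Cfsg.Agent.InvCoset Cfsg.Agent.ONGroup

universe u

/-- The twist on the letters of the common part. -/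
def twC (x : ℕ) : List ℕ :=
  if x = 2 then [6, 2, 6, 2, 6, 2, 6] else if x = 6 then [2, 6, 2, 6, 2, 6, 2]
  else if x = 7 then [2, 7, 2, 7, 2, 7, 2] else [x]

/-- The element of `C(a)`. -/
def yT : List ℕ := [4, 3, 2, 3, 4, 7, 4, 3, 2, 3, 6, 4]

/-- An involution. -/
def uT : List ℕ := [2, 3, 6, 2, 3, 6]

/-- Its image. -/
def uT' : List ℕ := [2, 6, 3, 2, 6, 3]

/-- The image of the element under study. -/
def kT' : List ℕ := [6, 3, 6, 3]

/-- A square root. -/
def sT : List ℕ := [1, 3, 6, 2, 1, 0, 3, 2, 1, 3, 6, 2, 1]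

/-- A conjugator. -/
def vT : List ℕ := [1, 2, 3, 2, 1, 0, 6, 1, 2, 3, 2, 6, 1]

theorem noTwist_facts :
    ((sameW (cW yT uT) [5] && sameW (cW yT [5]) uT' && sameW (cW yT [2, 3, 7]) kT' && inRange 8 yT) = true) ∧
    ((sameW (uT.flatMap twC) uT && sameW (uT'.flatMap twC) uT' && sameW (kT'.flatMap twC) kT' &&
      sameW ([2, 3, 7].flatMap twC) [2, 3, 6] && sameW (sT ++ sT) [2, 3, 6] && sameW (sT ++ uT) (uT ++ sT) &&
      inRange 8 sT) = true) ∧
    ((inRange 8 vT && inRange 8 (invW ONTable.iv vT) && sameW (cW vT [0]) uT' &&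
      sameW (cW (invW ONTable.iv vT) kT') (kW 150) && (yT.all fun x => sameW [x, 0] [0, x]) &&
      (sT.all fun x => sameW [x, 5] [5, x]) && (vT.all fun x => sameW [x, 5] [5, x])) = true) ∧
    (((List.range KC.N).all fun i => !Nat.beq (KC.mul i i) 150) = true) := by
  decide +kernel

theorem word_mem_cent {z : ℕ} {w : List ℕ} (h : (w.all fun x => sameW [x, z] [z, x]) = true) :
    val w ∈ Subgroup.centralizer ({let8 z} : Set Spor.ON) := by
  induction w with
  | nil => exact one_mem _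
  | cons y w ih =>
    rw [List.all_cons, Bool.and_eq_true] at h
    refine mul_mem (Subgroup.mem_centralizer_singleton_iff.2 ?_) (ih h.2)
    have := val_eq_of_sameW h.1
    simpa [val, prodE] using this

variable {G : Type u} [Group G]

/-- The twisted gluing does not occur. -/
theorem no_twist {t : G} (θ : C0 →* G) (ψ : Ca →* G) (hinj : Function.Injective θ)
    (hrange : ∀ y, Commute y t → y ∈ θ.range) (hf : θ fS = t)
    (h5 : ∀ (p : let8 5 ∈ Ca) (q : let8 5 ∈ C0), ψ ⟨_, p⟩ = θ ⟨_, q⟩)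
    (h3 : ∀ (p : let8 3 ∈ Ca) (q : let8 3 ∈ C0), ψ ⟨_, p⟩ = θ ⟨_, q⟩)
    (h2 : ∀ (p : let8 2 ∈ Ca) (q : val [6, 2, 6, 2, 6, 2, 6] ∈ C0), ψ ⟨_, p⟩ = θ ⟨_, q⟩)
    (h6 : ∀ (p : let8 6 ∈ Ca) (q : val [2, 6, 2, 6, 2, 6, 2] ∈ C0), ψ ⟨_, p⟩ = θ ⟨_, q⟩)
    (hgen : Subgroup.closure (let8 '' {k | k ∈ [0, 1, 2, 3, 5, 6]}) = C0) (hcard : Nat.card C0 = 161280) :
    False := by
  obtain ⟨hy, htw, hv, hno⟩ := noTwist_facts
  simp only [Bool.and_eq_true] at hy htw hv
  obtain ⟨⟨⟨hyu, hy5⟩, hyk⟩, hyr⟩ := hy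
  obtain ⟨⟨⟨⟨⟨⟨tu, tu'⟩, tk'⟩, tk⟩, hss⟩, hsu⟩, hsr⟩ := htw
  obtain ⟨⟨⟨⟨⟨⟨hvr, hvr'⟩, hvu⟩, hvk⟩, hya⟩, hsf⟩, hvf⟩ := hv
  -- the words of the common part
  have k26 : ∀ w : List ℕ, (∀ x ∈ w, x ∈ [2, 3, 6, 7]) → ∃ (p : val w ∈ Ca) (q : val (w.flatMap twC) ∈ C0),
      ψ ⟨_, p⟩ = θ ⟨_, q⟩ := by
    have hc : ([2, 3, 6, 7].all fun x => sameW [x, 0] [0, x] && sameW [x, 5] [5, x]) = true := by decide +kernel
    have hca : ∀ x ∈ [2, 3, 6, 7], let8 x ∈ Ca ∧ let8 x ∈ C0 := fun x hx => by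
      have h := List.all_eq_true.1 hc x hx
      rw [Bool.and_eq_true] at h
      have a1 := word_mem_cent (z := 0) (w := [x]) (by simp [h.1])
      have a2 := word_mem_cent (z := 5) (w := [x]) (by simp [h.2])
      rw [val_singleton] at a1 a2
      exact ⟨a1, a2⟩
    intro w
    induction w with
    | nil => exact fun _ => ⟨one_mem _, one_mem _, (map_one ψ).trans (map_one θ).symm⟩
    | cons x w ih =>
      intro hw
      obtain ⟨p, q, e⟩ := ih fun y hy => hw y (List.mem_cons_of_mem _ hy)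
      have hx := hw x List.mem_cons_self
      obtain ⟨qx, ex⟩ : ∃ qx : val (twC x) ∈ C0, ψ ⟨_, (hca x hx).1⟩ = θ ⟨_, qx⟩ := by
        have v2 : val [6, 2, 6, 2, 6, 2, 6] ∈ C0 := word_mem_cent (by decide +kernel)
        have v6 : val [2, 6, 2, 6, 2, 6, 2] ∈ C0 := word_mem_cent (by decide +kernel)
        simp only [List.mem_cons, List.not_mem_nil, or_false] at hx
        rcases hx with rfl | rfl | rfl | rfl
        · exact ⟨v2, h2 _ v2⟩
        · refine ⟨?_, (h3 _ (hca 3 (by simp)).2).trans (congrArg θ (Subtype.ext (val_singleton 3).symm))⟩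
          show val [3] ∈ C0
          rw [val_singleton]; exact (hca 3 (by simp)).2
        · exact ⟨v6, h6 _ v6⟩
        · have e7 : val [2, 7, 2, 7, 2, 7, 2] = (val [2, 6, 2, 6, 2, 6, 2])⁻¹ := by
            rw [← val_invW (by decide : inRange 8 [2, 6, 2, 6, 2, 6, 2] = true)]
            rfl
          refine ⟨by show val [2, 7, 2, 7, 2, 7, 2] ∈ C0; rw [e7]; exact inv_mem v6, ?_⟩
          rw [show (⟨let8 7, (hca 7 (by simp)).1⟩ : Ca) = ⟨let8 6, (hca 6 (by simp)).1⟩⁻¹ from Subtype.ext rfl,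
            map_inv, h6 _ v6, ← map_inv]
          exact congrArg θ (Subtype.ext e7.symm)
      refine ⟨mul_mem (hca x hx).1 p, ?_, ?_⟩
      · rw [List.flatMap_cons, val_append]; exact mul_mem qx q
      · rw [show (⟨val (x :: w), _⟩ : Ca) = ⟨_, (hca x hx).1⟩ * ⟨_, p⟩ from Subtype.ext rfl, map_mul, ex, e,
          ← map_mul]
        exact congrArg θ (Subtype.ext ((val_append (twC x) (w.flatMap twC)).symm.trans (congrArg val List.flatMap_cons.symm)))
  have key : ∀ (w w' : List ℕ), (∀ x ∈ w, x ∈ [2, 3, 6, 7]) → sameW (w.flatMap twC) w' = true →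
      ∃ (p : val w ∈ Ca) (q : val w' ∈ C0), ψ ⟨_, p⟩ = θ ⟨_, q⟩ := fun w w' hw hs => by
    obtain ⟨p, q, e⟩ := k26 w hw
    exact ⟨p, val_eq_of_sameW hs ▸ q, e.trans (congrArg θ (Subtype.ext (val_eq_of_sameW hs)))⟩
  obtain ⟨pu, qu, eu⟩ := key uT uT (by decide) tu
  obtain ⟨pu', qu', eu'⟩ := key uT' uT' (by decide) tu'
  obtain ⟨pk, qk, ek⟩ := key [2, 3, 7] [2, 3, 6] (by decide) tk
  obtain ⟨pk', qk', ek'⟩ := key kT' kT' (by decide) tk'
  have py : val yT ∈ Ca := word_mem_cent hya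
  have p5 : let8 5 ∈ Ca := by
    have h := word_mem_cent (z := 0) (w := [5]) (by decide +kernel)
    rwa [val_singleton] at h
  set Y := ψ ⟨_, py⟩
  have hY : ∀ (x x' : Spor.ON) (p : x ∈ Ca) (p' : x' ∈ Ca), val yT * x * (val yT)⁻¹ = x' →
      Y * ψ ⟨x, p⟩ * Y⁻¹ = ψ ⟨x', p'⟩ := fun x x' p p' e => by
    rw [← map_inv, ← map_mul, ← map_mul]; exact congrArg ψ (Subtype.ext e)
  have eyt : Y * θ ⟨_, qu⟩ * Y⁻¹ = t := by
    rw [← eu, hY _ _ pu p5 (by rw [← val_cW hyr, val_eq_of_sameW hyu, val_singleton]),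
      h5 p5 (Subgroup.mem_centralizer_singleton_iff.2 rfl), ← hf]
    rfl
  have eyu : Y * t * Y⁻¹ = θ ⟨_, qu'⟩ := by
    rw [← hf, show (fS : C0) = ⟨let8 5, Subgroup.mem_centralizer_singleton_iff.2 rfl⟩ from rfl, ← h5 p5,
      hY _ _ p5 pu' (by rw [← val_singleton 5, ← val_cW hyr]; exact val_eq_of_sameW hy5), eu']
  have hs0 : val sT ∈ C0 := word_mem_cent hsf
  set S : C0 := ⟨_, hs0⟩
  have cS : Commute (θ S) t := by
    rw [← hf]
    exact (show Commute S fS from Subtype.ext (Subgroup.mem_centralizer_singleton_iff.1 hs0)).map θ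
  have cSu : Commute (θ S) (θ ⟨_, qu⟩) :=
    (show Commute S ⟨_, qu⟩ from Subtype.ext ((val_append sT uT).symm.trans
      ((val_eq_of_sameW hsu).trans (val_append uT sT)))).map θ
  have d1 : Commute (Y * θ S * Y⁻¹) t := by rw [← eyt]; exact cSu.map (MulAut.conj Y).toMonoidHom
  have d2 : Commute (Y * θ S * Y⁻¹) (θ ⟨_, qu'⟩) := by rw [← eyu]; exact cS.map (MulAut.conj Y).toMonoidHom
  obtain ⟨x, hx⟩ := hrange _ d1
  have cxu : (x : Spor.ON) * val uT' = val uT' * x := congrArg Subtype.val (hinj (show θ (x * ⟨_, qu'⟩) =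
    θ (⟨_, qu'⟩ * x) by rw [map_mul, map_mul, hx]; exact d2.eq))
  have hv0 : val vT ∈ C0 := word_mem_cent hvf
  have hva : val vT * let8 0 * (val vT)⁻¹ = val uT' := by
    rw [← val_singleton 0, ← val_cW hvr]; exact val_eq_of_sameW hvu
  have hw : (val vT)⁻¹ * x * val vT ∈ KC.sub := by
    rw [sub_eq hgen hcard]
    refine Subgroup.mem_inf.2 ⟨mul_mem (mul_mem (inv_mem hv0) x.2) hv0,
      Subgroup.mem_centralizer_singleton_iff.2 ?_⟩
    have e : let8 0 = (val vT)⁻¹ * val uT' * val vT := by rw [← hva]; group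
    rw [e]
    calc (val vT)⁻¹ * (x : Spor.ON) * val vT * ((val vT)⁻¹ * val uT' * val vT)
        = (val vT)⁻¹ * ((x : Spor.ON) * val uT') * val vT := by group
      _ = (val vT)⁻¹ * val uT' * val vT * ((val vT)⁻¹ * (x : Spor.ON) * val vT) := by rw [cxu]; group
  obtain ⟨i, hi, ei⟩ := (Code.mem_sub KC_ok).1 hw
  have hxx : (x : Spor.ON) * x = val kT' := by
    have h : θ (x * x) = θ ⟨_, qk'⟩ := by
      rw [map_mul, hx, ← ek', ← hY _ _ pk pk' (by rw [← val_cW hyr]; exact val_eq_of_sameW hyk), ek,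
        show (⟨_, qk⟩ : C0) = S * S from Subtype.ext ((val_eq_of_sameW hss).symm.trans (val_append sT sT)), map_mul]
      group
    exact congrArg Subtype.val (hinj h)
  have he : KC.el (KC.mul i i) = KC.el 150 := by
    rw [Code.el_mul KC_ok hi hi, ei, show KC.el 150 = val (cW (invW ONTable.iv vT) kT') from
      (val_eq_of_sameW hvk).symm, val_cW hvr', val_invW hvr, inv_inv, ← hxx]
    group
  have h150 := Code.el_inj KC_ok (Code.mul_lt KC_ok hi hi) (by decide) he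
  have h := List.all_eq_true.1 hno i (List.mem_range.2 hi)
  rw [h150] at h
  exact absurd h (by decide)

end Cfsg.Agent.ONGlue
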