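import Cfsg.Agent.Lib.ONGlue.Theta
import Cfsg.Agent.Lib.ONGlue.NoTwist
import Cfsg.Agent.Lib.ONLocal.Closing
import Cfsg.Agent.Lib.ONLocal.Collapse

/-!
# The presented O'Nan group maps to a group with a centraliser of O'Nan type
-/

set_option autoImplicit false
set_option linter.unusedSectionVars false
set_option linter.style.haveILetI false
set_option maxRecDepth 100000

noncomputable section

namespace Cfsg.Agent.ONGlue

open Cfsg.Spor Cfsg.Agent.InvCoset Cfsg.Agent.ONGroup Cfsg.Agent.ONType.Side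

universe u

variable {G : Type u} [Group G]

/-- Whether a relator keeps to one of the two centralisers. -/
def oneSide (w : List ℕ) : Bool := !(w.contains 1 && w.contains 4) && inRange 8 w

theorem base_facts : (ONLocal.base0.all fun w => oneSide w && fixesThree w) = true := by decide +kernel

theorem base_val {w : List ℕ} (hw : w ∈ ONLocal.base0) : val w = 1 := by
  have h := List.all_eq_true.1 base_facts w hw
  rw [Bool.and_eq_true] at h
  exact word_one h.2

theorem prodE_hom {A : Type*} [Group A] {H : Subgroup ON} (g : H →* A) (e : ℕ → A) :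
    ∀ (w : List ℕ) (hm : ∀ x ∈ w, let8 x ∈ H), (∀ x, ∀ hx : x ∈ w, e x = g ⟨_, hm x hx⟩) →
      ∃ h : val w ∈ H, prodE e w = g ⟨_, h⟩
  | [], _, _ => ⟨one_mem _, by rw [show (⟨val [], _⟩ : H) = 1 from rfl, map_one]; rfl⟩
  | y :: w, hm, he => by
    obtain ⟨h, e1⟩ := prodE_hom g e w (fun x hx => hm x (List.mem_cons_of_mem _ hx))
      (fun x hx => he x (List.mem_cons_of_mem _ hx))
    refine ⟨mul_mem (hm y List.mem_cons_self) h, ?_⟩
    rw [prodE, e1, he y List.mem_cons_self, ← map_mul]
    rfl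

theorem mem_Ca {x : ℕ} (hx : x < 8) (h1 : x ≠ 1) : let8 x ∈ Ca := by
  refine Subgroup.mem_centralizer_singleton_iff.2 ?_
  have key : ([0, 2, 3, 4, 5, 6, 7].all fun y => sameW [y, 0] [0, y]) = true := by decide +kernel
  have h := val_eq_of_sameW (List.all_eq_true.1 key x (by
    simp only [List.mem_cons, List.not_mem_nil, or_false]; omega))
  simpa [val, prodE] using h

theorem mem_C0 (hC : C0 = Kf) {x : ℕ} (hx : x < 8) (h4 : x ≠ 4) : let8 x ∈ C0 := by
  rw [hC]
  refine let8_seven ?_
  simp only [sevenL, List.mem_cons, List.not_mem_nil, or_false]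
  omega

/-- The map on the generators. -/
def genMap (hC : C0 = Kf) (θ : C0 →* G) (ψ : Ca →* G) (x : ON.Gen) : G :=
  if hx : idx x = 4 then ψ ⟨let8 (idx x), mem_Ca (by omega) (by omega)⟩
  else θ ⟨let8 (idx x), mem_C0 hC (by cases x <;> decide) hx⟩

theorem letter_C0 (hC : C0 = Kf) (θ : C0 →* G) (ψ : Ca →* G) {x : ℕ} (hx : x < 8) (h4 : x ≠ 4) :
    letterVal (genMap hC θ ψ) x = θ ⟨let8 x, mem_C0 hC hx h4⟩ := by
  interval_cases x
  all_goals first
    | exact absurd rfl h4
    | (show genMap hC θ ψ _ = _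
       rw [genMap, dif_neg (by decide)]
       rfl)
    | (show (genMap hC θ ψ ON.Gen.g)⁻¹ = _
       rw [genMap, dif_neg (by decide), ← map_inv]
       rfl)

theorem letter_four (hC : C0 = Kf) (θ : C0 →* G) (ψ : Ca →* G) :
    letterVal (genMap hC θ ψ) 4 = ψ ⟨let8 4, mem_Ca (by norm_num) (by norm_num)⟩ := by
  show genMap hC θ ψ _ = _
  rw [genMap, dif_pos (by decide)]
  rfl

/-- The generators are involutions in the image. -/
theorem genMap_invol (hC : C0 = Kf) (θ : C0 →* G) (ψ : Ca →* G) :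
    ∀ x ∈ nodes, genMap hC θ ψ x * genMap hC θ ψ x = 1 := fun x hx => by
  have hsq : let8 (idx x) * let8 (idx x) = 1 := by
    rw [show let8 (idx x) = gen x from letterVal_idx gen x]; exact gen_invol x hx
  unfold genMap
  split_ifs with h
  · rw [← map_mul, show (⟨let8 (idx x), _⟩ : Ca) * ⟨let8 (idx x), _⟩ = 1 from Subtype.ext hsq, map_one]
  · rw [← map_mul, show (⟨let8 (idx x), _⟩ : C0) * ⟨let8 (idx x), _⟩ = 1 from Subtype.ext hsq, map_one]

/-- A word of one side is trivial. -/
theorem word_f (hC : C0 = Kf) (θ : C0 →* G) (ψ : Ca →* G) {w : List ℕ} (hw : w ∈ ONLocal.base0) (h4 : 4 ∉ w) :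
    prodE (letterVal (genMap hC θ ψ)) w = 1 := by
  have h := List.all_eq_true.1 base_facts w hw
  simp only [oneSide, Bool.and_eq_true] at h
  have hr : ∀ y ∈ w, y < 8 := inRange_spec h.1.2
  have h4' : ∀ y ∈ w, y ≠ 4 := fun y hy e => h4 (e ▸ hy)
  obtain ⟨hm, e⟩ := prodE_hom θ (letterVal (genMap hC θ ψ)) w (fun x hx => mem_C0 hC (hr x hx) (h4' x hx))
    (fun x hx => letter_C0 hC θ ψ (hr x hx) (h4' x hx))
  rw [e, show (⟨val w, hm⟩ : C0) = 1 from Subtype.ext (base_val hw), map_one]

/-- A word of the other side is trivial when the letters match after a substitution. -/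
theorem word_a (hC : C0 = Kf) (θ : C0 →* G) (ψ : Ca →* G) (sub : ℕ → List ℕ)
    (hsub : ∀ x < 8, x ≠ 1 → ∀ p : let8 x ∈ Ca, prodE (letterVal (genMap hC θ ψ)) (sub x) = ψ ⟨_, p⟩)
    {w : List ℕ} (hw : w ∈ ONLocal.base0) (h4 : 4 ∈ w) :
    prodE (letterVal (genMap hC θ ψ)) (w.flatMap sub) = 1 := by
  have h := List.all_eq_true.1 base_facts w hw
  simp only [oneSide, Bool.and_eq_true, Bool.not_eq_true', Bool.and_eq_false_iff] at h
  have hr : ∀ y ∈ w, y < 8 := inRange_spec h.1.2
  have h1 : ∀ y ∈ w, y ≠ 1 := fun y hy e => by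
    rcases h.1.1 with h' | h'
    · simp [List.contains_iff_mem, e ▸ hy] at h'
    · simp [List.contains_iff_mem, h4] at h'
  set e := letterVal (genMap hC θ ψ)
  have flat : ∀ v : List ℕ, prodE e (v.flatMap sub) = prodE (fun x => prodE e (sub x)) v := by
    intro v
    induction v with
    | nil => rfl
    | cons y v ih => rw [List.flatMap_cons, prodE_append, ih, prodE]
  obtain ⟨hm, e1⟩ := prodE_hom ψ (fun x => prodE e (sub x)) w (fun x hx => mem_Ca (hr x hx) (h1 x hx))
    (fun x hx => hsub x (hr x hx) (h1 x hx) _)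
  rw [flat, e1, show (⟨val w, hm⟩ : Ca) = 1 from Subtype.ext (base_val hw), map_one]

/-- The presented group maps onto a subgroup containing the involution centraliser. -/
theorem exists_embedding [Finite G] [IsSimpleGroup G] (hC : C0 = Kf)
    (hopt : ∀ (θ : C0 →* G) (ψ : Ca →* G), Function.Injective θ → (∀ y, Commute y (θ fS) → y ∈ θ.range) →
      (∀ w ∈ [[0], [3], [5], [2, 6, 2, 6]], ∀ (p : val w ∈ Ca) (q : val w ∈ C0), ψ ⟨_, p⟩ = θ ⟨_, q⟩) →
      ∀ e : ℕ → G, (∀ x ∈ [0, 1, 2, 3, 5, 6, 7], ∀ q : let8 x ∈ C0, e x = θ ⟨_, q⟩) →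
      (∀ p : let8 4 ∈ Ca, e 4 = ψ ⟨_, p⟩) →
      (∀ w ∈ ONLocal.Wud, prodE e w = 1) ∨ ∃ i : Fin 7, ∀ w ∈ ONLocal.Wv.getD i [], prodE e w = 1)
    (t : G) (ht : orderOf t = 2)
    (M : Subgroup (Subgroup.centralizer ({t} : Set G))) [M.Normal] (hM : M.index = 2)
    (hout : Subgroup.centralizer (M : Set (Subgroup.centralizer ({t} : Set G))) ≤ M)
    (hZc : IsCyclic (Subgroup.center M)) (hZ4 : Nat.card (Subgroup.center M) = 4) (hperf : commutator M = ⊤)
    (F : Type) [Field F] [Fintype F] (hF : Fintype.card F = 4)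
    (eq : M ⧸ Subgroup.center M ≃* Matrix.ProjectiveSpecialLinearGroup (Fin 3) F) :
    ∃ φ : ON →* G, Function.Injective φ ∧ φ (let8 5) = t ∧ Subgroup.centralizer ({φ (let8 5)} : Set G) ≤ φ.range := by
  haveI := simple_ON
  obtain ⟨θ0, z1, h, hinj0, hrange0, hf0, ha0, h1, h2⟩ := exists_theta hC t ht M hM hout hZc hZ4 hperf F hF eq
  have hgen : Subgroup.closure (let8 '' {k | k ∈ [0, 1, 2, 3, 5, 6]}) = C0 := six_gen.trans hC.symm
  have hcard : Nat.card C0 = 161280 := by rw [hC]; exact Kf_card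
  obtain ⟨θ, ψ, hinj, hrange, hf, h05, hglue⟩ := exists_glue θ0 hinj0 hrange0 hf0 ha0 h1 h2 hgen hcard
  set e := letterVal (genMap hC θ ψ) with he
  have hp : Paired 8 ONTable.iv e := paired _ (genMap_invol hC θ ψ)
  have hF' : ∀ w ∈ ONLocal.base0, 4 ∉ w → prodE e w = 1 := fun w hw h4 => word_f hC θ ψ hw h4
  have e7 : e 7 = (e 6)⁻¹ := rfl
  have ψ7 : ∀ (p : let8 7 ∈ Ca) (p6 : let8 6 ∈ Ca), ψ ⟨_, p⟩ = (ψ ⟨_, p6⟩)⁻¹ := fun p p6 => by
    rw [← map_inv]; exact congrArg ψ (Subtype.ext rfl)
  have hab : e 0 ≠ e 1 := fun hab => by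
    rw [he, letter_C0 hC θ ψ (by norm_num) (by norm_num), letter_C0 hC θ ψ (by norm_num) (by norm_num)] at hab
    have h' := congrArg Subtype.val (hinj hab)
    refine ab_ne_one ?_
    simp only [prodE, mul_one]
    have h'' : let8 0 = let8 1 := h'
    rw [← h'']
    exact let8_zero_sq
  have hcg : val [2, 6, 2, 6] ∈ C0 := hC ▸ word_Kf (by decide)
  have e05 : ∀ x ∈ [0, 5], ∀ p : let8 x ∈ Ca, e x = ψ ⟨_, p⟩ := fun x hx p => by
    have hx' : x < 8 ∧ x ≠ 4 := by
      simp only [List.mem_cons, List.not_mem_nil, or_false] at hx; omega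
    rw [he, letter_C0 hC θ ψ hx'.1 hx'.2, h05 x hx p]
  have agree : (∀ (p : let8 3 ∈ Ca) (q : let8 3 ∈ C0), ψ ⟨_, p⟩ = θ ⟨_, q⟩) →
      (∀ (p : val [2, 6, 2, 6] ∈ Ca), ψ ⟨_, p⟩ = θ ⟨_, hcg⟩) →
      ∀ w ∈ [[0], [3], [5], [2, 6, 2, 6]], ∀ (p : val w ∈ Ca) (q : val w ∈ C0), ψ ⟨_, p⟩ = θ ⟨_, q⟩ := by
    intro h3 hc w hw p q
    have one : ∀ x, (∀ (p : let8 x ∈ Ca) (q : let8 x ∈ C0), ψ ⟨_, p⟩ = θ ⟨_, q⟩) →
        ∀ (p : val [x] ∈ Ca) (q : val [x] ∈ C0), ψ ⟨_, p⟩ = θ ⟨_, q⟩ := fun x hx p q => by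
      have hx' := hx (val_singleton x ▸ p) (val_singleton x ▸ q)
      convert hx' using 2 <;> exact Subtype.ext (val_singleton x)
    simp only [List.mem_cons, List.not_mem_nil, or_false] at hw
    rcases hw with rfl | rfl | rfl | rfl
    · exact one 0 (h05 0 (by simp)) p q
    · exact one 3 h3 p q
    · exact one 5 (h05 5 (by simp)) p q
    · exact hc p
  have opt := fun hag => hopt θ ψ hinj (by rw [hf]; exact hrange) hag e
    (fun x hx q => letter_C0 hC θ ψ (by simp only [List.mem_cons, List.not_mem_nil, or_false] at hx; omega)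
      (by simp only [List.mem_cons, List.not_mem_nil, or_false] at hx; omega))
    (fun p => letter_four hC θ ψ)
  rcases hglue with hg | ⟨hg3, hg2, hg6⟩
  · -- the gluing of O'Nan
    have e236 : ∀ x ∈ [2, 3, 6], ∀ p : let8 x ∈ Ca, e x = ψ ⟨_, p⟩ := fun x hx p => by
      have hx' : x < 8 ∧ x ≠ 4 := by
        simp only [List.mem_cons, List.not_mem_nil, or_false] at hx; omega
      rw [he, letter_C0 hC θ ψ hx'.1 hx'.2, hg x hx p]
    have hA : ∀ w ∈ ONLocal.base0, prodE e w = 1 := fun w hw => by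
      by_cases h4 : 4 ∈ w
      · have h := word_a hC θ ψ (fun x => [x]) (fun x hx h1 p => ?_) hw h4
        · rwa [show w.flatMap (fun x => [x]) = w from List.flatMap_singleton' w] at h
        · show e x * 1 = _
          rw [mul_one]
          interval_cases x
          · exact e05 0 (by simp) p
          · exact absurd rfl h1
          · exact e236 2 (by simp) p
          · exact e236 3 (by simp) p
          · exact letter_four hC θ ψ
          · exact e05 5 (by simp) p
          · exact e236 6 (by simp) p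
          · rw [e7, e236 6 (by simp) (mem_Ca (by norm_num) (by norm_num)), ψ7]
      · exact hF' w hw h4
    have hag := agree (hg 3 (by simp)) (fun p => by
      have hm : ∀ x ∈ [2, 6, 2, 6], let8 x ∈ Ca := fun x hx => by
        simp only [List.mem_cons, List.not_mem_nil, or_false] at hx
        exact mem_Ca (by omega) (by omega)
      have hm0 : ∀ x ∈ [2, 6, 2, 6], let8 x ∈ C0 := fun x hx => by
        simp only [List.mem_cons, List.not_mem_nil, or_false] at hx
        exact mem_C0 hC (by omega) (by omega)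
      obtain ⟨_, a1⟩ := prodE_hom ψ e [2, 6, 2, 6] hm (fun x hx => e236 x (by
        simp only [List.mem_cons, List.not_mem_nil, or_false] at hx ⊢; omega) _)
      obtain ⟨_, a2⟩ := prodE_hom θ e [2, 6, 2, 6] hm0 (fun x hx => letter_C0 hC θ ψ (by
        simp only [List.mem_cons, List.not_mem_nil, or_false] at hx; omega) (by
        simp only [List.mem_cons, List.not_mem_nil, or_false] at hx; omega))
      exact a1.symm.trans a2)
    rcases opt hag with hu | ⟨i, hi⟩
    · obtain ⟨φ, hφ⟩ := ONLocal.exists_hom (genMap hC θ ψ) (genMap_invol hC θ ψ)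
        (fun w hw => (List.mem_append.1 hw).elim (hA w) (hu w))
      have hφe : ∀ (x : ON.Gen) (hx : idx x ≠ 4), φ (let8 (idx x)) = θ ⟨_, mem_C0 hC (by cases x <;> decide) hx⟩ :=
        fun x hx => (congrArg φ (letterVal_idx gen x : let8 (idx x) = gen x)).trans
          ((hφ x).trans (by rw [genMap, dif_neg hx]))
      have hr : ∀ x : C0, θ x = φ (x : ON) := by
        intro x
        have hx : (x : ON) ∈ Subgroup.closure (let8 '' {k | k ∈ [0, 1, 2, 3, 5, 6]}) := by rw [hgen]; exact x.2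
        suffices h : ∀ y (hy : y ∈ Subgroup.closure (let8 '' {k | k ∈ [0, 1, 2, 3, 5, 6]})),
            ∀ hy' : y ∈ C0, θ ⟨y, hy'⟩ = φ y from h _ hx x.2
        intro y hy
        induction hy using Subgroup.closure_induction with
        | mem y hy =>
          obtain ⟨k, hk, rfl⟩ := hy
          intro hy'
          simp only [Set.mem_setOf_eq, List.mem_cons, List.not_mem_nil, or_false] at hk
          rcases hk with rfl | rfl | rfl | rfl | rfl | rfl
          · exact (hφe ON.Gen.a (by decide)).symm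
          · exact (hφe ON.Gen.b (by decide)).symm
          · exact (hφe ON.Gen.c (by decide)).symm
          · exact (hφe ON.Gen.d (by decide)).symm
          · exact (hφe ON.Gen.f (by decide)).symm
          · exact (hφe ON.Gen.g (by decide)).symm
        | one => intro hy'; rw [map_one, show (⟨1, hy'⟩ : C0) = 1 from rfl, map_one]
        | mul a b ha hb iha ihb =>
          intro hy'
          have ha' : a ∈ C0 := hgen ▸ ha
          have hb' : b ∈ C0 := hgen ▸ hb
          rw [map_mul, ← iha ha', ← ihb hb', ← map_mul]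
          rfl
        | inv a ha iha =>
          intro hy'
          have ha' : a ∈ C0 := hgen ▸ ha
          rw [map_inv, ← iha ha', ← map_inv]
          rfl
      have hft : φ (let8 5) = t := (hr fS).symm.trans hf
      have hφinj : Function.Injective φ := by
        rw [← MonoidHom.ker_eq_bot_iff]
        refine (φ.normal_ker.eq_bot_or_eq_top).resolve_right fun htop => ?_
        have h5 : φ (let8 5) = 1 := by rw [← MonoidHom.mem_ker, htop]; exact Subgroup.mem_top _
        rw [hft] at h5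
        rw [h5, orderOf_one] at ht
        norm_num at ht
      refine ⟨φ, hφinj, hft, fun y hy => ?_⟩
      rw [hft] at hy
      obtain ⟨x, rfl⟩ := hrange y (Subgroup.mem_centralizer_singleton_iff.1 hy)
      exact ⟨x, (hr x).symm⟩
    · exact absurd (ONLocal.collapse e hp hA i hi) hab
  · -- the twisted gluing
    exact (no_twist θ ψ hinj hrange hf (h05 5 (by simp)) hg3 hg2 hg6 hgen hcard).elim

end Cfsg.Agent.ONGlue
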