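import Cfsg.Agent.Lib.ONGroup.Simple

/-!
# Finite subgroups of the presented O'Nan group given by a table
-/

set_option autoImplicit false

noncomputable section

namespace Cfsg.Agent.ONGlue

open Cfsg.Agent.InvCoset Cfsg.Agent.ONGroup

/-- The value of a word in the presented group. -/
abbrev val (w : List ℕ) : Spor.ON := prodE let8 w

/-- Two words agree on the three rows. -/
def sameW (u v : List ℕ) : Bool := inRange 8 v && fixesThree (u ++ invW ONTable.iv v)

theorem val_append (u v : List ℕ) : val (u ++ v) = val u * val v := prodE_append _ u v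

theorem val_invW {v : List ℕ} (h : inRange 8 v = true) : val (invW ONTable.iv v) = (val v)⁻¹ :=
  prodE_invW let8_paired v (inRange_spec h)

theorem val_eq_of_sameW {u v : List ℕ} (h : sameW u v = true) : val u = val v := by
  rw [sameW, Bool.and_eq_true] at h
  have := word_one h.2
  rw [prodE_append, show prodE let8 (invW ONTable.iv v) = _ from val_invW h.1] at this
  exact mul_inv_eq_one.1 this

/-- The three rows reached by a word, packed. -/
def key (w : List ℕ) : ℕ :=
  Nat.add (ONTable.table.runW w 0) (Nat.mul 131072 (Nat.add (ONTable.table.runW w 3)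
    (Nat.mul 131072 (ONTable.table.runW w 113129))))

theorem key_eq {u v : List ℕ} (hu : inRange 8 u = true) (hv : inRange 8 v = true) (h : val u = val v) :
    key u = key v := by
  have run : ∀ w, inRange 8 w = true → ∀ c : Row, (act122760 (val w)⁻¹ c : ℕ) = ONTable.table.runW w c := by
    intro w hw c
    have hrng : ∀ y ∈ w, y < ONTable.table.K := inRange_spec (K := 8) hw
    rw [map_inv, map_prodE_permE certified let8 act122760 act_letter w hrng, ← Equiv.Perm.smul_def, ← actW_eq]
    exact actW_permE certified w hrng c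
  have e : ∀ c : Row, ONTable.table.runW u c = ONTable.table.runW v c := fun c => by
    rw [← run u hu c, ← run v hv c, h]
  rw [key, key, show ONTable.table.runW u 0 = _ from e row0, show ONTable.table.runW u 3 = _ from e row1,
    show ONTable.table.runW u 113129 = _ from e row2]
  rfl

/-- A generated subgroup with an index for each element. -/
structure Code where
  r : ℕ
  gs : List (List ℕ)
  N : ℕ
  ws : List (List ℕ)
  T : ℕ
  ord : List ℕ
  pos : List ℕ

namespace Code

variable (D : Code)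

/-- A word for an element in the letters. -/
def word (i : ℕ) : List ℕ := (D.ws.getD i []).flatMap fun k => D.gs.getD k []

/-- The product by a generator. -/
def tgt (i k : ℕ) : ℕ := Nat.land (Nat.shiftRight D.T (Nat.mul 8 (Nat.add (Nat.mul D.r i) k))) 255

/-- The product by a word in the generators. -/
def follow (q : ℕ) (w : List ℕ) : ℕ := w.foldl D.tgt q

/-- The product. -/
def mul (i j : ℕ) : ℕ := D.follow i (D.ws.getD j [])

/-- The image of a word under prescribed images of the generators. -/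
def ev (img : List ℕ) (w : List ℕ) : ℕ := w.foldl (fun q k => D.mul q (img.getD k 0)) 0

/-- The image of an element. -/
def evI (img : List ℕ) (i : ℕ) : ℕ := D.ev img (D.ws.getD i [])

/-- Strictly increasing keys. -/
def incKeys : List ℕ → Bool
  | x :: y :: l => Nat.blt (key (D.word x)) (key (D.word y)) && incKeys (y :: l)
  | _ => true

/-- The conditions on the data. -/
def check : Bool :=
  Nat.blt 0 D.N && (D.ws.getD 0 []).isEmpty &&
  ((List.range D.N).all fun i => (D.ws.getD i []).all fun k => Nat.blt k D.r) &&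
  ((List.range D.r).all fun k => inRange 8 (D.gs.getD k [])) &&
  ((List.range D.N).all fun i => inRange 8 (D.word i) && (List.range D.r).all fun k =>
    Nat.blt (D.tgt i k) D.N && sameW (D.word i ++ D.gs.getD k []) (D.word (D.tgt i k))) &&
  D.incKeys D.ord &&
  ((List.range D.N).all fun i => Nat.blt (D.pos.getD i 0) D.ord.length && Nat.beq (D.ord.getD (D.pos.getD i 0) 0) i)

/-- The element of an index. -/
abbrev el (i : ℕ) : Spor.ON := val (D.word i)

/-- The generators. -/
abbrev gen (k : ℕ) : Spor.ON := val (D.gs.getD k [])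

/-- The subgroup. -/
def sub : Subgroup Spor.ON := Subgroup.closure (D.gen '' {k | k < D.r})

theorem gen_mem {k : ℕ} (hk : k < D.r) : D.gen k ∈ D.sub := Subgroup.subset_closure ⟨k, hk, rfl⟩

variable {D}

theorem incKeys_pairwise : ∀ {l : List ℕ}, D.incKeys l = true → l.Pairwise fun x y => key (D.word x) < key (D.word y)
  | [], _ => List.Pairwise.nil
  | [x], _ => List.pairwise_singleton _ _
  | x :: y :: l, h => by
    rw [incKeys, Bool.and_eq_true] at h
    have ih := incKeys_pairwise h.2
    have hxy : key (D.word x) < key (D.word y) := Nat.blt_eq ▸ h.1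
    refine List.pairwise_cons.2 ⟨fun z hz => ?_, ih⟩
    rcases List.mem_cons.1 hz with rfl | hz
    · exact hxy
    · exact hxy.trans ((List.pairwise_cons.1 ih).1 z hz)

variable (hD : D.check = true)
include hD

theorem check_spec : 0 < D.N ∧ D.ws.getD 0 [] = [] ∧ (∀ i < D.N, ∀ k ∈ D.ws.getD i [], k < D.r) ∧
    (∀ k < D.r, inRange 8 (D.gs.getD k []) = true) ∧
    (∀ i < D.N, inRange 8 (D.word i) = true ∧ ∀ k < D.r, D.tgt i k < D.N ∧
      sameW (D.word i ++ D.gs.getD k []) (D.word (D.tgt i k)) = true) ∧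
    D.incKeys D.ord = true ∧
    ∀ i < D.N, D.pos.getD i 0 < D.ord.length ∧ D.ord.getD (D.pos.getD i 0) 0 = i := by
  simp only [check, Bool.and_eq_true, List.all_eq_true, List.mem_range, Nat.blt_eq, List.isEmpty_iff,
    Nat.beq_eq] at hD
  obtain ⟨⟨⟨⟨⟨⟨h0, h1⟩, h2⟩, h3⟩, h4⟩, h5⟩, h6⟩ := hD
  exact ⟨h0, h1, h2, h3, h4, h5, h6⟩

theorem el_zero : D.el 0 = 1 := by
  obtain ⟨-, h, -⟩ := check_spec hD
  rw [el, word, h]
  rfl

theorem tgt_lt {i k : ℕ} (hi : i < D.N) (hk : k < D.r) : D.tgt i k < D.N :=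
  (((check_spec hD).2.2.2.2.1 i hi).2 k hk).1

theorem el_tgt {i k : ℕ} (hi : i < D.N) (hk : k < D.r) : D.el (D.tgt i k) = D.el i * D.gen k := by
  have h := val_eq_of_sameW (((check_spec hD).2.2.2.2.1 i hi).2 k hk).2
  rw [val_append] at h
  exact h.symm

theorem ws_lt {i : ℕ} (hi : i < D.N) : ∀ k ∈ D.ws.getD i [], k < D.r := (check_spec hD).2.2.1 i hi

theorem follow_spec : ∀ (w : List ℕ), (∀ k ∈ w, k < D.r) → ∀ {q : ℕ}, q < D.N →
    D.follow q w < D.N ∧ D.el (D.follow q w) = D.el q * val (w.flatMap fun k => D.gs.getD k [])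
  | [], _, q, hq => ⟨hq, by show D.el q = _; simp [val, prodE]⟩
  | k :: w, hw, q, hq => by
    have hk := hw k List.mem_cons_self
    obtain ⟨h1, h2⟩ := follow_spec w (fun j hj => hw j (List.mem_cons_of_mem _ hj)) (tgt_lt hD hq hk)
    refine ⟨h1, ?_⟩
    show D.el (D.follow (D.tgt q k) w) = _
    rw [h2, el_tgt hD hq hk, List.flatMap_cons, val_append, mul_assoc]

theorem mul_lt {i j : ℕ} (hi : i < D.N) (hj : j < D.N) : D.mul i j < D.N :=
  (follow_spec hD _ (ws_lt hD hj) hi).1

theorem el_mul {i j : ℕ} (hi : i < D.N) (hj : j < D.N) : D.el (D.mul i j) = D.el i * D.el j :=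
  (follow_spec hD _ (ws_lt hD hj) hi).2

theorem el_inj {i j : ℕ} (hi : i < D.N) (hj : j < D.N) (h : D.el i = D.el j) : i = j := by
  obtain ⟨-, -, -, -, hw, hinc, hpos⟩ := check_spec hD
  obtain ⟨a1, a2⟩ := hpos i hi
  obtain ⟨b1, b2⟩ := hpos j hj
  have hk : key (D.word i) = key (D.word j) := key_eq (hw i hi).1 (hw j hj).1 h
  have hp := List.pairwise_iff_getElem.1 (incKeys_pairwise hinc)
  rw [List.getD_eq_getElem _ _ a1] at a2
  rw [List.getD_eq_getElem _ _ b1] at b2
  rcases lt_trichotomy (D.pos.getD i 0) (D.pos.getD j 0) with hlt | heq | hgt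
  · have := hp _ _ a1 b1 hlt
    rw [a2, b2] at this
    exact absurd hk this.ne
  · rw [← a2, ← b2]; congr 1
  · have := hp _ _ b1 a1 hgt
    rw [a2, b2] at this
    exact absurd hk this.ne'

theorem el_mem {i : ℕ} (hi : i < D.N) : D.el i ∈ D.sub := by
  have h : ∀ w : List ℕ, (∀ k ∈ w, k < D.r) → val (w.flatMap fun k => D.gs.getD k []) ∈ D.sub := by
    intro w
    induction w with
    | nil => intro _; exact one_mem _
    | cons k w ih =>
      intro hw
      rw [List.flatMap_cons, val_append]
      exact mul_mem (D.gen_mem (hw k List.mem_cons_self)) (ih fun j hj => hw j (List.mem_cons_of_mem _ hj))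
  exact h _ (ws_lt hD hi)

/-- The image of the code. -/
theorem coe_sub : (D.sub : Set Spor.ON) = D.el '' {i | i < D.N} := by
  classical
  let S : Submonoid Spor.ON :=
    { carrier := D.el '' {i | i < D.N}
      one_mem' := ⟨0, (check_spec hD).1, el_zero hD⟩
      mul_mem' := by
        rintro _ _ ⟨i, hi, rfl⟩ ⟨j, hj, rfl⟩
        exact ⟨D.mul i j, mul_lt hD hi hj, el_mul hD hi hj⟩ }
  haveI : Finite Spor.ON := Nat.finite_of_card_ne_zero (by rw [card_ON]; norm_num)
  refine Set.Subset.antisymm (fun x hx => ?_) ?_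
  · let H : Subgroup Spor.ON :=
      { toSubmonoid := S
        inv_mem' := fun {x} hx => by
          obtain ⟨n, hn, h'⟩ : ∃ n, 0 < n ∧ x ^ n = 1 :=
            (isOfFinOrder_iff_pow_eq_one.1 (isOfFinOrder_of_finite x))
          have : x⁻¹ = x ^ (n - 1) := inv_eq_of_mul_eq_one_right (by rw [← pow_succ', Nat.sub_add_cancel hn, h'])
          rw [this]
          exact pow_mem (show x ∈ S from hx) _ }
    refine (Subgroup.closure_le H).2 ?_ hx
    rintro _ ⟨k, hk, rfl⟩
    exact ⟨D.tgt 0 k, tgt_lt hD (check_spec hD).1 hk, by rw [el_tgt hD (check_spec hD).1 hk, el_zero hD, one_mul]⟩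
  · rintro _ ⟨i, hi, rfl⟩
    exact el_mem hD hi

theorem mem_sub {x : Spor.ON} : x ∈ D.sub ↔ ∃ i < D.N, D.el i = x := by
  rw [← SetLike.mem_coe, coe_sub hD]; rfl

theorem card_sub : Nat.card D.sub = D.N := by
  have e : Nat.card D.sub = Nat.card (Fin D.N) := by
    refine (Nat.card_congr (Equiv.ofBijective (fun i : Fin D.N => (⟨D.el i, el_mem hD i.2⟩ : D.sub)) ⟨?_, ?_⟩)).symm
    · exact fun i j h => Fin.ext (el_inj hD i.2 j.2 (congrArg Subtype.val h))
    · rintro ⟨x, hx⟩
      obtain ⟨i, hi, rfl⟩ := (mem_sub hD).1 hx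
      exact ⟨⟨i, hi⟩, rfl⟩
  rw [e, Nat.card_fin]

theorem ev_spec {f : D.sub →* Spor.ON} {img : List ℕ} (hi : ∀ k < D.r, img.getD k 0 < D.N)
    (hf : ∀ k (hk : k < D.r), f ⟨D.gen k, D.gen_mem hk⟩ = D.el (img.getD k 0)) :
    ∀ i (hi : i < D.N), D.evI img i < D.N ∧ f ⟨D.el i, el_mem hD hi⟩ = D.el (D.evI img i) := by
  have key : ∀ (w : List ℕ), (∀ k ∈ w, k < D.r) → ∀ q < D.N,
      ∃ h : val (w.flatMap fun k => D.gs.getD k []) ∈ D.sub,
        w.foldl (fun q k => D.mul q (img.getD k 0)) q < D.N ∧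
        D.el (w.foldl (fun q k => D.mul q (img.getD k 0)) q) = D.el q * f ⟨_, h⟩ := by
    intro w
    induction w with
    | nil =>
      intro _ q hq
      refine ⟨one_mem _, hq, ?_⟩
      show D.el q = D.el q * f 1
      rw [map_one, mul_one]
    | cons k w ih =>
      intro hw q hq
      have hk := hw k List.mem_cons_self
      obtain ⟨h, h1, h2⟩ := ih (fun j hj => hw j (List.mem_cons_of_mem _ hj)) _ (mul_lt hD hq (hi k hk))
      have hmem : val ((k :: w).flatMap fun k => D.gs.getD k []) ∈ D.sub := by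
        rw [List.flatMap_cons, val_append]; exact mul_mem (D.gen_mem hk) h
      refine ⟨hmem, h1, ?_⟩
      rw [List.foldl_cons, h2, el_mul hD hq (hi k hk), ← hf k hk,
        show (⟨_, hmem⟩ : D.sub) = ⟨D.gen k, D.gen_mem hk⟩ * ⟨_, h⟩ from Subtype.ext (val_append _ _),
        map_mul, mul_assoc]
  intro i hiN
  obtain ⟨h, h1, h2⟩ := key _ (ws_lt hD hiN) 0 (check_spec hD).1
  refine ⟨h1, ?_⟩
  rw [el_zero hD, one_mul] at h2
  exact h2.symm

end Code

end Cfsg.Agent.ONGlue
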