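import Cfsg.Agent.Lib.ONGlue.Orbit
import Cfsg.Agent.Lib.ONLocal.Words

/-!
# Data for the extensions of the conjugation by `e d f e` to `C(f, d)`

`XCode` is the subgroup of order 144 generated by `a, d, f, (cg)^2, b`; `conjU` lists conjugators giving
1120 conjugates of `d` in `C(f)`, by increasing key.
-/

set_option autoImplicit false
set_option maxRecDepth 100000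

noncomputable section

namespace Cfsg.Agent.ONGlue

/-- The subgroup `C(f, d)`. -/
def XCode : Code where
  r := 5
  gs := [[0], [3], [5], [2, 6, 2, 6], [1]]
  N := 144
  ws := [
    [], [0], [1], [2], [3], [4],
    [0, 1], [0, 2], [0, 3], [0, 4], [1, 2], [1, 3],
    [1, 4], [2, 3], [2, 4], [3, 4], [4, 0], [4, 3],
    [0, 1, 2], [0, 1, 3], [0, 1, 4], [0, 2, 3], [0, 2, 4], [0, 3, 4],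
    [0, 4, 0], [0, 4, 3], [1, 2, 3], [1, 2, 4], [1, 3, 4], [1, 4, 0],
    [1, 4, 3], [2, 3, 4], [2, 4, 0], [2, 4, 3], [3, 4, 0], [3, 4, 3],
    [4, 0, 3], [4, 3, 4], [0, 1, 2, 3], [0, 1, 2, 4], [0, 1, 3, 4], [0, 1, 4, 0],
    [0, 1, 4, 3], [0, 2, 3, 4], [0, 2, 4, 0], [0, 2, 4, 3], [0, 3, 4, 0], [0, 3, 4, 3],
    [0, 4, 0, 3], [0, 4, 3, 4], [1, 2, 3, 4], [1, 2, 4, 0], [1, 2, 4, 3], [1, 3, 4, 0],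
    [1, 3, 4, 3], [1, 4, 0, 3], [1, 4, 3, 4], [2, 3, 4, 0], [2, 3, 4, 3], [2, 4, 0, 3],
    [2, 4, 3, 4], [3, 4, 0, 3], [3, 4, 3, 4], [4, 0, 3, 4], [4, 3, 4, 0], [4, 3, 4, 3],
    [0, 1, 2, 3, 4], [0, 1, 2, 4, 0], [0, 1, 2, 4, 3], [0, 1, 3, 4, 0], [0, 1, 3, 4, 3], [0, 1, 4, 0, 3],
    [0, 1, 4, 3, 4], [0, 2, 3, 4, 0], [0, 2, 3, 4, 3], [0, 2, 4, 0, 3], [0, 2, 4, 3, 4], [0, 3, 4, 0, 3],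
    [0, 3, 4, 3, 4], [0, 4, 0, 3, 4], [0, 4, 3, 4, 0], [0, 4, 3, 4, 3], [1, 2, 3, 4, 0], [1, 2, 3, 4, 3],
    [1, 2, 4, 0, 3], [1, 2, 4, 3, 4], [1, 3, 4, 0, 3], [1, 3, 4, 3, 4], [1, 4, 0, 3, 4], [1, 4, 3, 4, 0],
    [1, 4, 3, 4, 3], [2, 3, 4, 0, 3], [2, 3, 4, 3, 4], [2, 4, 0, 3, 4], [2, 4, 3, 4, 0], [2, 4, 3, 4, 3],
    [3, 4, 3, 4, 0], [4, 0, 3, 4, 0], [4, 3, 4, 0, 3], [0, 1, 2, 3, 4, 0], [0, 1, 2, 3, 4, 3], [0, 1, 2, 4, 0, 3],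
    [0, 1, 2, 4, 3, 4], [0, 1, 3, 4, 0, 3], [0, 1, 3, 4, 3, 4], [0, 1, 4, 0, 3, 4], [0, 1, 4, 3, 4, 0], [0, 1, 4, 3, 4, 3],
    [0, 2, 3, 4, 0, 3], [0, 2, 3, 4, 3, 4], [0, 2, 4, 0, 3, 4], [0, 2, 4, 3, 4, 0], [0, 2, 4, 3, 4, 3], [0, 3, 4, 3, 4, 0],
    [0, 4, 0, 3, 4, 0], [0, 4, 3, 4, 0, 3], [1, 2, 3, 4, 0, 3], [1, 2, 3, 4, 3, 4], [1, 2, 4, 0, 3, 4], [1, 2, 4, 3, 4, 0],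
    [1, 2, 4, 3, 4, 3], [1, 3, 4, 3, 4, 0], [1, 4, 0, 3, 4, 0], [1, 4, 3, 4, 0, 3], [2, 3, 4, 3, 4, 0], [2, 4, 0, 3, 4, 0],
    [2, 4, 3, 4, 0, 3], [0, 1, 2, 3, 4, 0, 3], [0, 1, 2, 3, 4, 3, 4], [0, 1, 2, 4, 0, 3, 4], [0, 1, 2, 4, 3, 4, 0], [0, 1, 2, 4, 3, 4, 3],
    [0, 1, 3, 4, 3, 4, 0], [0, 1, 4, 0, 3, 4, 0], [0, 1, 4, 3, 4, 0, 3], [0, 2, 3, 4, 3, 4, 0], [0, 2, 4, 0, 3, 4, 0], [0, 2, 4, 3, 4, 0, 3],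
    [1, 2, 3, 4, 3, 4, 0], [1, 2, 4, 0, 3, 4, 0], [1, 2, 4, 3, 4, 0, 3], [0, 1, 2, 3, 4, 3, 4, 0], [0, 1, 2, 4, 0, 3, 4, 0], [0, 1, 2, 4, 3, 4, 0, 3]]
  T := 0x8a6686898382808588818c8e8487808d557b7e7877757a7d768f8b797c757c4c738f706f6d728e6e7e88718d6d79488f736b6a688e72697b858d716874826b708f8e8f6a6f66658d696e8e6481686d8d7842676c64873c628c5f5e5c618b5d897d608a5c84388c625a59578b6158867a8a60577f775a5f8c8b8c595e55548a585d8b5376575c8a8332565b536031898651504e88854f627287844e5b6f518389888950824c4b874f81884a6e4e80875f2b4d7f4a566a83518685868250484784814f854669804e845a287f4d464483484c828127474b448063464a7f527f45494271257e7b41403e7d7a3f73617c793e6c5e41787e7d7e40773c3b7c3f767d3a5d3e757c70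1f3d743a675978417b7a7b7740383779763f7a3658753e796b1c743d363478383c77761b373b347552363a7463743539323d50706b7372736f6a3130716e69722f4f6d687141176c672f2d7031666f6e1630652d6d492f646c396c2e632b2a6b66316a691465302a6845642f673567632e2866432a2d653365292c272664282b634d405f5a6261625e592524605d5861233f5c5760510f5b5623215f25555e5d0e2454215c3923535b495b22521f1e5a552559580c54241e5735532356455652221c55331e215443541d201b1a531c1f5219514c48504f094b47194e2e4a464d224d4945174c2c19444b204b184316154a17424948294419471d4743181413464217451244141643420a13151a11413c38403f053b37113e223a363d2e3d39350f3c2011343b2c3b10330e0d3a0f3239381d341137293733100c0b36320f350a340c0e3332120b0d2631182d2a3010302c2909082f2b282e072d09272c2b0308260d062a270929280226080b272606070a2510211e241824201d0504231f1c220321051b201f07041a15021e1b051d1c061a04131b1a020312011916141817001513041615011203141312010200110e0c100f010d0b080e0d000a070c0b0a000609080706000504030201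
  ord := [
    1, 9, 131, 112, 42, 72, 68, 102, 105, 79, 129, 110, 120, 127, 28, 15, 2, 12, 13, 31, 50, 26, 91, 122,
    89, 38, 21, 114, 133, 95, 108, 47, 78, 104, 70, 128, 100, 143, 137, 6, 18, 142, 29, 51, 84, 59, 33, 60,
    52, 16, 55, 36, 27, 14, 30, 56, 85, 17, 141, 135, 103, 90, 65, 77, 20, 93, 118, 4, 11, 132, 37, 101,
    71, 39, 22, 113, 98, 96, 121, 62, 87, 136, 10, 5, 123, 140, 63, 32, 88, 83, 58, 126, 64, 139, 125, 99,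
    82, 3, 8, 0, 7, 94, 53, 34, 69, 74, 66, 46, 40, 19, 109, 43, 97, 106, 80, 54, 35, 119, 67, 45,
    44, 57, 73, 111, 25, 41, 116, 134, 124, 130, 107, 86, 81, 61, 115, 23, 49, 24, 48, 76, 138, 117, 92, 75]
  pos := [
    99, 0, 16, 97, 67, 83, 39, 100, 98, 1, 82, 68, 17, 18, 53, 15, 49, 57, 40, 109, 64, 26, 74, 135,
    137, 124, 21, 52, 14, 42, 54, 19, 87, 46, 103, 116, 51, 70, 25, 73, 108, 125, 4, 111, 120, 119, 107, 31,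
    138, 136, 20, 43, 48, 102, 115, 50, 55, 121, 90, 45, 47, 133, 79, 86, 92, 62, 106, 118, 6, 104, 34, 72,
    5, 122, 105, 143, 139, 63, 32, 9, 114, 132, 96, 89, 44, 56, 131, 80, 88, 24, 61, 22, 142, 65, 101, 29,
    77, 112, 76, 95, 36, 71, 7, 60, 33, 8, 113, 130, 30, 110, 11, 123, 3, 75, 27, 134, 126, 141, 66, 117,
    12, 78, 23, 84, 128, 94, 91, 13, 35, 10, 129, 2, 69, 28, 127, 59, 81, 38, 140, 93, 85, 58, 41, 37]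

/-- The images of the first four generators. -/
def img0 : List ℕ := [1, 3, 2, 26]

/-- The middle parts of the six relations with their indices. -/
def mids : List (List ℕ × ℕ) := [([0], 1), ([1], 5), ([3], 2), ([5], 3), ([6, 1, 6], 112), ([2, 6, 2, 6], 4)]

/-- Conjugators for 1120 conjugates of `d`. -/
def conjU : List (List ℕ) := [
    [7, 3, 2, 3, 1, 2, 3, 0, 1, 2], [3, 7, 1, 2, 3, 0, 1, 2], [3, 7, 2, 3, 1, 2, 3, 0, 1, 2], [3, 6, 2, 3, 1, 2],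
    [3, 6, 2, 1, 6, 3, 2], [3, 7, 1, 2, 0, 1, 6, 3, 2], [7, 2, 6, 3, 1, 2, 0, 1, 6, 3, 2], [7, 2, 3, 6, 1, 2, 0, 1, 6, 3, 2],
    [7, 1, 2, 3, 2, 0, 1, 6, 2, 3, 2], [2, 3, 2, 6, 1, 2, 3, 2], [6, 3, 2, 1, 6, 3, 2], [7, 1, 6, 2, 3, 1, 6, 2],
    [7, 1, 2, 3, 2, 6, 1, 2], [6, 2, 1, 6, 3, 2, 3, 1, 2], [1, 2, 3, 7, 1, 2, 0, 1, 6, 3, 2], [1, 2, 7, 3, 1, 2, 3, 0, 1, 2],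
    [3, 2, 6, 1, 6, 2, 3, 6, 1, 2], [3, 2, 6, 1, 6, 2, 6, 3, 1, 2], [6, 3, 1, 7, 1, 2, 3, 0, 1, 2], [2, 7, 3, 2, 1, 6, 2, 3, 2],
    [3, 2, 7, 1, 2, 3, 2, 6, 1, 2], [1, 2, 3, 2, 6, 1, 2], [1, 6, 2, 3, 1, 2], [3, 1, 6, 1, 2, 3, 0, 1, 2],
    [0, 1, 6, 1, 2, 3, 0, 1, 2], [1, 2, 7, 3, 2, 1, 6, 2, 3, 1, 2], [1, 6, 1, 2, 3, 1, 7, 1, 2], [1, 6, 1, 2, 1, 7, 3, 1, 2],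
    [0, 1, 6, 2, 6, 3, 1, 2], [2, 3, 1, 7, 1, 2], [3, 2, 7, 3, 1, 6, 2, 6, 3, 1, 2], [2, 7, 1, 6, 1, 2, 3, 1, 2],
    [6, 1, 7, 1, 2], [1, 2, 3, 2, 6, 1, 6, 2, 3, 2], [3, 7, 2, 3, 1, 2, 7, 1, 2, 3, 2], [1, 7, 2, 3, 2, 1, 6, 2, 3, 1, 2],
    [3, 2, 3, 1, 2, 7, 1, 2, 3, 2], [1, 2, 1, 6, 3, 1, 2, 3, 0, 1, 2], [1, 6, 1, 2, 3, 1, 6, 1, 2], [1, 7, 1, 2, 6, 3, 6, 1, 2],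
    [3, 1, 2, 6, 1, 6, 3, 2], [2, 6, 1, 2, 3, 6], [3, 1, 2, 3, 6, 1, 2], [6, 2, 6, 3, 1, 2, 3, 1, 2],
    [2, 3, 2, 1, 7, 1, 2, 3, 2], [2, 3, 2, 3, 1, 7, 1, 2, 3, 2], [2, 3, 1, 7, 2, 1, 6, 3, 2], [1, 2, 3, 7, 2, 1, 6, 2, 3, 2],
    [1, 2, 7, 3, 2, 1, 6, 2, 3, 2], [3, 1, 6, 1, 2, 7, 3, 1, 2], [3, 2, 3, 1, 2, 7, 3, 1, 6, 2], [6, 2, 3, 6, 1, 2, 3, 2],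
    [1, 7, 1, 2, 6, 3, 1, 2], [3, 1, 7, 1, 2, 6, 3, 1, 2], [2, 3, 2, 1, 6, 1, 2, 3, 1, 2], [3, 2, 7, 1, 2, 3, 7, 1, 2],
    [3, 2, 7, 1, 2, 7, 3, 1, 2], [3, 2, 3, 0, 1, 6, 2, 3, 1, 2], [6, 1, 6, 2, 3, 1, 2, 3, 1, 2], [2, 3, 0, 1, 2, 7, 3, 1, 2],
    [2, 7, 1, 7, 3, 2, 6, 3, 1, 2], [3, 1, 6, 2, 3, 1, 2], [3, 2, 7, 1, 6, 3, 2, 6, 3, 1, 2], [2, 6, 3, 1, 7, 2, 6, 3, 1, 2],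
    [6, 2, 3, 1, 2, 3, 0, 1, 2], [1, 7, 1, 2, 6, 3, 1, 6, 2], [1, 2, 3, 2, 0, 1, 6, 2, 3, 1, 2], [1, 6, 2, 1, 6, 3, 2],
    [6, 2, 3, 6, 1, 2, 3, 0, 1, 2], [7, 1, 2, 3, 6, 1, 2], [2, 3, 1, 6, 1, 2], [6, 1, 7, 3, 1, 2, 3, 0, 1, 2],
    [7, 3, 1, 2], [3, 7, 1, 2], [3, 1, 2, 6, 1, 2, 3, 0, 1, 2], [1, 2, 3, 7, 1, 2, 3, 0, 1, 2],
    [3, 1, 7, 1, 2, 3, 2], [3, 6, 2], [1, 7, 1, 2, 3, 6, 1, 2], [1, 2, 6, 3, 6, 1, 2, 3, 1, 2],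
    [3, 2, 6, 3, 1, 2], [7, 3, 1, 2, 3, 1, 2], [7, 1, 2, 3, 7, 1, 2], [3, 1, 2, 6, 3, 1, 2],
    [2, 7, 1, 6, 2, 3, 6, 1, 2], [3, 1, 6, 2, 1, 6, 3, 2], [2, 1, 7, 3, 1, 2], [7, 2, 3, 6, 1, 2, 3, 1, 2],
    [6, 3, 2, 1, 6, 2, 3, 2], [7, 2, 3, 1, 2, 3, 0, 1, 6, 2], [2, 7, 1, 6, 2, 3, 2], [3, 2, 3, 1, 2, 7, 3, 1, 2],
    [2, 3, 1, 7, 1, 2, 3, 2], [2, 3, 2, 1, 7, 1, 6, 2, 3, 1, 2], [6, 2, 6, 3, 1, 2], [6, 3, 2, 3, 1, 2],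
    [6, 1, 6, 2], [6, 3, 1, 6, 2], [6, 1, 2, 3, 6], [7, 3, 1, 2, 3, 2, 1, 6, 2, 3, 2],
    [6, 1, 6, 3, 2], [7, 1, 7, 2, 3, 6, 1, 2], [2, 3, 6, 1, 2, 1, 7, 3, 1, 2], [2, 3, 2, 7, 1, 6, 1, 2, 3, 1, 2],
    [2, 1, 7, 3, 2, 1, 6, 3, 2], [7, 3, 1, 2, 3, 0, 1, 2], [6, 2, 3, 1, 2, 3, 1, 2], [3, 2, 6, 3, 1, 6, 2],
    [2, 7, 1, 2, 3, 0, 1, 2], [7, 3, 1, 6, 1, 2, 1, 7, 3, 1, 2], [1, 2, 3, 2, 3, 1, 2, 7, 3, 1, 2], [7, 1, 6, 3, 2, 3, 1, 2],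
    [1, 2, 6, 1, 2, 3, 7, 1, 2], [7, 1, 2, 3, 1, 2, 6, 1, 2], [6, 3, 6, 2, 1, 6, 2, 3, 1, 2], [2, 3, 2, 7, 1, 2, 7, 3, 1, 2],
    [3, 7, 1, 2, 3, 1, 2], [6, 1, 2, 3, 0, 1, 2], [7, 2, 1, 6, 2, 3, 1, 2], [2, 3, 2, 6, 1, 2, 3, 0, 1, 2],
    [7, 3, 1, 2, 0, 1, 6, 3, 2], [7, 2, 3, 1, 2], [6, 2, 3, 2, 1, 6, 2, 3, 2], [2, 3, 2, 6, 1, 6, 2, 3, 2],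
    [1, 2, 6, 3, 1, 2, 3, 0, 1, 2], [3, 2, 3, 1, 6, 1, 2, 3, 0, 1, 2], [3, 2, 1, 6, 3, 1, 2, 3, 0, 1, 2], [3, 6, 2, 1, 6, 2, 3, 1, 2],
    [2, 7, 1, 6, 3, 1, 2, 3, 0, 1, 2], [0, 1, 7, 3, 1, 2], [6, 1, 2, 6, 3, 6, 1, 2], [7, 1, 2, 6, 1, 6, 3, 2],
    [0, 1, 2, 3, 2, 1, 6, 1, 2, 3, 1, 2], [3, 1, 7, 1, 2, 6, 1, 6, 3, 2], [7, 1, 7, 2, 6, 3, 1, 2], [6, 1, 2, 3, 1, 7, 1, 2],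
    [7, 2, 3, 6, 1, 2, 3, 0, 1, 2], [7, 1, 6, 3, 1, 2], [2, 7, 1, 6, 2, 6, 3, 1, 2], [7, 2, 6, 3, 1, 2, 3, 0, 1, 2],
    [7, 3, 1, 6, 1, 2], [6, 1, 2, 6, 3, 1, 2], [1, 7, 3, 2, 3, 1, 2], [2, 6, 1, 6, 1, 2, 3, 1, 2],
    [6, 1, 6, 2, 6, 3, 1, 2], [6, 1, 2, 1, 7, 3, 1, 2], [1, 2, 7, 3, 1, 2, 3, 1, 2], [6, 1, 2, 3, 6, 1, 2],
    [6, 2, 6, 1, 6, 2, 3, 1, 2], [1, 7, 1, 6, 3, 2, 6, 3, 1, 2], [2, 3, 1, 7, 1, 2, 3, 0, 1, 2], [2, 3, 2, 6, 1, 6, 3, 1, 2, 3, 1, 2],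
    [2, 3, 1, 2, 3, 7, 1, 2], [6, 1, 2, 7, 3, 1, 2, 7, 1, 6, 3, 2], [1, 7, 2, 3, 6, 1, 2, 3, 1, 2], [1, 7, 3, 1, 6, 2, 6, 3, 1, 2],
    [2, 3, 7, 1, 2], [6, 3, 1, 6, 2, 3, 1, 2], [1, 2, 3, 2, 1, 7, 3, 2, 6, 3, 1, 2], [7, 2, 3, 2, 1, 6, 1, 2, 3, 1, 2],
    [1, 7, 1, 2, 1, 7, 3, 1, 2], [6, 2, 6, 1, 2, 3, 7, 1, 2], [6, 3, 2, 6, 1, 6, 2, 6, 3, 1, 2], [3, 1, 6, 1, 2, 3, 1, 2],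
    [7, 1, 6, 1, 2, 3, 7, 1, 2], [1, 2, 3, 6, 1, 2, 3, 0, 1, 2], [1, 7, 2, 3, 2, 1, 6, 2, 3, 2], [1, 7, 1, 6, 2, 3, 6, 1, 2],
    [1, 7, 1, 2, 3, 1, 7, 1, 2], [3, 7, 1, 2, 6, 1, 6, 2, 3, 2], [7, 1, 6, 1, 2, 3, 1, 2], [0, 1, 2, 6, 1, 2, 3, 2],
    [2, 3, 2, 3, 1, 2, 7, 1, 2, 3, 2], [1, 2, 6, 1, 2, 3, 0, 1, 2], [7, 2, 3, 1, 2, 3, 6, 1, 2], [3, 1, 2, 6, 1, 2, 3, 2],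
    [6, 2, 3, 1, 6, 2, 1, 6, 3, 2], [7, 2, 3, 2, 1, 6, 2, 3, 1, 2], [3, 1, 2, 6, 1, 2, 3, 6, 2], [6, 3, 1, 2, 1, 7, 1, 2, 3, 2],
    [6, 3, 1, 7, 2, 6, 3, 1, 2], [6, 1, 6, 2, 3, 2], [6, 2, 1, 6, 2, 3, 1, 2], [1, 7, 3, 2, 1, 6, 3, 2],
    [7, 1, 6, 2], [2, 3, 1, 2, 1, 7, 1, 2, 3, 2], [2, 7, 3, 1, 2, 0, 1, 6, 3, 2], [6, 2, 3, 1, 6, 2, 3, 1, 2],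
    [6, 3, 6, 2, 3, 1, 2], [2, 6, 3, 2, 1, 6, 2, 3, 1, 2], [6, 3, 2, 3, 1, 2, 3, 0, 1, 2], [7, 3, 1, 2, 7, 3, 1, 2],
    [7, 3, 1, 2, 7, 1, 6, 3, 2], [3, 0, 1, 2, 3, 1, 7, 1, 2], [2, 3, 2, 7, 1, 6, 3, 1, 2, 3, 1, 2], [1, 7, 1, 2, 3, 2, 7, 1, 2, 3, 2],
    [7, 2, 1, 6, 3, 2, 3, 1, 2], [2, 7, 1, 2, 3, 2], [3, 2, 1, 6, 1, 2, 3, 1, 2], [7, 1, 2, 3, 0, 1, 2],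
    [7, 1, 2, 3, 6], [3, 7, 1, 2, 7, 3, 1, 2], [3, 0, 1, 6, 2, 6, 3, 1, 2], [1, 2, 7, 1, 2, 3, 2],
    [7, 2, 6, 3, 1, 2, 7, 3, 1, 2], [7, 2, 3, 1, 6, 2, 1, 6, 3, 2], [2, 6, 1, 6, 2, 3, 1, 2], [7, 2, 3, 1, 6, 2, 3, 1, 2],
    [2, 3, 7, 1, 2, 3, 2], [3, 0, 1, 2, 1, 7, 3, 1, 2], [2, 7, 1, 2, 3, 6, 2], [2, 3, 2, 1, 7, 1, 2, 3, 0, 1, 2],
    [0, 1, 7, 2, 3, 1, 2, 3, 1, 2], [3, 6, 2, 6, 3, 1, 2], [2, 3, 1, 2, 3, 1, 2, 6, 1, 2], [3, 2, 3, 1, 7, 2, 6, 3, 1, 2],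
    [2, 3, 2, 7, 1, 6, 2, 3, 2], [6, 3, 1, 2, 0, 1, 6, 3, 2], [3, 6, 2, 1, 6, 2, 3, 2], [7, 1, 2, 3, 2, 1, 6, 2, 3, 2],
    [3, 2, 3, 1, 2], [7, 3, 6, 2, 3, 1, 2], [6, 3, 6, 2, 3, 1, 2, 3, 0, 1, 2], [1, 2, 3, 0, 1, 2, 3, 0, 1, 2],
    [3, 2, 6, 1, 6, 1, 2, 3, 1, 2], [3, 2, 3, 1, 7, 1, 2, 3, 2], [3, 2, 1, 7, 1, 2, 3, 2], [7, 2, 6, 1, 6, 2, 3, 1, 2],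
    [6, 2, 6, 3, 1, 2, 0, 1, 6, 3, 2], [3, 1, 2, 3, 1, 6, 2], [7, 1, 6, 2, 3, 1, 2], [7, 3, 2, 3, 1, 2, 7, 1, 2, 3, 2],
    [2, 7, 1, 2, 3, 2, 7, 1, 2, 3, 2], [6, 1, 6, 2, 3, 6, 1, 2], [3, 1, 2, 7, 1, 2, 3, 2], [6, 3, 1, 2, 3, 2, 1, 6, 2, 3, 2],
    [2, 3, 0, 1, 2, 3, 1, 7, 1, 2], [2, 1, 7, 1, 2, 3, 2, 6, 1, 2], [], [6, 3, 6, 1, 2, 3, 2],
    [1, 6, 3, 2, 3, 1, 2], [2, 3, 2, 0, 1, 6, 2, 3, 1, 2], [6, 2, 1, 6, 3, 2], [7, 3, 1, 6, 2, 1, 6, 3, 2],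
    [3, 2, 7, 1, 6, 3, 2], [3, 7, 2, 1, 6, 2, 3, 2], [6, 2, 3, 1, 2, 7, 1, 6, 3, 2], [2, 3, 2, 3, 1, 6, 1, 2, 3, 1, 2],
    [3, 0, 1, 7, 2, 6, 3, 1, 2], [3, 2, 3, 7, 1, 2, 3, 2], [2, 3, 2, 7, 1, 6, 2, 3, 1, 2], [6, 1, 2, 3, 1, 2],
    [6, 1, 6, 3, 1, 2, 3, 1, 2], [7, 1, 2, 7, 3, 1, 6, 2], [3, 7, 3, 1, 2], [7, 1, 2],
    [6, 3, 1, 6, 1, 2, 3, 1, 2], [3, 7, 2, 1, 6, 3, 2], [7, 3, 2, 1, 6, 3, 2], [0, 1, 6, 2, 3, 1, 2],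
    [0, 1, 2, 3, 2, 6, 1, 2], [6, 1, 7, 1, 2, 3, 6, 1, 2], [7, 1, 7, 1, 2, 3, 6, 1, 2], [3, 2, 3, 6, 1, 2, 0, 1, 6, 3, 2],
    [3, 2, 3, 7, 1, 2], [3, 2, 6, 1, 2, 3, 0, 1, 2], [1, 7, 1, 2, 3, 0, 1, 2], [6, 3, 2, 1, 7, 3, 2, 6, 3, 1, 2],
    [0, 1, 6, 2, 1, 6, 3, 2], [1, 7, 2, 3, 1, 2, 3, 1, 2], [3, 1, 2, 3, 7, 1, 2, 3, 0, 1, 2], [1, 2, 6, 1, 6, 3, 2],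
    [7, 1, 6, 1, 2], [3, 2, 3, 1, 2, 3, 0, 1, 2], [3, 2, 3, 0, 1, 2], [1, 6, 1, 2],
    [1, 2, 3, 6, 1, 2], [1, 2, 3, 6, 3, 1, 2], [6, 3, 2, 6, 1, 6, 2, 3, 1, 2], [1, 2, 3, 7, 1, 2, 3, 1, 2],
    [7, 1, 6, 2, 1, 6, 3, 2], [3, 2, 3, 1, 6, 1, 2, 3, 1, 2], [6, 2, 3, 2, 1, 6, 3, 1, 2, 3, 1, 2], [6, 1, 7, 2, 3, 1, 2, 3, 0, 1, 2],
    [7, 1, 2, 3, 2, 1, 6, 1, 2, 3, 1, 2], [6, 3, 1, 6, 2, 1, 6, 3, 2], [0, 1, 2, 3, 2, 0, 1, 7, 1, 2, 3, 2], [3, 2, 3, 1, 7, 1, 2, 3, 0, 1, 2],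
    [3, 2, 6, 3, 1, 6, 2, 6, 3, 1, 2], [1, 2, 7, 1, 2, 3, 6, 2], [7, 1, 2, 7, 3, 1, 2], [3, 2, 6, 1, 6, 3, 2, 6, 3, 1, 2],
    [6, 1, 2, 3, 7, 1, 2, 3, 0, 1, 2], [7, 3, 2, 6, 3, 1, 2, 3, 0, 1, 2], [7, 3, 1, 6, 1, 2, 3, 0, 1, 2], [6, 2, 3, 1, 2, 6, 3, 1, 2],
    [1, 7, 3, 2, 1, 6, 2, 3, 1, 2], [2, 6, 3, 1, 2, 1, 7, 3, 1, 2], [1, 2, 3, 1, 6, 1, 2, 3, 0, 1, 2], [0, 1, 2, 7, 1, 6, 3, 2],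
    [7, 1, 7, 3, 1, 2, 3, 1, 2], [2, 6, 1, 2, 3, 2], [1, 2, 6, 1, 2, 7, 3, 1, 2], [0, 1, 6, 2],
    [3, 0, 1, 6, 2], [2, 6, 3, 6, 1, 2], [1, 2, 1, 7, 3, 1, 2], [6, 1, 2, 7, 3, 1, 2],
    [1, 7, 2, 1, 6, 3, 2], [2, 3, 6, 1, 2, 3, 0, 1, 2], [2, 6, 3, 1, 2, 3, 0, 1, 2], [1, 7, 1, 2],
    [2, 1, 6, 3, 2, 1, 6, 3, 2], [7, 1, 2, 1, 7, 3, 1, 2], [7, 1, 6, 2, 6, 3, 1, 2], [2, 7, 1, 7, 2, 6, 3, 1, 2],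
    [7, 2, 3, 6, 1, 2], [2, 3, 1, 2, 6, 1, 2], [7, 1, 2, 3, 1, 7, 1, 2], [7, 1, 6, 2, 3, 6, 1, 2],
    [6, 2, 3, 6, 1, 2], [6, 2, 3, 1, 2, 7, 3, 1, 2], [6, 3, 1, 2], [7, 3, 2, 1, 6, 2, 3, 2],
    [2, 6, 1, 2, 7, 3, 1, 6, 2], [7, 1, 2, 6, 3, 1, 6, 2], [2, 7, 1, 7, 2, 3, 1, 2, 3, 1, 2], [2, 3, 2, 0, 1, 7, 1, 2, 3, 2],
    [7, 1, 2, 3, 1, 6, 1, 2], [1, 7, 1, 6, 2, 6, 3, 1, 2], [1, 7, 3, 1, 2, 1, 7, 3, 1, 2], [7, 1, 7, 2, 3, 1, 2],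
    [1, 7, 2, 1, 6, 2, 3, 1, 2], [2, 3, 2, 3, 1, 7, 2, 6, 3, 1, 2], [2, 6, 3, 1, 2], [3, 6, 1, 2, 3, 2],
    [1, 6, 3, 1, 2], [7, 1, 7, 2, 1, 6, 3, 2], [2, 3, 7, 1, 2, 3, 0, 1, 2], [7, 3, 1, 7, 2, 1, 6, 3, 2],
    [3, 1, 2, 6, 1, 2], [6, 2, 3, 1, 2, 3, 7, 1, 2], [1, 7, 2, 3, 1, 2, 3, 0, 1, 2], [6, 2, 3, 2, 1, 6, 1, 2, 3, 1, 2],
    [6, 1, 2, 3, 7, 1, 2], [0, 1, 2, 6, 3, 1, 2], [7, 2, 1, 6, 3, 2], [6, 1, 2, 0, 1, 6, 3, 2],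
    [6, 1, 7, 2, 3, 2, 1, 6, 2, 3, 2], [3, 2, 3, 2, 1, 7, 1, 2, 3, 2], [3, 1, 2, 3, 1, 2, 6, 1, 2], [7, 2, 3, 6, 1, 2, 1, 7, 3, 1, 2],
    [1, 7, 1, 2, 3, 0, 1, 6, 2], [3, 2, 7, 1, 6, 3, 1, 2, 3, 1, 2], [6, 1, 2, 3, 2, 0, 1, 7, 1, 2, 3, 2], [6, 1, 2, 6, 3, 1, 6, 2],
    [1, 6, 3, 1, 2, 3, 1, 2], [7, 1, 7, 3, 2, 3, 1, 2], [2, 6, 1, 2, 3, 6, 2], [3, 2, 6, 1, 2, 0, 1, 6, 3, 2],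
    [6, 2, 6, 1, 2, 3, 2, 6, 1, 2], [2, 3, 1, 2, 7, 3, 1, 6, 2], [7, 3, 1, 6, 1, 2, 7, 3, 1, 2], [7, 1, 6, 3, 1, 2, 3, 0, 1, 2],
    [1, 2, 3, 2, 7, 1, 6, 2, 3, 2], [2, 3, 6, 2, 1, 6, 2, 3, 1, 2], [7, 1, 7, 3, 1, 2], [2, 1, 6, 1, 2, 3, 1, 2],
    [6, 1, 7, 2, 3, 6, 1, 2], [6, 2, 3, 1, 2, 3, 6, 1, 2], [3, 1, 7, 2, 1, 6, 2, 3, 1, 2], [0, 1, 2, 1, 6, 3, 1, 2, 3, 1, 2],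
    [2, 6, 1, 6, 3, 2, 6, 3, 1, 2], [7, 3, 1, 2, 6, 1, 6, 2, 3, 2], [3, 2, 6, 1, 2, 6, 3, 1, 2], [7, 3, 2, 6, 1, 6, 2, 3, 2],
    [7, 1, 6, 3, 1, 2, 1, 7, 3, 1, 2], [2, 6, 1, 2, 3, 0, 1, 2], [1, 2, 0, 1, 6, 3, 2], [2, 0, 1, 6, 3, 2],
    [2, 7, 3, 1, 2, 3, 1, 2], [0, 1, 2, 3, 6], [0, 1, 6, 3, 2], [2, 3, 0, 1, 2],
    [2, 3, 6, 1, 2, 3, 2], [1, 2, 7, 3, 1, 2, 7, 3, 1, 2], [2, 6, 1, 6, 2, 3, 2], [0, 1, 7, 1, 2, 3, 1, 2],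
    [1, 2, 3, 7, 1, 2, 7, 3, 1, 2], [3, 2, 6, 1, 6, 2, 3, 1, 2], [3, 0, 1, 6, 1, 2, 3, 0, 1, 2], [0, 1, 2, 3, 7, 1, 2, 3, 0, 1, 2],
    [1, 6, 1, 2, 3, 2, 0, 1, 6, 2, 3, 2], [1, 7, 1, 2, 3, 6, 2], [1, 6, 2, 3, 1, 6, 2], [3, 1, 2, 3, 1, 2, 1, 7, 1, 2, 3, 2],
    [0, 1, 2, 6, 3, 1, 6, 2], [6, 1, 2, 7, 1, 6, 3, 2], [1, 6, 1, 2, 6, 3, 6, 1, 2], [6, 1, 6, 1, 2, 3, 2],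
    [6, 3, 1, 2, 3, 1, 2], [2, 3, 2, 7, 1, 2, 3, 0, 1, 2], [2, 6, 1, 2, 7, 3, 1, 2], [7, 1, 6, 1, 2, 1, 7, 3, 1, 2],
    [3, 2, 7, 1, 2, 3, 2], [1, 7, 2, 3, 1, 2], [1, 2, 6, 1, 6, 3, 2, 6, 3, 1, 2], [6, 1, 6, 1, 2],
    [7, 1, 6, 2, 3, 2], [2, 6, 3, 1, 6, 2, 3, 1, 2], [6, 1, 6, 1, 2, 3, 2, 1, 6, 2, 3, 2], [6, 2],
    [1, 2, 3, 0, 1, 7, 2, 6, 3, 1, 2], [2, 3, 6, 3, 1, 2], [7, 2, 3, 6, 1, 2, 7, 3, 1, 2], [3, 1, 7, 2, 1, 6, 3, 1, 2, 3, 1, 2],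
    [3, 6, 3, 1, 2, 3, 1, 2], [6, 3, 1, 7, 1, 2, 3, 1, 2], [0, 1, 7, 3, 2, 6, 3, 1, 2], [2, 3, 1, 6, 1, 2, 3, 1, 2],
    [0, 1, 2, 6, 1, 6, 3, 2], [7, 1, 7, 3, 2, 6, 3, 1, 2], [3, 2, 0, 1, 7, 1, 2, 3, 2], [6, 1, 2, 3, 1, 6, 2],
    [3, 2, 3, 1, 2, 7, 1, 6, 3, 2], [1, 2, 6, 3, 1, 2], [1, 2, 6, 1, 2], [1, 2, 3, 2, 3, 1, 7, 1, 2, 3, 2],
    [6, 3, 1, 7, 2, 3, 1, 2], [1, 7, 2, 3, 1, 6, 1, 2, 3, 1, 2], [1, 7, 3, 1, 2, 6, 3, 1, 2], [7, 3, 1, 2, 6, 3, 1, 2],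
    [3, 2, 1, 7, 1, 6, 2, 3, 1, 2], [6, 1, 2, 3, 2, 7, 1, 2, 3, 2], [1, 2, 7, 3, 6, 1, 2], [2, 1, 6, 3, 2, 3, 1, 2],
    [0, 1, 2, 3, 1, 2, 1, 7, 1, 2, 3, 2], [3, 0, 1, 2, 6, 3, 1, 2], [1, 2, 3, 1, 7, 1, 2, 3, 0, 1, 2], [2, 7, 3, 1, 6, 1, 2, 3, 1, 2],
    [1, 2, 3, 2, 0, 1, 7, 1, 2, 3, 2], [6, 2, 3, 1, 7, 2, 6, 3, 1, 2], [6, 3, 1, 2, 3, 0, 1, 2], [2, 3, 2, 7, 1, 2, 3, 2],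
    [6, 2, 3, 1, 2, 7, 3, 1, 6, 2], [6, 1, 2], [0, 1, 7, 2, 3, 2, 1, 6, 2, 3, 2], [0, 1, 2, 3, 2, 7, 1, 6, 2, 3, 2],
    [0, 1, 6, 3, 2, 6, 3, 1, 2], [0, 1, 2, 3, 1, 2, 6, 1, 2], [3, 1, 2, 1, 7, 1, 2, 3, 2], [3, 6, 1, 2, 3, 1, 2],
    [7, 2, 3, 1, 2, 3, 0, 1, 2], [6, 2, 3, 6, 2], [2, 3, 2], [3, 2, 3, 6, 1, 2, 3, 0, 1, 2],
    [3, 2, 1, 7, 3, 1, 2], [2, 1, 7, 3, 2, 6, 3, 1, 2], [3, 2, 3, 2, 1, 6, 2, 3, 1, 2], [1, 2, 6, 3, 1, 6, 2],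
    [7, 3, 1, 6, 3, 1, 2], [2, 3, 1, 2, 7, 3, 1, 2], [0, 1, 7, 3, 1, 2, 3, 0, 1, 2], [1, 6, 2, 6, 3, 1, 2, 3, 1, 2],
    [2, 3, 2, 6, 1, 6, 2, 3, 1, 2], [7, 2, 3, 2, 1, 6, 2, 3, 2], [3, 6, 1, 2, 0, 1, 6, 3, 2], [3, 2, 7, 3, 1, 2, 7, 3, 1, 2],
    [3, 6], [0, 1, 6, 2, 3, 2], [2, 3, 1, 2, 7, 1, 2, 3, 2], [3, 2, 1, 7, 1, 6, 3, 2, 3, 1, 2],
    [3, 2, 3, 1, 2, 0, 1, 6, 2, 3, 2], [0, 1, 2, 3, 1, 7, 1, 2], [6, 1, 2, 3, 2, 1, 6, 2, 3, 2], [3, 6, 1, 2],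
    [3, 6, 2, 6, 1, 6, 2, 3, 1, 2], [7, 3, 1, 7, 2, 3, 1, 2], [7, 1, 2, 3, 2, 1, 7, 1, 2, 3, 2], [3, 1, 6, 2, 3, 1, 2, 3, 0, 1, 2],
    [2, 3, 2, 3, 1, 2, 3, 7, 1, 2], [7, 2, 6, 3, 2, 1, 6, 2, 3, 1, 2], [7, 2, 6, 3, 1, 6, 2, 3, 1, 2], [2, 7, 3, 1, 2, 3, 0, 1, 2],
    [3, 2, 6, 1, 2, 3, 2], [3, 2, 3, 6, 1, 2, 3, 2], [1, 7, 2, 1, 6, 2, 3, 2], [1, 7, 3, 1, 2, 0, 1, 6, 3, 2],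
    [2, 6, 3, 1, 2, 1, 7, 1, 2, 3, 2], [3, 1, 7, 1, 2, 3, 0, 1, 2], [1, 6, 1, 7, 2, 3, 1, 2], [1, 6, 3, 2, 1, 6, 3, 2],
    [3, 2, 7, 1, 6, 1, 2, 3, 1, 2], [2, 0, 1, 7, 2, 3, 1, 2, 3, 1, 2], [1, 7, 1, 2, 3, 2, 6, 1, 2], [7, 2, 6, 1, 2, 3, 7, 1, 2],
    [1, 7, 3, 1, 2, 6, 1, 6, 3, 2], [6, 3, 1, 6, 1, 2], [7, 1, 2, 3, 2, 7, 1, 2, 3, 2], [6, 1, 6, 3, 1, 2],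
    [7, 1, 7, 2, 3, 1, 2, 3, 1, 2], [7, 2, 1, 6, 3, 2, 1, 6, 3, 2], [2, 1, 7, 3, 1, 2, 1, 7, 3, 1, 2], [3, 1, 6, 1, 2],
    [1, 2, 3, 0, 1, 2, 3, 1, 7, 1, 2], [0, 1, 2, 7, 3, 1, 2], [0, 1, 2, 3, 7, 1, 2], [3, 7, 2, 3, 1, 2],
    [3, 2], [1, 2, 3, 2, 3, 1, 6, 2, 3, 1, 2], [0, 1, 2, 3, 1, 6, 1, 2], [6, 1, 6, 2, 1, 6, 3, 2],
    [6, 1, 6, 2, 3, 1, 2], [7, 2, 3, 2, 1, 6, 3, 1, 2, 3, 1, 2], [6, 1, 2, 3, 2, 6, 1, 2], [2, 7, 3, 1, 6, 2, 1, 6, 3, 2],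
    [2, 7, 3, 1, 2, 1, 7, 3, 1, 2], [3, 7, 3, 1, 2, 3, 1, 2], [7, 3, 1, 7, 2, 1, 6, 2, 3, 2], [3, 1, 2, 3, 1, 2],
    [0, 1, 6, 2, 3, 6, 1, 2, 3, 1, 2], [3, 2, 7, 1, 6, 2, 3, 1, 2], [2, 7, 3, 1, 2, 7, 1, 6, 3, 2], [2, 3, 0, 1, 2, 6, 3, 1, 2],
    [6, 1, 7, 3, 2, 3, 1, 2], [2, 7, 3, 1, 7, 2, 6, 3, 1, 2], [2, 6, 1, 6, 2, 3, 1, 6, 2], [3, 6, 1, 2, 3, 0, 1, 2],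
    [7, 2, 3, 1, 2, 3, 1, 2], [0, 1, 2, 3, 1, 2], [2, 3, 1, 2, 3, 0, 1, 2], [2, 6, 1, 7, 2, 3, 6, 1, 2],
    [2, 0, 1, 6, 3, 2, 1, 6, 3, 2], [2, 3, 2, 1, 7, 3, 2, 6, 3, 1, 2], [1, 2, 3, 1, 2], [3, 2, 6, 3, 1, 6, 1, 2, 3, 1, 2],
    [2, 6, 1, 2, 3, 0, 1, 6, 2], [2, 1, 7, 1, 2, 3, 2], [6, 2, 6, 1, 2, 3, 2], [2, 3, 1, 2, 6, 1, 6, 3, 2],
    [6, 3, 6, 1, 2], [1, 2, 3, 2, 1, 6, 2, 3, 2], [6, 1, 2, 3, 2, 1, 7, 1, 2, 3, 2], [0, 1, 6, 3, 1, 2, 3, 0, 1, 2],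
    [0, 1, 2, 7, 3, 1, 6, 2], [3, 2, 6, 1, 2, 7, 3, 1, 2], [6, 1, 2, 3, 1, 6, 1, 2], [2, 6, 1, 6, 3, 1, 2, 3, 1, 2],
    [3, 1, 2], [7, 1, 2, 3, 6, 1, 2, 3, 1, 2], [3, 6, 1, 2, 7, 3, 1, 2], [7, 2, 3, 1, 6, 1, 2, 3, 1, 2],
    [3, 2, 7, 1, 6, 2, 6, 3, 1, 2], [6, 3, 2], [3, 1, 2, 0, 1, 7, 3, 2, 6, 3, 1, 2], [0, 1, 6, 1, 2, 3, 7, 1, 2],
    [1, 2, 3, 1, 6, 2], [1, 2, 3, 2, 1, 6, 1, 2, 3, 1, 2], [2, 7, 3, 2, 1, 6, 2, 3, 1, 2], [1, 6, 3, 2, 3, 1, 2, 3, 0, 1, 2],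
    [3, 2, 6, 1, 2, 3, 2, 6, 1, 2], [1, 7, 3, 2, 6, 3, 1, 2], [3, 1, 7, 2, 6, 3, 1, 2], [6, 1, 2, 6, 1, 6, 3, 2],
    [0, 1, 2, 3, 2, 3, 1, 7, 1, 2, 3, 2], [6, 2, 3, 6], [1, 2, 0, 1, 7, 3, 2, 6, 3, 1, 2], [2],
    [0, 1, 7, 1, 2, 3, 0, 1, 2], [2, 1, 7, 1, 2, 3, 1, 6, 1, 2], [2, 7, 1, 6, 3, 2, 3, 1, 2], [3, 1, 2, 3, 1, 7, 1, 2],
    [2, 6, 1, 2, 3, 2, 6, 1, 2], [0, 1, 2, 3, 1, 6, 1, 2, 3, 1, 2], [3, 2, 7, 1, 7, 3, 2, 6, 3, 1, 2], [3, 7, 2, 6, 1, 6, 2, 3, 1, 2],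
    [7, 3, 2, 6, 1, 6, 2, 3, 1, 2], [6, 2, 6, 3, 1, 2, 3, 0, 1, 2], [3, 1, 7, 2, 3, 1, 2], [3, 2, 7, 3, 1, 7, 2, 6, 3, 1, 2],
    [6, 2, 3, 6, 1, 2, 0, 1, 6, 3, 2], [7, 3, 1, 6, 2, 6, 3, 1, 2], [7, 1, 2, 3, 0, 1, 6, 2], [7, 1, 2, 0, 1, 6, 3, 2],
    [6, 1, 6, 2, 3, 1, 6, 2], [2, 7, 1, 2, 3, 2, 1, 7, 1, 2, 3, 2], [2, 6, 2, 3, 1, 2], [6, 1, 7, 2, 3, 1, 2, 3, 1, 2],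
    [3, 2, 0, 1, 6, 2, 3, 2], [6, 1, 7, 2, 3, 1, 6, 2], [3, 2, 3, 1, 6, 2], [3, 2, 1, 6, 3, 2],
    [3, 1, 6, 3, 1, 2], [2, 3, 1, 7, 2, 3, 1, 2], [1, 6, 3, 1, 2, 7, 3, 1, 2], [0, 1, 2, 1, 7, 3, 1, 2],
    [2, 3, 1, 2, 3, 1, 7, 1, 2], [6, 1, 7, 1, 2, 3, 0, 1, 2], [1, 2, 7, 3, 1, 2, 7, 1, 6, 3, 2], [2, 3, 7, 2, 1, 6, 2, 3, 1, 2],
    [6, 3, 1, 7, 2, 1, 6, 3, 2], [2, 6, 3, 1, 2, 7, 1, 6, 3, 2], [1, 2, 3, 2, 3, 1, 7, 2, 6, 3, 1, 2], [2, 6, 1, 2],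
    [2, 3, 2, 6, 1, 6, 1, 2, 3, 1, 2], [7, 1, 2, 3, 1, 6, 1, 2, 3, 1, 2], [2, 3, 7, 2, 1, 6, 2, 3, 2], [2, 3, 6, 2, 1, 6, 3, 2, 3, 1, 2],
    [2, 3, 2, 6, 1, 2], [2, 3, 1, 2, 3, 6, 1, 2], [3, 2, 3, 1, 6, 2, 6, 3, 1, 2], [7, 3, 2, 3, 1, 2],
    [2, 3, 7, 1, 2, 3, 1, 2], [2, 7, 1, 6, 3, 1, 2, 3, 1, 2], [3, 2, 7, 3, 1, 6, 1, 2, 3, 1, 2], [0, 1, 2, 7, 3, 1, 2, 3, 0, 1, 2],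
    [2, 6, 1, 2, 6, 3, 1, 6, 2], [1, 6, 3, 1, 2, 3, 0, 1, 2], [3, 2, 7, 3, 1, 2], [3, 2, 6, 3, 1, 2, 0, 1, 6, 3, 2],
    [2, 3, 2, 1, 6, 3, 1, 2, 3, 1, 2], [0, 1, 2, 3, 2], [1, 2, 3, 1, 2, 0, 1, 6, 2, 3, 2], [3, 2, 6, 1, 2],
    [7, 3, 2, 6, 1, 2, 3, 2], [7, 2, 3, 1, 2, 7, 1, 2, 3, 2], [3, 1, 2, 3, 0, 1, 7, 2, 6, 3, 1, 2], [3, 2, 7, 1, 7, 2, 3, 6, 1, 2],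
    [3, 1, 2, 6, 3, 1, 6, 2], [7, 3, 6, 1, 2], [1, 6, 2, 3, 2], [0, 1, 6, 2, 6, 3, 1, 2, 3, 1, 2],
    [3, 1, 2, 3, 0, 1, 6, 2], [2, 1, 6, 3, 2, 6, 3, 1, 2], [3, 2, 3, 7, 1, 2, 0, 1, 6, 3, 2], [7, 1, 6, 3, 2, 1, 6, 3, 2],
    [6, 1, 6, 2, 3, 1, 2, 3, 0, 1, 2], [1, 2, 7, 3, 1, 6, 2], [6, 2, 3, 6, 2, 1, 6, 2, 3, 1, 2], [7, 3, 1, 7, 1, 2],
    [7, 2, 1, 6, 2, 3, 2], [6, 3, 6, 3, 1, 2], [1, 6, 1, 2, 3, 7, 1, 2], [2, 3, 1, 6, 2, 3, 1, 2],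
    [2, 6, 3, 1, 2, 0, 1, 6, 3, 2], [6, 1, 2, 3, 2, 1, 6, 1, 2, 3, 1, 2], [2, 1, 7, 3, 2, 3, 1, 2], [2, 3, 1, 2, 6, 3, 1, 2],
    [0, 1, 6, 1, 2, 3, 1, 2], [3, 2, 6, 3, 1, 2, 3, 0, 1, 2], [2, 6, 1, 2, 3, 7, 1, 2], [0, 1, 2, 6, 1, 2, 3, 6, 2],
    [2, 7, 1, 7, 2, 3, 6, 1, 2], [1, 6, 1, 2, 7, 3, 1, 2], [7, 1, 6, 1, 2, 3, 1, 6, 1, 2], [2, 6, 2, 3, 1, 2, 3, 0, 1, 2],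
    [3, 2, 7, 3, 1, 2, 3, 0, 1, 2], [2, 1, 7, 3, 1, 2, 3, 0, 1, 2], [1, 6, 2, 1, 7, 3, 2, 6, 3, 1, 2], [1, 7, 1, 2, 3, 6],
    [6, 2, 6, 1, 2, 3, 0, 1, 2], [1, 2, 6, 1, 2, 3, 6, 1, 2], [3, 2, 0, 1, 7, 3, 1, 2], [6, 1, 7, 1, 2, 3, 2],
    [6, 1, 2, 3, 6, 2], [1, 2, 3, 0, 1, 2, 1, 7, 3, 1, 2], [6, 1, 2, 3, 2, 7, 1, 6, 2, 3, 2], [7, 1, 2, 6, 1, 6, 2, 3, 2],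
    [0, 1, 2, 3, 0, 1, 2], [2, 6, 3, 2, 1, 6, 3, 2, 3, 1, 2], [6, 1, 7, 2, 3, 1, 2], [6, 1, 6, 3, 2, 1, 6, 3, 2],
    [2, 3, 6, 1, 2, 7, 3, 1, 2], [3, 1, 7, 1, 2, 1, 7, 3, 1, 2], [7, 1, 2, 1, 6, 3, 1, 2, 3, 1, 2], [1, 2, 3, 1, 6, 1, 2, 3, 1, 2],
    [3, 2, 7, 3, 1, 6, 2], [3, 7, 2, 1, 6, 3, 1, 2, 3, 1, 2], [6, 3, 6, 2], [2, 0, 1, 7, 3, 1, 2],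
    [2, 3, 6, 2, 1, 6, 2, 3, 2], [2, 3, 1, 2, 3, 0, 1, 6, 2], [3, 1, 6, 1, 2, 1, 7, 3, 1, 2], [1, 6, 3, 1, 2, 1, 7, 3, 1, 2],
    [3, 6, 2, 3, 1, 2, 3, 0, 1, 2], [0, 1, 6, 2, 3, 1, 6, 2], [1, 2, 3, 1, 7, 1, 2], [2, 3, 0, 1, 6, 1, 2, 3, 1, 2],
    [2, 0, 1, 6, 3, 1, 2, 3, 1, 2], [3, 2, 7, 3, 1, 2, 0, 1, 6, 3, 2], [7, 2, 3, 1, 6, 2], [2, 1, 7, 1, 2, 3, 0, 1, 2],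
    [7, 1, 7, 2, 3, 1, 6, 2], [6, 2, 6, 3, 1, 2, 1, 7, 3, 1, 2], [2, 3, 6, 1, 2], [3, 2, 6, 1, 2, 3, 6, 2],
    [7, 1, 2, 6, 3, 1, 2, 3, 1, 2], [1, 6, 2, 3, 1, 2, 1, 7, 3, 1, 2], [3, 1, 2, 7, 3, 1, 6, 2], [0, 1, 6, 2, 3, 6, 1, 2],
    [3, 2, 3, 7, 1, 2, 3, 0, 1, 2], [3, 1, 2, 3, 7, 1, 2], [6, 1, 7, 3, 1, 2], [1, 7, 1, 2, 3, 7, 1, 2],
    [3, 2, 6, 1, 2, 3, 0, 1, 6, 2], [1, 7, 2, 6, 3, 1, 2, 3, 1, 2], [6, 3, 1, 7, 1, 2], [2, 7, 1, 6, 3, 2],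
    [1, 7, 1, 6, 2, 3, 1, 6, 2], [1, 6, 3, 2, 6, 3, 1, 2], [3, 2, 6, 1, 6, 2, 3, 2], [2, 3, 0, 1, 2, 7, 1, 6, 3, 2],
    [3, 1, 2, 7, 3, 1, 2, 3, 0, 1, 2], [0, 1, 7, 3, 2, 3, 1, 2], [3, 2, 7, 1, 2, 3, 0, 1, 2], [3, 0, 1, 2, 3, 0, 1, 6, 2],
    [2, 6, 1, 2, 0, 1, 6, 3, 2], [7, 1, 6, 1, 2, 3, 1, 7, 1, 2], [2, 3, 0, 1, 2, 3, 0, 1, 6, 2], [2, 3, 6],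
    [3, 2, 0, 1, 6, 3, 2, 3, 1, 2], [7, 3, 1, 7, 1, 2, 3, 1, 2], [6, 2, 3, 1, 2, 3, 0, 1, 6, 2], [2, 7, 3, 1, 6, 2],
    [2, 7, 3, 1, 2], [2, 1, 7, 3, 1, 6, 2, 3, 1, 2], [3, 0, 1, 7, 2, 3, 1, 2], [1, 7, 3, 1, 2],
    [2, 3, 2, 3, 1, 6, 2, 6, 3, 1, 2], [2, 7, 1, 6, 3, 2, 6, 3, 1, 2], [1, 2, 3, 2, 1, 7, 1, 2, 3, 2], [7, 3, 1, 6, 2, 3, 1, 2],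
    [7, 1, 6, 2, 3, 1, 2, 3, 1, 2], [1, 7, 3, 1, 2, 3, 0, 1, 2], [6, 1, 2, 3, 7, 1, 2, 7, 3, 1, 2], [3, 0, 1, 7, 1, 2, 3, 2],
    [6, 3, 2, 6, 1, 2, 3, 2], [3, 6, 2, 6, 1, 2, 3, 2], [6, 1, 2, 7, 3, 1, 2, 3, 0, 1, 2], [0, 1, 2, 3, 6, 2, 1, 6, 2, 3, 2],
    [6, 3, 2, 6, 1, 2, 7, 3, 1, 2], [2, 3, 7, 1, 2, 0, 1, 6, 3, 2], [2, 7, 3, 1, 6, 2, 6, 3, 1, 2], [3, 2, 3, 7, 1, 2, 7, 3, 1, 2],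
    [6, 1, 7, 3, 2, 1, 6, 2, 3, 2], [1, 6, 2, 3, 2, 1, 6, 2, 3, 2], [3, 1, 7, 3, 1, 2], [1, 6, 1, 2, 3, 6],
    [1, 6, 2, 3, 1, 2, 3, 1, 2], [0, 1, 2], [6, 2, 6, 3, 2, 1, 6, 2, 3, 1, 2], [3, 1, 2, 3, 0, 1, 2],
    [2, 3, 1, 2, 3, 1, 6, 2], [3, 0, 1, 7, 2, 1, 6, 3, 2], [3, 2, 1, 7, 3, 1, 6, 2, 3, 1, 2], [3, 2, 1, 6, 3, 2, 3, 1, 2],
    [1, 7, 1, 6, 3, 2, 3, 1, 2], [1, 7, 3, 1, 6, 2, 3, 1, 2], [3, 2, 3, 1, 6, 2, 3, 1, 2], [2, 0, 1, 7, 3, 2, 6, 3, 1, 2],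
    [1, 2, 3, 2, 0, 1, 6, 2, 3, 2], [3, 7, 2, 6, 3, 1, 2], [2, 6, 1, 6, 3, 2], [2, 6, 1, 2, 3, 1, 2],
    [3, 2, 3, 1, 2, 3, 7, 1, 2], [6, 3, 1, 7, 1, 2, 3, 2], [3, 2, 3, 2, 1, 6, 3, 2, 3, 1, 2], [0, 1, 7, 2, 1, 6, 3, 2],
    [0, 1, 2, 3, 1, 6, 2], [2, 0, 1, 6, 2, 3, 2], [6, 1, 2, 3, 1, 6, 1, 2, 3, 1, 2], [7, 2, 1, 6, 3, 1, 2, 3, 1, 2],
    [2, 3, 0, 1, 2, 1, 7, 3, 1, 2], [6, 1, 6, 1, 2, 3, 6, 1, 2], [7, 1, 7, 3, 2, 1, 6, 2, 3, 2], [6, 3, 1, 7, 2, 1, 6, 2, 3, 2],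
    [2, 7, 1, 2, 3, 1, 6, 1, 2], [2, 6, 3, 1, 2, 7, 3, 1, 2], [3, 1, 2, 0, 1, 6, 3, 2], [2, 6, 3, 2, 1, 6, 2, 3, 2],
    [1, 6, 2, 6, 1, 2, 3, 2], [3, 2, 6, 1, 2, 3, 7, 1, 2], [1, 7, 2, 6, 3, 1, 6, 2, 3, 1, 2], [0, 1, 6, 3, 1, 2, 3, 1, 2],
    [7, 1, 2, 6, 3, 1, 2], [2, 3, 0, 1, 7, 2, 6, 3, 1, 2], [1, 2, 1, 6, 3, 1, 2, 3, 1, 2], [0, 1, 2, 6, 3, 1, 2, 3, 1, 2],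
    [7, 2, 3, 1, 2, 1, 7, 3, 1, 2], [7, 1, 2, 3, 1, 6, 2], [3, 7, 2, 6, 1, 2, 3, 2], [3, 0, 1, 2, 3, 1, 2],
    [0, 1, 2, 3, 6, 1, 2, 3, 1, 2], [0, 1, 2, 3, 2, 1, 7, 1, 2, 3, 2], [1, 2, 6, 1, 2, 3, 1, 6, 1, 2], [2, 3, 7, 1, 2, 1, 7, 3, 1, 2],
    [2, 7, 1, 2, 7, 3, 1, 2], [3, 0, 1, 2, 6, 3, 1, 6, 2], [6, 1, 2, 7, 3, 1, 2, 7, 3, 1, 2], [2, 3, 1, 6, 2, 1, 6, 3, 2],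
    [3, 2, 3, 1, 2, 1, 7, 3, 1, 2], [2, 3, 1, 6, 2, 6, 3, 1, 2], [6, 2, 3, 6, 1, 2, 3, 1, 2], [3, 1, 6, 2, 6, 3, 1, 2],
    [7, 1, 7, 2, 3, 2, 1, 6, 2, 3, 2], [3, 2, 1, 6, 3, 2, 1, 6, 3, 2], [3, 1, 2, 3, 2, 1, 7, 1, 2, 3, 2], [3, 2, 7, 1, 6, 3, 2, 3, 1, 2],
    [3, 2, 1, 6, 2, 3, 2], [3, 2, 1, 6, 2, 3, 1, 2], [3, 2, 3, 6, 1, 2], [3, 2, 0, 1, 6, 3, 2],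
    [2, 3, 2, 1, 6, 2, 3, 2], [1, 6, 2, 3, 6, 1, 2], [1, 6, 1, 2, 3, 6, 2], [6, 3, 1, 2, 7, 3, 1, 2],
    [2, 7, 3, 6, 1, 2, 3, 1, 2], [3, 2, 6, 1, 6, 3, 2], [3, 2, 6, 1, 7, 2, 3, 6, 1, 2], [2, 3, 1, 2],
    [7, 1, 7, 1, 2], [2, 6, 3, 6, 1, 2, 3, 1, 2], [6, 3, 6], [3, 1, 2, 3, 2, 1, 6, 3, 2, 3, 1, 2],
    [2, 6, 1, 2, 6, 3, 1, 2], [2, 6, 1, 2, 3, 6, 1, 2], [7, 1, 2, 3, 1, 2], [6, 3, 1, 6, 2, 6, 3, 1, 2],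
    [3, 1, 7, 3, 1, 2, 3, 1, 2], [7, 2, 6, 1, 2, 7, 3, 1, 2], [3, 2, 3, 1, 2, 3, 1, 7, 1, 2], [7, 1, 7, 3, 2, 1, 6, 3, 2],
    [1, 2, 3, 2, 3, 1, 2, 3, 7, 1, 2], [1, 7, 1, 2, 3, 1, 6, 2], [1, 2, 3, 0, 1, 2], [1, 7, 2, 3, 1, 6, 2],
    [1, 2, 3, 1, 6, 1, 2], [1, 6, 3, 6, 2, 3, 1, 2], [2, 3, 1, 7, 2, 6, 3, 1, 2], [6, 2, 1, 7, 2, 3, 1, 2, 3, 1, 2],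
    [6, 3, 2, 6, 3, 1, 2, 3, 0, 1, 2], [0, 1, 7, 3, 1, 2, 3, 1, 2], [2, 6, 3, 6, 1, 2, 3, 0, 1, 2], [2, 1, 6, 3, 6, 2, 3, 1, 2],
    [3, 2, 0, 1, 6, 2, 3, 1, 2], [7, 2, 6, 3, 1, 2], [2, 1, 7, 2, 3, 1, 2, 3, 0, 1, 2], [2, 7, 3, 1, 2, 7, 3, 1, 2],
    [7, 3, 6, 1, 2, 3, 1, 2], [3, 0, 1, 2, 3, 7, 1, 2], [3, 0, 1, 2, 7, 3, 1, 6, 2], [3, 0, 1, 2, 7, 3, 1, 2],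
    [2, 3, 0, 1, 2, 3, 1, 2], [7, 1, 6, 3, 2, 6, 3, 1, 2], [3, 0, 1, 2, 7, 1, 6, 3, 2], [2, 3, 0, 1, 6, 2, 1, 6, 3, 2],
    [2, 0, 1, 6, 3, 2, 3, 1, 2], [1, 2, 7, 3, 1, 2], [3, 7, 1, 2, 6, 3, 1, 2], [1, 7, 2, 1, 6, 3, 1, 2, 3, 1, 2],
    [6, 2, 6, 3, 1, 6, 2, 3, 1, 2], [2, 7, 2, 3, 1, 2, 3, 0, 1, 2], [3, 2, 3, 1, 2, 1, 7, 1, 2, 3, 2], [2, 6, 3, 1, 6, 2],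
    [6, 2, 3, 1, 2], [2, 3, 1, 6, 2], [2, 1, 6, 3, 2], [7, 1, 6, 1, 2, 3, 0, 1, 2],
    [2, 7, 3, 1, 6, 2, 3, 1, 2], [2, 3, 0, 1, 6, 2, 3, 1, 2], [2, 1, 6, 2, 3, 1, 2, 3, 0, 1, 2], [6, 3, 2, 1, 6, 2, 3, 1, 2],
    [6, 1, 7, 3, 1, 2, 3, 1, 2], [2, 3, 1, 6, 1, 2, 3, 0, 1, 2], [3, 2, 7, 1, 2, 3, 6, 2], [3, 2, 1, 7, 3, 2, 6, 3, 1, 2],
    [1, 6, 3, 2, 6, 1, 2, 3, 2], [1, 7, 1, 2, 3, 1, 2], [1, 7, 1, 6, 2, 3, 1, 2], [1, 6, 2, 6, 3, 1, 2],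
    [0, 1, 2, 6, 3, 6, 1, 2], [1, 2], [1, 2, 6, 1, 6, 2, 3, 2], [1, 7, 3, 2, 1, 6, 3, 1, 2, 3, 1, 2],
    [2, 3, 1, 7, 1, 2, 1, 7, 3, 1, 2], [7, 2, 6, 3, 1, 2, 3, 1, 2], [6, 3, 2, 1, 6, 3, 2, 1, 6, 3, 2], [7, 1, 7, 2, 1, 6, 2, 3, 2],
    [3, 0, 1, 2, 3, 6, 1, 2], [7, 3, 2, 1, 6, 3, 1, 2, 3, 1, 2], [2, 3, 6, 2], [6, 2, 3, 2],
    [7, 2, 6, 1, 2, 3, 2], [1, 6, 1, 2, 3, 1, 2], [3, 2, 7, 3, 1, 2, 7, 1, 6, 3, 2], [3, 2, 3, 2, 1, 6, 1, 2, 3, 1, 2],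
    [7, 1, 6, 3, 1, 2, 3, 1, 2], [3, 2, 0, 1, 7, 3, 2, 6, 3, 1, 2], [2, 6, 3, 1, 6, 2, 6, 3, 1, 2], [1, 2, 3, 2, 3, 1, 6, 2, 6, 3, 1, 2],
    [1, 6, 2, 3, 1, 2, 3, 0, 1, 2], [6, 1, 2, 3, 0, 1, 6, 2], [7, 2, 6, 1, 2, 3, 6, 2], [2, 0, 1, 7, 1, 2, 3, 2],
    [1, 6, 2, 3, 6, 1, 2, 3, 1, 2], [3, 1, 2, 6, 1, 6, 2, 3, 2], [1, 2, 3, 7, 1, 2], [6, 1, 2, 3, 2],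
    [7, 1, 7, 1, 2, 3, 1, 6, 2], [3, 0, 1, 2, 6, 1, 6, 3, 2], [1, 6, 2, 3, 1, 2, 3, 0, 1, 6, 2], [1, 2, 3, 1, 2, 1, 7, 1, 2, 3, 2],
    [3, 2, 7, 1, 6, 2, 3, 6, 1, 2], [3, 2, 6, 1, 6, 3, 1, 2, 3, 1, 2], [7, 3, 1, 2, 6, 1, 6, 3, 2], [1, 7, 1, 2, 3, 1, 6, 1, 2],
    [1, 6, 2, 1, 6, 3, 2, 3, 1, 2], [1, 6, 2, 3, 1, 6, 2, 3, 1, 2], [1, 6, 1, 2, 3, 6, 1, 2], [3, 1, 7, 2, 1, 6, 3, 2],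
    [7, 3, 1, 6, 1, 2, 3, 1, 2], [7, 1, 2, 3, 2, 7, 1, 6, 2, 3, 2], [1, 6, 1, 2, 3, 2, 1, 6, 2, 3, 2], [1, 2, 3, 2, 1, 6, 3, 2, 6, 3, 1, 2],
    [1, 6, 1, 2, 6, 3, 1, 2], [3, 1, 2, 1, 7, 3, 1, 2], [1, 2, 3, 2, 7, 1, 2, 3, 2], [3, 2, 7, 1, 7, 2, 6, 3, 1, 2],
    [0, 1, 7, 1, 2, 3, 2], [6, 1, 7, 3, 2, 1, 6, 3, 2], [3, 2, 3, 1, 2, 6, 1, 2], [7, 3, 2, 6, 3, 1, 2],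
    [7, 3, 1, 6, 2], [7, 1, 6, 3, 2], [7, 1, 2, 3, 1, 2, 1, 7, 1, 2, 3, 2], [1, 2, 0, 1, 6, 2, 3, 2],
    [3, 2, 3, 1, 6, 2, 1, 6, 3, 2], [3, 0, 1, 6, 2, 3, 1, 2], [6, 2, 1, 7, 3, 2, 6, 3, 1, 2], [1, 2, 3, 2, 7, 1, 6, 1, 2, 3, 1, 2],
    [1, 7, 2, 3, 2, 1, 6, 1, 2, 3, 1, 2], [1, 2, 3, 1, 2, 6, 1, 2], [1, 7, 2, 3, 6, 1, 2], [0, 1, 2, 6, 3, 2, 1, 6, 2, 3, 2],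
    [6, 1, 6, 3, 2, 3, 1, 2], [1, 6, 2], [1, 2, 6, 1, 2, 3, 2], [0, 1, 2, 3, 0, 1, 6, 2],
    [1, 2, 3, 6], [1, 2, 3, 6, 1, 2, 3, 2], [1, 2, 1, 7, 1, 2, 3, 2], [1, 2, 3, 2, 1, 6, 3, 2, 3, 1, 2],
    [2, 7, 3, 6, 1, 2], [2, 1, 6, 2, 3, 1, 2], [1, 7, 2, 6, 3, 1, 2], [1, 7, 1, 2, 6, 1, 6, 3, 2],
    [3, 6, 2, 6, 1, 2, 3, 0, 1, 2], [6, 1, 2, 7, 3, 1, 6, 2], [6, 1, 2, 1, 6, 3, 1, 2, 3, 1, 2], [6, 3, 2, 6, 1, 2, 3, 0, 1, 2],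
    [1, 6, 2, 6, 3, 1, 6, 2, 3, 1, 2], [1, 7, 1, 2, 3, 2], [7, 1, 7, 2, 3, 1, 2, 3, 0, 1, 2], [6, 1, 2, 6, 1, 6, 2, 3, 2],
    [3, 0, 1, 7, 3, 1, 2, 3, 1, 2], [3, 7, 2, 6, 1, 2, 7, 3, 1, 2], [2, 6, 1, 6, 2, 6, 3, 1, 2], [2, 6, 3, 1, 6, 1, 2, 3, 1, 2],
    [2, 1, 6, 3, 1, 2, 3, 0, 1, 2], [2, 1, 6, 3, 1, 2, 3, 1, 2], [2, 3, 7, 1, 2, 7, 3, 1, 2], [6, 2, 3, 1, 2, 1, 7, 3, 1, 2],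
    [2, 3, 2, 6, 1, 2, 7, 3, 1, 2], [1, 7, 3, 1, 2, 3, 1, 2], [7, 3, 1, 6, 3, 1, 2, 3, 1, 2], [2, 7, 1, 2, 3, 7, 1, 2],
    [1, 2, 6, 3, 1, 2, 0, 1, 6, 3, 2], [3, 2, 0, 1, 6, 3, 1, 2, 3, 1, 2], [6, 3, 1, 2, 1, 7, 3, 1, 2], [1, 2, 6, 3, 2, 1, 6, 2, 3, 2],
    [3, 6, 1, 2, 1, 7, 3, 1, 2], [3, 1, 2, 7, 3, 1, 2], [0, 1, 2, 7, 3, 6, 1, 2], [1, 2, 3, 6, 2, 1, 6, 2, 3, 2],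
    [6, 3, 2, 6, 3, 1, 2], [3, 2, 3, 2, 1, 6, 2, 3, 2], [6, 3, 2, 3, 1, 2, 1, 7, 3, 1, 2], [3, 0, 1, 2, 3, 1, 6, 2],
    [2, 3, 1, 2, 7, 1, 6, 3, 2], [2, 3, 6, 1, 2, 7, 1, 6, 3, 2], [2, 3, 2, 0, 1, 6, 2, 3, 2], [3, 1, 2, 3, 2, 1, 6, 2, 3, 2],
    [1, 2, 3, 0, 1, 6, 2], [2, 3, 0, 1, 6, 2], [3, 7, 2, 6, 3, 1, 2, 3, 0, 1, 2], [2, 3, 2, 3, 1, 2, 7, 3, 1, 2],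
    [6, 2, 3, 2, 1, 6, 2, 3, 1, 2], [1, 2, 3, 2, 6, 1, 2, 3, 0, 1, 2], [2, 3, 2, 1, 6, 3, 2, 3, 1, 2], [2, 1, 6, 2, 3, 2],
    [2, 3, 1, 2, 0, 1, 6, 2, 3, 2], [3, 2, 6, 1, 2, 3, 1, 2], [3, 2, 1, 6, 3, 1, 2, 3, 1, 2], [3, 2, 3, 0, 1, 6, 1, 2, 3, 1, 2],
    [2, 3, 0, 1, 2, 3, 7, 1, 2], [3, 0, 1, 6, 2, 1, 6, 3, 2], [0, 1, 6, 3, 2, 3, 1, 2], [2, 3, 0, 1, 2, 7, 3, 1, 6, 2],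
    [3, 0, 1, 6, 1, 2, 3, 1, 2], [2, 7, 1, 6, 3, 2, 1, 6, 3, 2], [7, 1, 2, 3, 2], [1, 7, 3, 2, 1, 6, 2, 3, 2],
    [3, 1, 7, 2, 1, 6, 2, 3, 2], [3, 1, 7, 1, 2, 3, 1, 2], [2, 6, 1, 2, 3, 1, 6, 1, 2], [1, 2, 7, 1, 6, 3, 2],
    [3, 7, 1, 2, 6, 1, 6, 3, 2], [2, 1, 7, 1, 6, 2, 3, 1, 2], [0, 1, 2, 3, 6, 2], [2, 3, 1, 2, 3, 1, 2],
    [2, 3, 2, 1, 6, 3, 2, 6, 3, 1, 2], [3, 2, 3, 0, 1, 6, 2], [3, 6, 2, 1, 7, 3, 2, 6, 3, 1, 2], [2, 1, 7, 1, 6, 3, 2, 3, 1, 2],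
    [2, 3, 6, 1, 2, 3, 1, 2], [2, 3, 1, 2, 6, 3, 1, 6, 2], [3, 0, 1, 2], [1, 2, 3, 2, 1, 7, 1, 6, 2, 3, 1, 2],
    [6, 1, 7, 2, 1, 6, 3, 2], [6, 1, 2, 3, 2, 0, 1, 6, 2, 3, 2], [6, 2, 3, 1, 6, 2], [3, 2, 3, 0, 1, 7, 2, 6, 3, 1, 2],
    [7, 3, 2, 1, 6, 2, 3, 1, 2], [3, 1, 6, 3, 1, 2, 3, 1, 2], [7, 1, 7, 1, 2, 3, 1, 2], [0, 1, 7, 2, 6, 3, 1, 2],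
    [3, 7, 2, 1, 6, 2, 3, 1, 2], [1, 6, 1, 2, 3, 2], [1, 6, 3, 1, 7, 2, 3, 1, 2], [6, 1, 7, 1, 2, 3, 1, 2],
    [1, 6, 2, 3, 6], [1, 2, 6, 1, 2, 3, 6, 2], [3, 1, 2, 6, 1, 2, 3, 7, 1, 2], [3, 2, 3, 6, 1, 2, 7, 3, 1, 2],
    [0, 1, 2, 3, 6, 1, 2], [0, 1, 7, 2, 3, 1, 2], [3, 1, 6, 2, 6, 1, 2, 3, 2], [3, 2, 1, 7, 1, 2, 3, 0, 1, 2],
    [3, 6, 2, 1, 6, 3, 2, 3, 1, 2], [1, 2, 3, 2], [1, 2, 3, 6, 1, 2, 3, 1, 2], [2, 3, 2, 7, 1, 6, 3, 2, 3, 1, 2],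
    [6, 3, 6, 1, 2, 3, 1, 2], [3, 2, 7, 1, 6, 2, 3, 2], [2, 6, 3, 1, 2, 3, 1, 2], [3, 1, 6, 1, 2, 3, 2],
    [1, 2, 3, 6, 2], [3, 1, 6, 2], [0, 1, 6, 1, 2, 3, 2, 1, 6, 2, 3, 2], [6, 1, 6, 1, 2, 3, 1, 2],
    [6, 3, 1, 2, 7, 1, 6, 3, 2], [0, 1, 6, 3, 2, 1, 6, 3, 2], [3, 1, 2, 3, 2, 1, 6, 1, 2, 3, 1, 2], [0, 1, 6, 2, 3, 1, 2, 3, 0, 1, 2],
    [6], [1, 2, 6, 3, 6, 1, 2], [3, 1, 2, 0, 1, 6, 2, 3, 2], [0, 1, 7, 2, 3, 6, 1, 2],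
    [2, 3, 6, 1, 2, 0, 1, 6, 3, 2], [1, 6, 2, 3, 6, 2], [2, 1, 7, 2, 3, 1, 2, 3, 1, 2], [7, 1, 6, 1, 2, 3, 2],
    [7, 3, 2, 6, 1, 2, 7, 3, 1, 2], [2, 6, 1, 7, 2, 3, 1, 2, 3, 1, 2], [1, 6, 1, 7, 3, 2, 3, 1, 2], [7, 1, 2, 3, 6, 2],
    [3, 1, 2, 6, 1, 2, 7, 3, 1, 2], [3, 6, 3, 1, 2], [1, 2, 6, 3, 1, 2, 3, 1, 2], [6, 2, 1, 6, 2, 3, 2],
    [6, 1, 6, 3, 2, 6, 3, 1, 2], [0, 1, 7, 2, 3, 1, 6, 2], [3, 1, 2, 7, 1, 6, 3, 2], [7, 3, 1, 6, 1, 2, 3, 2],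
    [3, 0, 1, 7, 1, 2, 3, 1, 2], [3, 1, 7, 1, 2], [3, 6, 2, 6, 3, 1, 2, 3, 0, 1, 2], [7, 1, 2, 6, 3, 6, 1, 2],
    [3, 2, 1, 6, 3, 2, 6, 3, 1, 2], [2, 0, 1, 6, 2, 3, 1, 2], [1, 6, 3, 2], [6, 1, 7, 1, 2, 3, 1, 6, 2],
    [7, 1, 7, 1, 2, 3, 2], [3, 1, 2, 3, 7, 1, 2, 7, 3, 1, 2], [3, 7, 1, 2, 3, 2], [6, 3, 6, 1, 2, 3, 0, 1, 2],
    [0, 1, 7, 3, 2, 1, 6, 3, 2], [2, 7, 1, 6, 2, 3, 1, 2], [2, 7, 1, 2, 3, 2, 6, 1, 2], [2, 3, 1, 2, 1, 7, 3, 1, 2],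
    [3, 0, 1, 7, 1, 2, 3, 0, 1, 2], [3, 0, 1, 2, 3, 0, 1, 2], [7, 3, 1, 7, 2, 6, 3, 1, 2], [1, 2, 3, 1, 2, 7, 1, 2, 3, 2],
    [1, 6, 1, 2, 6, 3, 1, 6, 2], [3, 6, 1, 2, 7, 1, 6, 3, 2], [2, 6, 1, 6, 2, 3, 6, 1, 2], [3, 7, 1, 2, 1, 7, 3, 1, 2],
    [1, 6, 2, 3, 1, 6, 2, 1, 6, 3, 2], [6, 3, 2, 1, 6, 3, 2, 3, 1, 2], [3, 6, 2, 3, 1, 2, 1, 7, 3, 1, 2], [7, 3, 1, 2, 1, 7, 3, 1, 2],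
    [6, 1, 7, 2, 1, 6, 2, 3, 2], [2, 3, 2, 3, 1, 6, 2, 3, 1, 2], [2, 3, 2, 1, 6, 2, 3, 1, 2], [3, 2, 3, 1, 7, 1, 2],
    [7, 1, 6, 2, 3, 1, 2, 3, 0, 1, 2], [2, 6, 1, 2, 3, 1, 7, 1, 2], [2, 3, 0, 1, 2, 3, 0, 1, 2], [1, 6, 1, 2, 3, 0, 1, 2]]

end Cfsg.Agent.ONGlue
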