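import Cfsg.Agent.Lib.ONGlue.GlueData

/-!
# The centralisers of a and f glue in one of two ways
-/

set_option autoImplicit false
set_option linter.unusedSectionVars false

noncomputable section

namespace Cfsg.Agent.ONGlue

open Cfsg.Agent.InvCoset Cfsg.Agent.ONGroup

universe u

/-- The centraliser of `f`. -/
abbrev C0 : Subgroup Spor.ON := Subgroup.centralizer ({let8 5} : Set Spor.ON)

/-- The centraliser of `a`. -/
abbrev Ca : Subgroup Spor.ON := Subgroup.centralizer ({let8 0} : Set Spor.ON)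

theorem val_singleton (x : ℕ) : val [x] = let8 x := mul_one _

theorem val_cW {u x : List ℕ} (hu : inRange 8 u = true) : val (cW u x) = val u * val x * (val u)⁻¹ := by
  rw [cW, val_append, val_append, val_invW hu, mul_assoc]

theorem let8_zero_sq : let8 0 * let8 0 = 1 := gen_invol _ (by decide)

theorem let8_five_sq : let8 5 * let8 5 = 1 := gen_invol _ (by decide)

theorem range_letter : ∀ x < 8, inRange 8 [x] = true := by decide

/-- The values of the two marked elements in the table. -/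
theorem kA_val : ((kA : KS) : Spor.ON) = let8 0 ∧ ((kF : KS) : Spor.ON) = let8 5 ∧ KC.el iZ = val zW := by
  have h := glue_facts.1
  simp only [Bool.and_eq_true] at h
  exact ⟨(val_eq_of_sameW h.1.1).trans (val_singleton 0), (val_eq_of_sameW h.1.2).trans (val_singleton 5),
    val_eq_of_sameW h.2⟩

theorem sub_comm (x : KS) :
    (x : Spor.ON) * let8 0 = let8 0 * x ∧ (x : Spor.ON) * let8 5 = let8 5 * x := by
  obtain ⟨h1, h2⟩ := center_kA x
  have e1 := congrArg Subtype.val h1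
  have e2 := congrArg Subtype.val h2
  simp only [Subgroup.coe_mul, kA_val.1, kA_val.2.1] at e1 e2
  exact ⟨e1, e2⟩

/-- The letters of the centraliser of `f` invert or fix `zW`. -/
theorem zW_flip {x : Spor.ON} (hx : x ∈ Subgroup.closure (let8 '' {k | k ∈ [0, 1, 2, 3, 5, 6]})) :
    x * val zW * x⁻¹ = val zW ∨ x * val zW * x⁻¹ = (val zW)⁻¹ := by
  induction hx using Subgroup.closure_induction with
  | mem y hy =>
    obtain ⟨k, hk, rfl⟩ := hy
    have h := List.all_eq_true.1 glue_facts.2.2.2.2.2.1 k hk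
    have hk8 : inRange 8 [k] = true := range_letter k (by
      simp only [Set.mem_setOf_eq, List.mem_cons, List.not_mem_nil, or_false] at hk; omega)
    simp only [Bool.or_eq_true] at h
    rw [← val_singleton k, ← val_cW hk8]
    rcases h with h | h
    · exact Or.inl (val_eq_of_sameW h)
    · exact Or.inr ((val_eq_of_sameW h).trans (val_invW (by decide)))
  | one => exact Or.inl (by group)
  | mul a b _ _ ha hb =>
    have e : a * b * val zW * (a * b)⁻¹ = a * (b * val zW * b⁻¹) * a⁻¹ := by group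
    have hi : ∀ y, a * y⁻¹ * a⁻¹ = (a * y * a⁻¹)⁻¹ := fun y => by group
    rw [e]
    rcases hb with hb | hb <;> rw [hb]
    · exact ha
    · rw [hi]
      rcases ha with ha | ha <;> rw [ha]
      · exact Or.inr rfl
      · exact Or.inl (inv_inv _)
  | inv a _ ha =>
    have e : a⁻¹ * (a * val zW * a⁻¹) * a⁻¹⁻¹ = val zW := by group
    rcases ha with ha | ha
    · rw [ha] at e; exact Or.inl e
    · rw [ha] at e
      refine Or.inr ?_
      rw [← inv_inj, inv_inv]
      refine Eq.trans ?_ e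
      group

/-- The subgroup of the table is the centraliser of `a` in that of `f`. -/
theorem sub_eq (hgen : Subgroup.closure (let8 '' {k | k ∈ [0, 1, 2, 3, 5, 6]}) = C0)
    (hcard : Nat.card C0 = 161280) : KC.sub = C0 ⊓ Ca := by
  haveI : Finite Spor.ON := Nat.finite_of_card_ne_zero (by rw [card_ON]; norm_num)
  refine Subgroup.eq_of_le_of_card_ge (fun x hx => ?_) ?_
  · obtain ⟨h0, h5⟩ := sub_comm ⟨x, hx⟩
    exact ⟨Subgroup.mem_centralizer_singleton_iff.2 h5, Subgroup.mem_centralizer_singleton_iff.2 h0⟩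
  · have h := orbit_bound usA_ok.1 C0 (fun k hk => hgen ▸ Subgroup.subset_closure ⟨k, hk, rfl⟩)
    rw [usA_ok.2, hcard, val_singleton] at h
    rw [Code.card_sub KC_ok, show KC.N = 256 from rfl]
    change 630 * Nat.card (C0 ⊓ Ca : Subgroup Spor.ON) ≤ 161280 at h
    omega

variable {G : Type u} [Group G]

theorem exists_twistHom (hgen : Subgroup.closure (let8 '' {k | k ∈ [0, 1, 2, 3, 5, 6]}) = C0)
    (hz : val zW ∈ C0) :
    ∃ s : C0 →* C0, Function.Bijective s ∧ (∀ x : C0, (x : Spor.ON) * val zW * (x : Spor.ON)⁻¹ = val zW →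
      s x = x) ∧ ∀ x : C0, (x : Spor.ON) * val zW * (x : Spor.ON)⁻¹ ≠ val zW → ((s x : C0) : Spor.ON) = x * val zW := by
  classical
  haveI : Finite Spor.ON := Nat.finite_of_card_ne_zero (by rw [card_ON]; norm_num)
  have flip : ∀ x : C0, (x : Spor.ON) * val zW * (x : Spor.ON)⁻¹ = val zW ∨
      (x : Spor.ON) * val zW * (x : Spor.ON)⁻¹ = (val zW)⁻¹ := fun x =>
    zW_flip (by rw [hgen]; exact x.2)
  let ζ : C0 := ⟨val zW, hz⟩
  let f : C0 → C0 := fun x => if (x : Spor.ON) * val zW * (x : Spor.ON)⁻¹ = val zW then x else x * ζ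
  have fv : ∀ x : C0, ((f x : C0) : Spor.ON) =
      if (x : Spor.ON) * val zW * (x : Spor.ON)⁻¹ = val zW then (x : Spor.ON) else x * val zW := fun x => by
    by_cases h : (x : Spor.ON) * val zW * (x : Spor.ON)⁻¹ = val zW <;> simp [f, h, ζ]
  let s : C0 →* C0 := MonoidHom.mk' f fun x y => by
    refine Subtype.ext ?_
    rw [Subgroup.coe_mul, fv, fv, fv, Subgroup.coe_mul]
    generalize hX : (x : Spor.ON) = X
    generalize hY : (y : Spor.ON) = Y
    have fx := hX ▸ flip x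
    have fy := hY ▸ flip y
    set Z := val zW
    have exy : X * Y * Z * (X * Y)⁻¹ = X * (Y * Z * Y⁻¹) * X⁻¹ := by group
    by_cases h1 : X * Z * X⁻¹ = Z <;> by_cases h2 : Y * Z * Y⁻¹ = Z
    · rw [if_pos (by rw [exy, h2, h1]), if_pos h1, if_pos h2]
    · have h2' := fy.resolve_left h2
      have e : X * Y * Z * (X * Y)⁻¹ = Z⁻¹ := by
        rw [exy, h2', show X * Z⁻¹ * X⁻¹ = (X * Z * X⁻¹)⁻¹ by group, h1]
      rw [if_neg (by rw [e, ← h2']; exact h2), if_pos h1, if_neg h2, mul_assoc]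
    · have h1' := fx.resolve_left h1
      have e : X * Y * Z * (X * Y)⁻¹ = Z⁻¹ := by rw [exy, h2, h1']
      have hc : Z * Y = Y * Z := (mul_inv_eq_iff_eq_mul.1 h2).symm
      rw [if_neg (by rw [e, ← h1']; exact h1), if_neg h1, if_pos h2, mul_assoc X Z Y, hc, mul_assoc]
    · have h1' := fx.resolve_left h1
      have h2' := fy.resolve_left h2
      have e : X * Y * Z * (X * Y)⁻¹ = Z := by
        rw [exy, h2', show X * Z⁻¹ * X⁻¹ = (X * Z * X⁻¹)⁻¹ by group, h1', inv_inv]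
      have hc : Y * Z = Z⁻¹ * Y := mul_inv_eq_iff_eq_mul.1 h2'
      rw [if_pos e, if_neg h1, if_neg h2, show X * Z * (Y * Z) = X * (Z * (Y * Z)) by group, hc,
        mul_inv_cancel_left]
  have hinj : Function.Injective s := (injective_iff_map_eq_one s).2 fun x hx => by
    have h : ((f x : C0) : Spor.ON) = 1 := by rw [show f x = s x from rfl, hx]; rfl
    rw [fv] at h
    by_cases hc : (x : Spor.ON) * val zW * (x : Spor.ON)⁻¹ = val zW
    · rw [if_pos hc] at h; exact Subtype.ext h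
    · rw [if_neg hc] at h
      exact absurd (by rw [eq_inv_of_mul_eq_one_left h]; group) hc
  exact ⟨s, Finite.injective_iff_bijective.1 hinj, fun x hx => if_pos hx, fun x hx => by
    rw [show s x = f x from rfl, fv, if_neg hx]⟩

/-- The inclusion of the table group in the centraliser of `f`. -/
def kIn (x : KS) : C0 := ⟨x, Subgroup.mem_centralizer_singleton_iff.2 (sub_comm x).2⟩

theorem kIn_mul (x y : KS) : kIn (x * y) = kIn x * kIn y := Subtype.ext rfl

theorem kIn_inv (x : KS) : kIn x⁻¹ = (kIn x)⁻¹ := Subtype.ext rfl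

/-- The marked element `f`. -/
def fS : C0 := ⟨let8 5, Subgroup.mem_centralizer_singleton_iff.2 rfl⟩

/-- The marked element `a`. -/
def aS : C0 := ⟨let8 0, Subgroup.mem_centralizer_singleton_iff.2 (by
  have h := (sub_comm kA).2
  rwa [kA_val.1] at h)⟩

theorem kIn_kA : kIn kA = aS ∧ kIn kF = fS := ⟨Subtype.ext kA_val.1, Subtype.ext kA_val.2.1⟩

theorem nW_swap : val nW * let8 0 * (val nW)⁻¹ = let8 5 ∧ val nW * let8 5 * (val nW)⁻¹ = let8 0 := by
  obtain ⟨-, h2, -⟩ := glue_facts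
  simp only [Bool.and_eq_true] at h2
  obtain ⟨⟨⟨⟨h0, h5⟩, hn⟩, -⟩, -⟩ := h2
  exact ⟨by rw [← val_singleton 0, ← val_singleton 5, ← val_cW hn]; exact val_eq_of_sameW h0,
    by rw [← val_singleton 0, ← val_singleton 5, ← val_cW hn]; exact val_eq_of_sameW h5⟩

theorem conj_nW_mem {x : Spor.ON} (hx : x ∈ Ca) : val nW * x * (val nW)⁻¹ ∈ C0 := by
  refine Subgroup.mem_centralizer_singleton_iff.2 ?_
  rw [← nW_swap.1]
  have h := Subgroup.mem_centralizer_singleton_iff.1 hx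
  calc val nW * x * (val nW)⁻¹ * (val nW * let8 0 * (val nW)⁻¹) = val nW * (x * let8 0) * (val nW)⁻¹ := by group
    _ = val nW * let8 0 * (val nW)⁻¹ * (val nW * x * (val nW)⁻¹) := by rw [h]; group

/-- The two ways in which the two centralisers glue. -/
theorem exists_glue {t z1 h : G} (θ : C0 →* G) (hinj : Function.Injective θ)
    (hrange : ∀ y, Commute y t → y ∈ θ.range) (hf : θ fS = t) (ha : θ aS = z1) (h1 : h * t * h⁻¹ = z1)
    (h2 : h * z1 * h⁻¹ = t) (hgen : Subgroup.closure (let8 '' {k | k ∈ [0, 1, 2, 3, 5, 6]}) = C0)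
    (hcard : Nat.card C0 = 161280) :
    ∃ (θ' : C0 →* G) (ψ : Ca →* G), Function.Injective θ' ∧ (∀ y, Commute y t → y ∈ θ'.range) ∧ θ' fS = t ∧
      (∀ x ∈ [0, 5], ∀ (p : let8 x ∈ Ca) (q : let8 x ∈ C0), ψ ⟨_, p⟩ = θ' ⟨_, q⟩) ∧
      ((∀ x ∈ [2, 3, 6], ∀ (p : let8 x ∈ Ca) (q : let8 x ∈ C0), ψ ⟨_, p⟩ = θ' ⟨_, q⟩) ∨
        ((∀ (p : let8 3 ∈ Ca) (q : let8 3 ∈ C0), ψ ⟨_, p⟩ = θ' ⟨_, q⟩) ∧
          (∀ (p : let8 2 ∈ Ca) (q : val [6, 2, 6, 2, 6, 2, 6] ∈ C0), ψ ⟨_, p⟩ = θ' ⟨_, q⟩) ∧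
          (∀ (p : let8 6 ∈ Ca) (q : val [2, 6, 2, 6, 2, 6, 2] ∈ C0), ψ ⟨_, p⟩ = θ' ⟨_, q⟩))) := by
  classical
  obtain ⟨-, hfn, hfm, hgood, hmI, -, hsig, htw, hev⟩ := glue_facts
  simp only [Bool.and_eq_true] at hfn hfm hsig htw
  have hsub := sub_eq hgen hcard
  have hK : ∀ {x : C0}, (x : Spor.ON) * let8 0 = let8 0 * x → ∃ k : KS, kIn k = x := fun {x} hx =>
    ⟨⟨x, by rw [hsub]; exact ⟨x.2, Subgroup.mem_centralizer_singleton_iff.2 hx⟩⟩, rfl⟩
  have hta : ∀ x : KS, Commute (θ (kIn x)) t ∧ Commute (θ (kIn x)) z1 := fun x => by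
    obtain ⟨c1, c2⟩ := sub_comm x
    refine ⟨?_, ?_⟩
    · rw [← hf]; exact (show Commute (kIn x) fS from Subtype.ext c2).map θ
    · rw [← ha]; exact (show Commute (kIn x) aS from Subtype.ext c1).map θ
  have back : ∀ y : G, Commute y t → Commute y z1 → ∃ k : KS, θ (kIn k) = y := fun y ct cz => by
    obtain ⟨x, rfl⟩ := hrange y ct
    obtain ⟨k, rfl⟩ := hK (x := x) (congrArg Subtype.val (hinj (show θ (x * aS) = θ (aS * x) by
      rw [map_mul, map_mul, ha]; exact cz.eq)))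
    exact ⟨k, rfl⟩
  -- the exchange on the table group
  have hconj : ∀ x : KS, ∃ k : KS, θ (kIn k) = h * θ (kIn x) * h⁻¹ := fun x => by
    refine back _ ?_ ?_
    · rw [← h2]; exact (hta x).2.map (MulAut.conj h).toMonoidHom
    · rw [← h1]; exact (hta x).1.map (MulAut.conj h).toMonoidHom
  have kinj : Function.Injective fun k : KS => θ (kIn k) := fun x y e =>
    Subtype.ext (congrArg (fun z : C0 => (z : Spor.ON)) (hinj e) :)
  choose b hb using hconj
  let β : KS →* KS := MonoidHom.mk' b fun x y => kinj (by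
    simp only [kIn_mul, map_mul, hb]; group)
  have hβ : ∀ x, θ (kIn (β x)) = h * θ (kIn x) * h⁻¹ := hb
  have hmW : inRange 8 mW = true := hfn.1.2
  have hm0 : val mW * let8 0 * (val mW)⁻¹ = let8 0 * let8 5 := by
    rw [← val_singleton 0, ← val_cW hmW, val_eq_of_sameW hfm.1, ← val_singleton 5, ← val_append]
    rfl
  have hm5 : val mW * let8 5 * (val mW)⁻¹ = let8 5 := by
    rw [← val_singleton 5, ← val_cW hmW, val_eq_of_sameW hfm.2]
  have hmC : val mW ∈ C0 := Subgroup.mem_centralizer_singleton_iff.2 (mul_inv_eq_iff_eq_mul.1 hm5)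
  let μ : C0 := ⟨_, hmC⟩
  have mmem : ∀ x : KS, val mW * (x : Spor.ON) * (val mW)⁻¹ ∈ KC.sub := fun x => by
    obtain ⟨c0, c5⟩ := sub_comm x
    refine hsub.symm.le (Subgroup.mem_inf.2 ⟨mul_mem (mul_mem hmC (Subgroup.mem_centralizer_singleton_iff.2 c5)) (inv_mem hmC),
      Subgroup.mem_centralizer_singleton_iff.2 ?_⟩)
    have e : let8 0 = val mW * (let8 0 * let8 5) * (val mW)⁻¹ := by
      rw [show val mW * (let8 0 * let8 5) * (val mW)⁻¹ = (val mW * let8 0 * (val mW)⁻¹) *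
        (val mW * let8 5 * (val mW)⁻¹) by group, hm0, hm5, mul_assoc, let8_five_sq, mul_one]
    have cx : (x : Spor.ON) * (let8 0 * let8 5) = let8 0 * let8 5 * x := by
      rw [← mul_assoc, c0, mul_assoc, c5, mul_assoc]
    rw [e]
    calc val mW * (x : Spor.ON) * (val mW)⁻¹ * (val mW * (let8 0 * let8 5) * (val mW)⁻¹)
        = val mW * ((x : Spor.ON) * (let8 0 * let8 5)) * (val mW)⁻¹ := by group
      _ = val mW * (let8 0 * let8 5) * (val mW)⁻¹ * (val mW * (x : Spor.ON) * (val mW)⁻¹) := by rw [cx]; group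
  let m : KS →* KS := MonoidHom.mk' (fun x => ⟨_, mmem x⟩) fun x y => Subtype.ext (by simp)
  have hmθ : ∀ x : KS, θ (kIn (m x)) = θ μ * θ (kIn x) * (θ μ)⁻¹ := fun x => by
    rw [← map_inv, ← map_mul, ← map_mul]
    exact congrArg θ (Subtype.ext rfl)
  have zip_of : ∀ (l : List ℕ) (w : List ℕ), l.length = 3 →
      (([2, 3, 6].zip l).all fun p => sameW (cW w [p.1]) (kW p.2)) = true → inRange 8 w = true →
      ∀ i (hi : i < 3), val w * KC.gen i * (val w)⁻¹ = KC.el (l.getD i 0) := by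
    intro l w hl hall hw i hi
    obtain ⟨x, y, z, rfl⟩ : ∃ x y z, l = [x, y, z] := List.length_eq_three.1 hl
    simp only [List.zip_cons_cons, List.zip_nil_left, List.all_cons, List.all_nil, Bool.and_true,
      Bool.and_eq_true] at hall
    interval_cases i <;> (rw [← val_cW hw]; apply val_eq_of_sameW) <;> [exact hall.1; exact hall.2.1; exact hall.2.2]
  have hm : ∀ k (hk : k < 3), ((m (kgen hk) : KS) : Spor.ON) = KC.el (mI.getD k 0) :=
    zip_of mI mW rfl hmI hmW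
  have hA : β kA = kF := kinj (by
    show θ (kIn (β kA)) = θ (kIn kF)
    rw [hβ, kIn_kA.1, kIn_kA.2, hf, ha, h2])
  have hF : β kF = kA := kinj (by
    show θ (kIn (β kF)) = θ (kIn kA)
    rw [hβ, kIn_kA.2, kIn_kA.1, hf, ha, h1])
  have hβinj : Function.Injective β := fun x y e => kinj (by
    have h' := congrArg (fun k => θ (kIn k)) e
    simp only [hβ] at h'
    exact mul_left_cancel (mul_right_cancel h'))
  have inner_of : ∀ (f : KS →* KS) (y : G), Commute y t → Commute y z1 →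
      (∀ x, θ (kIn (f x)) = y * θ (kIn x) * y⁻¹) → Inner f := fun f y ct cz hy => by
    obtain ⟨k, rfl⟩ := back y ct cz
    refine ⟨k, fun x => kinj ?_⟩
    show θ (kIn (f x)) = θ (kIn (k * x * k⁻¹))
    rw [hy, kIn_mul, kIn_mul, kIn_inv, map_mul, map_mul, map_inv]
  have comm_of : ∀ {y x : G}, y * x * y⁻¹ = x → Commute y x := fun e => mul_inv_eq_iff_eq_mul.1 e
  have hsq : Inner (β.comp β) := inner_of _ (h * h)
    (comm_of (by rw [show h * h * t * (h * h)⁻¹ = h * (h * t * h⁻¹) * h⁻¹ by group, h1, h2]))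
    (comm_of (by rw [show h * h * z1 * (h * h)⁻¹ = h * (h * z1 * h⁻¹) * h⁻¹ by group, h2, h1]))
    (fun x => by rw [MonoidHom.comp_apply, hβ, hβ]; group)
  have hcube : Inner ((β.comp m).comp ((β.comp m).comp (β.comp m))) := by
    set u := h * θ μ with hu
    have mt : θ μ * t * (θ μ)⁻¹ = t := by
      rw [← hf, ← map_mul, ← map_inv, ← map_mul]
      exact congrArg θ (Subtype.ext hm5)
    have mz : θ μ * z1 * (θ μ)⁻¹ = z1 * t := by
      rw [← hf, ← ha, ← map_mul, ← map_inv, ← map_mul, ← map_mul]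
      exact congrArg θ (Subtype.ext hm0)
    have u1 : u * t * u⁻¹ = z1 := by
      rw [hu, show h * θ μ * t * (h * θ μ)⁻¹ = h * (θ μ * t * (θ μ)⁻¹) * h⁻¹ by group, mt, h1]
    have u2 : u * z1 * u⁻¹ = t * z1 := by
      rw [hu, show h * θ μ * z1 * (h * θ μ)⁻¹ = h * (θ μ * z1 * (θ μ)⁻¹) * h⁻¹ by group, mz,
        show h * (z1 * t) * h⁻¹ = (h * z1 * h⁻¹) * (h * t * h⁻¹) by group, h1, h2]
    have zz : z1 * z1 = 1 := by
      rw [← ha, ← map_mul, show aS * aS = 1 from Subtype.ext let8_zero_sq, map_one]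
    have tz : t * z1 = z1 * t := by
      rw [← hf, ← ha, ← map_mul, ← map_mul]
      have e := (sub_comm kA).2
      rw [kA_val.1] at e
      exact congrArg θ (Subtype.ext e.symm)
    have u3 : u * (t * z1) * u⁻¹ = t := by
      rw [show u * (t * z1) * u⁻¹ = (u * t * u⁻¹) * (u * z1 * u⁻¹) by group, u1, u2, ← mul_assoc, ← tz, mul_assoc,
        zz, mul_one]
    exact inner_of _ (u * u * u)
      (comm_of (by rw [show u * u * u * t * (u * u * u)⁻¹ = u * (u * (u * t * u⁻¹) * u⁻¹) * u⁻¹ by group, u1, u2, u3]))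
      (comm_of (by rw [show u * u * u * z1 * (u * u * u)⁻¹ = u * (u * (u * z1 * u⁻¹) * u⁻¹) * u⁻¹ by group, u2, u3, u1]))
      (fun x => by
        simp only [MonoidHom.comp_apply, hβ, hmθ, hu]
        group)
  obtain ⟨T0, hT0, k, hkT⟩ := exchange_cases β m hβinj hA hF hm hsq hcube
  set h' := (θ (kIn k))⁻¹ * h with hh'
  have c1 : h' * t * h'⁻¹ = z1 := by
    rw [hh', show (θ (kIn k))⁻¹ * h * t * ((θ (kIn k))⁻¹ * h)⁻¹ = (θ (kIn k))⁻¹ * (h * t * h⁻¹) * θ (kIn k) by group,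
      h1, mul_assoc, ← (hta k).2.eq, inv_mul_cancel_left]
  have c2 : h' * z1 * h'⁻¹ = t := by
    rw [hh', show (θ (kIn k))⁻¹ * h * z1 * ((θ (kIn k))⁻¹ * h)⁻¹ = (θ (kIn k))⁻¹ * (h * z1 * h⁻¹) * θ (kIn k) by group,
      h2, mul_assoc, ← (hta k).1.eq, inv_mul_cancel_left]
  -- the corrected exchange sends the generators to the target
  let B : KS →* KS := (MulAut.conj k⁻¹).toMonoidHom.comp β
  have hB : ∀ x, θ (kIn (B x)) = h' * θ (kIn x) * h'⁻¹ := fun x => by
    show θ (kIn (k⁻¹ * β x * k⁻¹⁻¹)) = _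
    rw [inv_inv, kIn_mul, kIn_mul, kIn_inv, map_mul, map_mul, map_inv, hβ, hh']
    group
  have hBg : ∀ i (hi : i < 3), ((B (kgen hi) : KS) : Spor.ON) = KC.el (T0.getD i 0) := fun i hi => by
    show (k : Spor.ON)⁻¹ * (β (kgen hi) : Spor.ON) * (k : Spor.ON)⁻¹⁻¹ = _
    rw [hkT i hi]; group
  have hrange3 := fun i (hi : i < 3) => List.all_eq_true.1 hev i (List.mem_range.2 hi)
  simp only [Bool.and_eq_true, Nat.beq_eq, Nat.blt_eq] at hrange3
  have hz : val zW ∈ C0 := by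
    rw [← kA_val.2.2]
    exact Subgroup.mem_centralizer_singleton_iff.2 (sub_comm (kel (show iZ < KC.N by decide))).2
  obtain ⟨s, hs, sfix, sflip⟩ := exists_twistHom hgen hz
  have hzr : inRange 8 zW = true := hfn.2
  have sfixw : ∀ (x : C0) (w : List ℕ), inRange 8 w = true → (x : Spor.ON) = val w → sameW (cW w zW) zW = true →
      s x = x := fun x w hw hx hc => sfix x (by rw [hx, ← val_cW hw]; exact val_eq_of_sameW hc)
  obtain ⟨⟨⟨⟨⟨⟨⟨⟨sg2, sg3⟩, sg6⟩, sg0⟩, sg5⟩, si0⟩, si1⟩, si2⟩, szz⟩ := hsig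
  have hzne : (val zW)⁻¹ ≠ val zW := fun e => by
    have hiz : iZ < KC.N := by decide
    have h1 : kel hiz * kel hiz = 1 := Subtype.ext (by
      show KC.el iZ * KC.el iZ = 1
      rw [kA_val.2.2]
      exact inv_eq_iff_mul_eq_one.1 e)
    rw [← kel_mul, kel_congr _ iA_lt.2 (Nat.eq_of_beq_eq_true szz)] at h1
    have h5 := congrArg Subtype.val h1
    rw [show (kel iA_lt.2 : KS).1 = ((kF : KS) : Spor.ON) from rfl, kA_val.2.1] at h5
    have h0 : kel iA_lt.2 = kel (Code.check_spec KC_ok).1 :=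
      Subtype.ext ((congrArg Subtype.val h1).trans (Code.el_zero KC_ok).symm)
    exact absurd (kel_inj _ _ h0) (by decide)
  have sneg : ∀ (x : C0) (w : List ℕ), inRange 8 w = true → (x : Spor.ON) = val w →
      sameW (cW w zW) (invW ONTable.iv zW) = true → ((s x : C0) : Spor.ON) = val (w ++ zW) := fun x w hw hx hc => by
    rw [sflip x (by rw [hx, ← val_cW hw, val_eq_of_sameW hc, val_invW hzr]; exact hzne), hx, val_append]
  have sk : ∀ i (hi : i < 3), ((s (kIn (kgen hi)) : C0) : Spor.ON) = KC.el (sI.getD i 0) := fun i hi => by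
    interval_cases i
    · rw [sfixw _ [2] rfl rfl sg2]; exact val_eq_of_sameW si0
    · rw [sneg _ [3] rfl rfl sg3]; exact val_eq_of_sameW si1
    · rw [sneg _ [6] rfl rfl sg6]; exact val_eq_of_sameW si2
  have s_a : s aS = aS := sfixw _ [0] rfl (val_singleton 0).symm sg0
  have s_f : s fS = fS := sfixw _ [5] rfl (val_singleton 5).symm sg5
  -- the twist on the table group
  have smem : ∀ x : KS, ∃ y : KS, kIn y = s (kIn x) := fun x => hK (congrArg Subtype.val
    (show s (kIn x) * aS = aS * s (kIn x) by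
      rw [← s_a, ← map_mul, ← map_mul]; exact congrArg s (Subtype.ext (sub_comm x).1)))
  choose sb hsb using smem
  have kIn_inj : Function.Injective kIn := fun x y e => Subtype.ext (congrArg (fun z : C0 => (z : Spor.ON)) e :)
  let S : KS →* KS := MonoidHom.mk' sb fun x y => kIn_inj (by rw [kIn_mul, hsb, hsb, hsb, kIn_mul, map_mul])
  have hS : ∀ x, kIn (S x) = s (kIn x) := hsb
  have hlt : ∀ i < 3, good.getD i 0 < KC.N ∧ bad.getD i 0 < KC.N ∧ sI.getD i 0 < KC.N ∧ twI.getD i 0 < KC.N :=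
    fun i hi => ⟨(hrange3 i hi).1.1.1.1.2, (hrange3 i hi).1.1.1.2, (hrange3 i hi).1.1.2, (hrange3 i hi).1.2⟩
  have hS3 : ∀ i (hi : i < 3), S (kgen hi) = kel (hlt i hi).2.2.1 := fun i hi => Subtype.ext (by
    show ((kIn (S (kgen hi)) : C0) : Spor.ON) = _
    rw [hS, sk i hi]; rfl)
  have hT : targets = [good, targets.getD 1 [], bad, targets.getD 3 []] := rfl
  have hTlt : (targets.all fun T => (List.range 3).all fun i => Nat.blt (T.getD i 0) KC.N) = true := by decide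
  have hTlt' : ∀ T ∈ targets, ∀ i < 3, T.getD i 0 < KC.N := fun T hT i hi =>
    Nat.blt_eq ▸ List.all_eq_true.1 (List.all_eq_true.1 hTlt T hT) i (List.mem_range.2 hi)
  have hBk : ∀ i (hi : i < 3), B (kgen hi) = kel (hTlt' T0 hT0 i hi) := fun i hi => Subtype.ext (hBg i hi)
  obtain ⟨θ', i'inj, i'range, i'f, i'a, T, hTgb, hTk⟩ : ∃ θ' : C0 →* G, Function.Injective θ' ∧
      (∀ y, Commute y t → y ∈ θ'.range) ∧ θ' fS = t ∧ θ' aS = z1 ∧ ∃ T, (T = good ∨ T = bad) ∧
      ∀ i (hi : i < 3), ∃ hlt : T.getD i 0 < KC.N,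
        h' * θ' (kIn (kgen hi)) * h'⁻¹ = θ' (kIn (kel hlt)) := by
    have plain : T0 = good ∨ T0 = bad → ∃ θ' : C0 →* G, Function.Injective θ' ∧ (∀ y, Commute y t → y ∈ θ'.range) ∧
        θ' fS = t ∧ θ' aS = z1 ∧ ∃ T, (T = good ∨ T = bad) ∧ ∀ i (hi : i < 3), ∃ hlt : T.getD i 0 < KC.N,
          h' * θ' (kIn (kgen hi)) * h'⁻¹ = θ' (kIn (kel hlt)) := fun hgb =>
      ⟨θ, hinj, hrange, hf, ha, T0, hgb, fun i hi => ⟨hTlt' T0 hT0 i hi, by rw [← hB, hBk i hi]⟩⟩
    have twisted : ∀ T, (T = good ∨ T = bad) → (∀ i < 3, T.getD i 0 < KC.N ∧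
        KC.evI T0 (sI.getD i 0) = KC.evI sI (T.getD i 0)) → ∃ θ' : C0 →* G, Function.Injective θ' ∧
        (∀ y, Commute y t → y ∈ θ'.range) ∧
        θ' fS = t ∧ θ' aS = z1 ∧ ∃ T, (T = good ∨ T = bad) ∧ ∀ i (hi : i < 3), ∃ hlt : T.getD i 0 < KC.N,
          h' * θ' (kIn (kgen hi)) * h'⁻¹ = θ' (kIn (kel hlt)) := fun T hgb hev => by
      refine ⟨θ.comp s, hinj.comp hs.1, fun y hy => ?_, ?_, ?_, T, hgb, fun i hi => ⟨(hev i hi).1, ?_⟩⟩
      · obtain ⟨x, rfl⟩ := hrange y hy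
        obtain ⟨w, rfl⟩ := hs.2 x
        exact ⟨w, rfl⟩
      · rw [MonoidHom.comp_apply, s_f, hf]
      · rw [MonoidHom.comp_apply, s_a, ha]
      · obtain ⟨b1, e1⟩ := hom_spec B (hTlt' T0 hT0) hBk _ (hlt i hi).2.2.1
        obtain ⟨b2, e2⟩ := hom_spec S (fun k hk => (hlt k hk).2.2.1) hS3 _ (hev i hi).1
        rw [MonoidHom.comp_apply, MonoidHom.comp_apply, ← hS, ← hS, hS3 i hi, ← hB, e1, e2]
        exact congrArg (fun z => θ (kIn z)) (kel_congr _ _ (hev i hi).2)
    rw [hT] at hT0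
    simp only [List.mem_cons, List.not_mem_nil, or_false] at hT0
    rcases hT0 with e | e | e | e
    · exact plain (Or.inl e)
    · exact twisted good (Or.inl rfl) fun i hi => ⟨(hlt i hi).1, e ▸ (hrange3 i hi).1.1.1.1.1.1.1.1⟩
    · exact plain (Or.inr e)
    · exact twisted bad (Or.inr rfl) fun i hi => ⟨(hlt i hi).2.1, e ▸ (hrange3 i hi).1.1.1.1.1.1.1.2⟩
  let ψ : Ca →* G := MonoidHom.mk' (fun x => h' * θ' ⟨_, conj_nW_mem x.2⟩ * h'⁻¹) fun x y => by
    rw [show (⟨_, conj_nW_mem (x * y).2⟩ : C0) = ⟨_, conj_nW_mem x.2⟩ * ⟨_, conj_nW_mem y.2⟩ from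
      Subtype.ext (by simp), map_mul]
    group
  let B' : KS →* G := (MulAut.conj h').toMonoidHom.comp (MonoidHom.mk' (fun x => θ' (kIn x)) fun x y => by
    rw [kIn_mul, map_mul])
  have hB' : ∀ x, B' x = h' * θ' (kIn x) * h'⁻¹ := fun _ => rfl
  have bck : ∀ x : KS, ∃ y : KS, θ' (kIn y) = B' x := fun x => by
    have ct : Commute (θ' (kIn x)) t := by
      rw [← i'f]; exact (show Commute (kIn x) fS from Subtype.ext (sub_comm x).2).map θ'
    have cz : Commute (θ' (kIn x)) z1 := by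
      rw [← i'a]; exact (show Commute (kIn x) aS from Subtype.ext (sub_comm x).1).map θ'
    have dt : Commute (B' x) t := by rw [← c2, hB']; exact cz.map (MulAut.conj h').toMonoidHom
    have dz : Commute (B' x) z1 := by rw [← c1, hB']; exact ct.map (MulAut.conj h').toMonoidHom
    obtain ⟨y, hy⟩ := i'range _ dt
    obtain ⟨k, rfl⟩ := hK (x := y) (congrArg Subtype.val (i'inj (show θ' (y * aS) = θ' (aS * y) by
      rw [map_mul, map_mul, hy, i'a]; exact dz.eq)))
    exact ⟨k, hy⟩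
  choose cb hcb using bck
  let Q : KS →* KS := MonoidHom.mk' cb fun x y => kIn_inj (i'inj (by
    simp only [kIn_mul, map_mul, hcb]))
  have hQ : ∀ i (hi : i < 3), ∃ hlt : T.getD i 0 < KC.N, Q (kgen hi) = kel hlt := fun i hi => by
    obtain ⟨hl, e⟩ := hTk i hi
    exact ⟨hl, kIn_inj (i'inj ((hcb _).trans e))⟩
  have gen_conj : ∀ i (hi : i < 3), val nW * KC.gen i * (val nW)⁻¹ = KC.el (good.getD i 0) :=
    zip_of good nW rfl hgood hfn.1.1.2
  have ψgen : ∀ i (hi : i < 3) (p : KC.gen i ∈ Ca), ∃ hq : KC.evI T (good.getD i 0) < KC.N,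
      ψ ⟨_, p⟩ = θ' (kIn (kel hq)) := fun i hi p => by
    obtain ⟨hq, e⟩ := hom_spec Q (fun k hk => (hQ k hk).1) (fun k hk => (hQ k hk).2) _ (hlt i hi).1
    refine ⟨hq, ?_⟩
    show h' * θ' ⟨_, conj_nW_mem p⟩ * h'⁻¹ = _
    rw [show (⟨_, conj_nW_mem p⟩ : C0) = kIn (kel (hlt i hi).1) from Subtype.ext (gen_conj i hi), ← hB', ← hcb]
    exact congrArg (fun z => θ' (kIn z)) e
  refine ⟨θ', ψ, i'inj, i'range, i'f, ?_, ?_⟩
  · intro x hx p q
    simp only [List.mem_cons, List.not_mem_nil, or_false] at hx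
    rcases hx with rfl | rfl
    · show h' * θ' ⟨_, conj_nW_mem p⟩ * h'⁻¹ = θ' aS
      rw [show (⟨_, conj_nW_mem p⟩ : C0) = fS from Subtype.ext nW_swap.1, i'f, c1, i'a]
    · show h' * θ' ⟨_, conj_nW_mem p⟩ * h'⁻¹ = θ' fS
      rw [show (⟨_, conj_nW_mem p⟩ : C0) = aS from Subtype.ext nW_swap.2, i'a, c2, i'f]
  · have gv : ∀ (i x : ℕ), KC.gs.getD i [] = [x] → KC.gen i = let8 x := fun i x e => by
      rw [Code.gen, e, val_singleton]
    have gmem : ∀ i (hi : i < 3), KC.gen i ∈ Ca := fun i hi => Subgroup.mem_centralizer_singleton_iff.2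
      (sub_comm (kgen hi)).1
    have conv : ∀ i (hi : i < 3) (x : ℕ) (hx : KC.gen i = let8 x) (p : let8 x ∈ Ca) (j : ℕ) (hj : j < KC.N)
        (hev : KC.evI T (good.getD i 0) = j) (v : Spor.ON) (hv : v = KC.el j) (q : v ∈ C0),
        ψ ⟨_, p⟩ = θ' ⟨_, q⟩ := fun i hi x hx p j hj hev v hv q => by
      obtain ⟨hq, e⟩ := ψgen i hi (gmem i hi)
      rw [show (⟨let8 x, p⟩ : Ca) = ⟨KC.gen i, gmem i hi⟩ from Subtype.ext hx.symm, e]
      refine congrArg θ' (Subtype.ext ?_)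
      show KC.el (KC.evI T (good.getD i 0)) = v
      rw [hev, hv]
    have g2 : KC.gen 0 = let8 2 := gv 0 2 rfl
    have g3 : KC.gen 1 = let8 3 := gv 1 3 rfl
    have g6 : KC.gen 2 = let8 6 := gv 2 6 rfl
    obtain ⟨⟨tw0, tw1⟩, tw2⟩ := htw
    rcases hTgb with rfl | rfl
    · refine Or.inl fun x hx p q => ?_
      have e : ∀ i < 3, KC.evI good (good.getD i 0) = gI.getD i 0 := fun i hi =>
        (hrange3 i hi).1.1.1.1.1.1.2
      simp only [List.mem_cons, List.not_mem_nil, or_false] at hx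
      rcases hx with rfl | rfl | rfl
      · exact conv 0 (by norm_num) 2 g2 p _ (gI_spec (by norm_num)).1 (e 0 (by norm_num)) _
          (g2.symm.trans (gI_spec (by norm_num)).2.symm) q
      · exact conv 1 (by norm_num) 3 g3 p _ (gI_spec (by norm_num)).1 (e 1 (by norm_num)) _
          (g3.symm.trans (gI_spec (by norm_num)).2.symm) q
      · exact conv 2 (by norm_num) 6 g6 p _ (gI_spec (by norm_num)).1 (e 2 (by norm_num)) _
          (g6.symm.trans (gI_spec (by norm_num)).2.symm) q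
    · have e : ∀ i < 3, KC.evI bad (good.getD i 0) = twI.getD i 0 := fun i hi =>
        (hrange3 i hi).1.1.1.1.1.2
      refine Or.inr ⟨fun p q => ?_, fun p q => ?_, fun p q => ?_⟩
      · exact conv 1 (by norm_num) 3 g3 p _ (hlt 1 (by norm_num)).2.2.2 (e 1 (by norm_num)) _
          ((val_singleton 3).symm.trans (val_eq_of_sameW tw1)) q
      · exact conv 0 (by norm_num) 2 g2 p _ (hlt 0 (by norm_num)).2.2.2 (e 0 (by norm_num)) _
          (val_eq_of_sameW tw0) q
      · exact conv 2 (by norm_num) 6 g6 p _ (hlt 2 (by norm_num)).2.2.2 (e 2 (by norm_num)) _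
          (val_eq_of_sameW tw2) q

end Cfsg.Agent.ONGlue
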