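import Cfsg.Agent.Lib.ONGlue.Orbit

/-!
# Conjugates of a (generated data)
-/

set_option autoImplicit false
set_option maxRecDepth 100000

namespace Cfsg.Agent.ONGlue


/-- Conjugators of `a`. -/
def usA : List (List ℕ) := [
  [0, 1, 6, 3, 2, 3, 2, 1, 6, 2, 1],
  [1, 6, 3, 2, 3, 2, 1, 6, 2, 1],
  [6, 1, 6, 3, 1, 2, 1, 6, 3, 2, 1],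
  [2, 1, 6, 3, 2, 6, 1, 6, 3, 2, 1],
  [1, 6, 2, 3, 1, 2, 6, 1],
  [0, 1, 6, 1, 2, 6, 3, 2, 1],
  [6, 3, 2, 6, 1, 6, 1, 2, 3, 2, 1],
  [3, 1, 2, 0, 1, 6, 2, 3, 2, 0, 1],
  [1, 2, 3, 0, 1, 2, 1, 6, 3, 2, 1],
  [3, 2, 6, 1, 2, 6, 3, 2, 6, 1],
  [2, 3, 1, 2, 0, 1, 6, 2, 3, 2, 1],
  [6, 1, 2, 6, 3, 1, 2, 6, 0, 1],
  [3, 0, 1, 2, 0, 1, 6, 3, 2, 1],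
  [6, 1, 6, 3, 2, 1, 6, 3, 2, 1],
  [1, 6, 2, 6, 1, 6, 3, 2, 1],
  [1, 6, 1, 2, 0, 1],
  [6, 3, 1, 2, 6, 1, 6, 1, 2, 3, 2, 1],
  [2, 1, 6, 3, 2, 3, 2, 1, 6, 2, 1],
  [0, 1, 6, 3, 2, 6, 1, 6, 3, 2, 1],
  [1, 6, 3, 1, 2, 1, 6, 3, 2, 1],
  [2, 6, 1, 6, 3, 2, 1],
  [2, 0, 1, 6, 3, 2, 1, 6, 3, 2, 1],
  [3, 1, 2, 6, 3, 1, 2, 0, 1],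
  [1, 6, 2, 3, 2, 1, 6, 2, 3, 2, 0, 1],
  [6, 1, 2, 3, 1, 2, 1, 6, 3, 2, 1],
  [3, 1, 2, 3, 2, 1, 6, 2, 3, 2, 1],
  [6, 0, 1, 6, 1, 2, 3, 2, 0, 1],
  [6, 1, 6, 1, 2, 1, 6, 3, 2, 1],
  [6, 0, 1, 6, 1, 2, 1, 6, 3, 2, 1],
  [6, 1, 6, 2, 3, 2, 0, 1],
  [1, 6, 3, 2, 3, 1, 2, 0, 1],
  [1, 6, 1, 6, 2, 0, 1, 6, 3, 2, 1],
  [1, 6, 1, 2, 6, 3, 2, 1],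
  [6, 2, 6, 1, 2, 0, 1],
  [6, 3, 2, 1, 6, 2, 3, 2, 1],
  [1, 2, 1, 6, 1, 6, 3, 2, 1],
  [6, 2, 1, 6, 3, 2, 0, 1],
  [1, 6, 1, 2, 0, 1, 6, 2, 3, 2, 1],
  [3, 2, 6, 0, 1, 2, 6, 3, 2, 6, 1],
  [1, 6, 1, 2, 1, 6, 3, 1, 2, 0, 1],
  [2, 1, 6, 2, 6, 3, 2, 1],
  [3, 2, 1, 6, 2, 3, 2, 1],
  [6, 3, 2, 1, 6, 3, 2, 1],
  [1, 6, 1, 6, 2, 1, 6, 3, 2, 0, 1],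
  [1, 6, 2, 3, 2, 0, 1],
  [6, 1, 6, 1, 2, 3, 0, 1, 2, 6, 0, 1],
  [6, 2, 3, 1, 2, 1, 6, 3, 2, 1],
  [3, 2, 6, 3, 2, 1, 6, 2, 3, 2, 1],
  [3, 2, 1, 6, 1, 2, 6, 3, 2, 1],
  [0, 1, 6, 2, 3, 2, 1, 6, 2, 1],
  [6, 2, 1, 6, 2, 3, 2, 1],
  [1, 6, 1, 2, 6, 3, 2, 0, 1],
  [6, 1, 6, 3, 1, 2, 0, 1],
  [2, 1, 6, 3, 2, 0, 1],
  [3, 1, 2, 1, 6, 3, 2, 1],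
  [6, 1, 2, 6, 3, 1, 2, 0, 1],
  [0, 1, 6, 3, 2, 6, 1],
  [6, 1, 6, 2, 3, 1, 2, 0, 1],
  [3, 2, 3, 1, 2, 6, 1],
  [6, 2, 3, 2, 1],
  [1, 2, 0, 1, 6, 3, 2, 0, 1],
  [0, 1, 2, 6, 3, 2, 0, 1],
  [1, 6, 0, 1, 2, 3, 2, 1],
  [1, 6, 3, 2, 3, 1, 2, 0, 1, 6, 3, 2, 1],
  [1, 2, 6, 1, 6, 1, 2, 3, 2, 1],
  [1, 6, 2, 3, 2, 1, 6, 1, 2, 3, 2, 0, 1],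
  [1, 6, 2, 3, 1, 2, 0, 1, 6, 3, 2, 1],
  [3, 2, 3, 0, 1, 2, 6, 1],
  [2, 6, 1, 2, 3, 2, 1],
  [3, 2, 6, 1, 2, 6, 3, 2, 1],
  [1, 6, 1, 2, 3, 0, 1, 2, 6, 0, 1],
  [2, 1, 6, 1, 2, 1, 6, 3, 2, 1],
  [],
  [0, 1, 6, 2, 6, 1, 6, 3, 2, 1],
  [2, 6, 0, 1, 2, 3, 2, 1],
  [1, 6, 1, 2, 1, 6, 3, 2, 1],
  [1, 6, 3, 2, 6, 1, 6, 3, 2, 1],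
  [6, 1, 2, 6, 1, 6, 1, 2, 3, 2, 1],
  [2, 3, 0, 1, 2, 0, 1, 6, 3, 2, 1],
  [6, 1, 2, 3, 2, 1],
  [3, 2, 3, 2, 1, 6, 1, 2, 3, 2, 1],
  [3, 2, 6, 0, 1, 6, 1, 2, 3, 2, 0, 1],
  [1, 6, 1, 6, 3, 2, 6, 1, 6, 3, 2, 1],
  [6, 3, 1, 2, 3, 0, 1, 2, 6, 0, 1],
  [6, 2, 0, 1, 6, 2, 3, 1, 2, 0, 1],
  [2, 1, 6, 1, 2, 3, 1, 2, 0, 1],
  [6, 1, 6, 1, 2, 6, 3, 2, 0, 1],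
  [6, 1, 6, 2, 1, 6, 2, 3, 2, 1],
  [1, 6, 2, 6, 1, 6, 2, 3, 2, 0, 1],
  [2, 6, 3, 1, 2, 1, 6, 3, 2, 1],
  [2, 3, 1, 2, 1, 6, 3, 2, 0, 1],
  [6, 3, 2, 1],
  [2, 3, 1, 2, 3, 0, 1, 2, 6, 1],
  [2, 6, 3, 2, 0, 1],
  [1, 2, 1, 6, 1, 2, 3, 2, 1],
  [3, 2, 1, 6, 1, 6, 2, 3, 2, 1],
  [6, 2, 0, 1, 6, 3, 2, 1],
  [2, 3, 1, 2, 3, 2, 1, 6, 2, 3, 2, 1],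
  [2, 0, 1, 6, 2, 3, 1, 2, 0, 1],
  [3, 1, 2, 6, 0, 1],
  [0, 1, 6, 2, 3, 1, 2, 6, 0, 1],
  [3, 1, 2, 6, 1],
  [6, 1, 6, 2, 6, 3, 1, 2, 0, 1],
  [2, 1, 6, 3, 2, 1, 6, 3, 2, 1],
  [2, 3, 2, 1, 6, 2, 3, 2, 1],
  [6, 0, 1, 2, 3, 2, 0, 1],
  [2, 6, 0, 1, 2, 6, 3, 2, 6, 1],
  [6, 3, 2, 3, 1, 2, 6, 1],
  [3, 1, 2, 6, 1, 6, 3, 2, 1],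
  [2, 3, 1, 2, 6, 1, 6, 3, 2, 1],
  [1, 2, 3, 0, 1, 2, 6, 0, 1],
  [2, 6, 0, 1, 6, 3, 2, 1],
  [3, 1, 2, 6, 1, 6, 1, 2, 3, 2, 1],
  [3, 2, 1, 6, 1, 2, 1, 6, 3, 2, 1],
  [2, 0, 1, 6, 2, 3, 2, 1],
  [2, 1, 6, 1, 6, 2, 3, 1, 2, 0, 1],
  [2, 6, 1, 6, 2, 6, 3, 2, 1],
  [2, 6, 3, 1, 2, 6, 0, 1],
  [2, 6, 1, 6, 1, 2, 3, 1, 2, 0, 1],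
  [0, 1, 2, 3, 2, 3, 1, 2, 6, 1],
  [6, 1, 2, 3, 2, 0, 1],
  [3, 2, 6, 0, 1, 6, 2, 3, 2, 0, 1],
  [1, 6, 2, 6, 1, 2, 3, 2, 1],
  [6, 1, 2, 3, 1, 2, 0, 1],
  [6, 2, 3, 2, 1, 6, 2, 3, 2, 0, 1],
  [1, 2, 6, 0, 1],
  [1, 2, 3, 2, 1, 6, 1, 2, 3, 2, 1],
  [3, 2, 1, 6, 2, 3, 1, 2, 6, 1],
  [2, 6, 1, 6, 2, 3, 1, 2, 0, 1],
  [6, 2, 3, 2, 0, 1],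
  [1, 6, 1, 2, 3, 1, 2, 0, 1],
  [2, 3, 2, 1, 6, 3, 2, 1],
  [3, 1, 2, 1, 6, 3, 2, 0, 1],
  [2, 3, 2, 1, 6, 1, 2, 3, 2, 1],
  [0, 1, 6, 2, 0, 1, 6, 3, 2, 1],
  [3, 2, 1, 6, 3, 2, 0, 1],
  [6, 3, 2, 0, 1],
  [6, 2, 6, 0, 1, 2, 3, 2, 1],
  [1, 6, 1, 2, 3, 2, 0, 1],
  [6, 3, 2, 6, 1, 6, 2, 3, 2, 1],
  [2, 6, 0, 1, 2, 6, 3, 2, 1],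
  [6, 1, 6, 2, 3, 2, 1],
  [1, 2, 6, 1, 2, 3, 0, 1, 2, 6, 1],
  [6, 1, 6, 3, 2, 6, 1, 6, 3, 2, 1],
  [3, 2, 6, 0, 1, 6, 3, 2, 1],
  [2, 6, 1],
  [6, 2, 6, 1],
  [1, 6, 3, 1, 2, 3, 0, 1, 2, 6, 0, 1],
  [6, 1, 6, 3, 0, 1, 2, 3, 1, 2, 0, 1],
  [3, 0, 1, 2, 1, 6, 3, 2, 1],
  [3, 1, 2, 1, 6, 1, 2, 3, 2, 1],
  [1, 2, 0, 1, 6, 2, 3, 2, 1],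
  [6, 2, 1, 6, 3, 2, 1, 6, 3, 2, 1],
  [1, 2, 3, 0, 1, 2, 0, 1, 6, 3, 2, 1],
  [6, 1, 6, 1, 2, 3, 2, 0, 1],
  [6, 0, 1, 6, 2, 6, 3, 1, 2, 0, 1],
  [2, 6, 1, 2, 6, 3, 2, 6, 1],
  [6, 1, 2, 0, 1, 6, 2, 3, 2, 1],
  [1, 2, 6, 1, 2, 3, 2, 0, 1],
  [2, 3, 1, 2, 3, 0, 1, 2, 6, 0, 1],
  [6, 2, 3, 1, 2, 3, 0, 1, 2, 6, 0, 1],
  [3, 0, 1, 2, 6, 0, 1],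
  [1, 6, 1, 6, 2, 3, 2, 0, 1],
  [2, 6, 1, 2, 0, 1, 6, 3, 2, 1],
  [3, 1, 2, 6, 0, 1, 6, 3, 2, 1],
  [6, 1, 2, 1, 6, 3, 2, 0, 1],
  [1, 6, 3, 1, 2, 3, 1, 2, 0, 1],
  [2, 1, 6, 1, 6, 3, 2, 0, 1],
  [1, 6, 2, 3, 2, 1, 6, 2, 1],
  [0, 1, 6, 1, 2, 1, 6, 3, 2, 1],
  [2, 3, 1, 2, 6, 1, 2, 3, 2, 1],
  [6, 3, 1, 2, 0, 1],
  [6, 1, 6, 0, 1, 2, 3, 2, 1],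
  [1, 6, 1, 6, 3, 2, 3, 1, 2, 0, 1],
  [6, 1, 6, 2, 6, 1, 6, 3, 2, 1],
  [6, 1, 6, 3, 2, 3, 2, 1, 6, 2, 1],
  [2, 6, 0, 1, 6, 3, 1, 2, 3, 1, 2, 0, 1],
  [3, 2, 1, 6, 1, 6, 2, 3, 1, 2, 0, 1],
  [2, 6, 1, 6, 2, 3, 1, 2, 6, 0, 1],
  [2, 6, 1, 2, 6, 3, 1, 2, 0, 1],
  [3, 2, 6, 1, 6, 2, 3, 1, 2, 0, 1],
  [3, 2, 1, 6, 3, 2, 1, 6, 3, 2, 1],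
  [3, 2, 6, 3, 1, 2, 0, 1],
  [0, 1, 6, 2, 0, 1],
  [0, 1, 2, 6, 0, 1],
  [3, 0, 1, 2, 1, 6, 3, 1, 2, 0, 1],
  [0, 1, 2, 6, 1, 6, 2, 3, 2, 0, 1],
  [1, 2, 1, 6, 1, 2, 6, 3, 2, 1],
  [2, 6, 0, 1, 2, 3, 2, 0, 1],
  [6, 2, 6, 3, 2, 1],
  [2, 6, 3, 2, 6, 1],
  [2, 6, 1, 6, 2, 6, 3, 1, 2, 0, 1],
  [1, 6, 1, 6, 2, 1, 6, 3, 2, 1],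
  [6, 3, 2, 6, 0, 1],
  [1, 2, 6, 1, 2, 3, 2, 1],
  [2, 1, 6, 1, 6, 2, 3, 2, 0, 1],
  [2, 1, 6, 2, 1],
  [0, 1, 6, 3, 0, 1, 2, 3, 1, 2, 0, 1],
  [6, 2, 3, 2, 1, 6, 2, 3, 1, 2, 0, 1],
  [1, 2, 6, 3, 2, 6, 1],
  [2, 1, 6, 3, 2, 1],
  [6, 2, 0, 1],
  [2, 1, 6, 3, 1, 2, 3, 1, 2, 0, 1],
  [3, 2, 3, 1, 2, 0, 1],
  [6, 1, 6, 2, 3, 2, 1, 6, 2, 1],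
  [1, 6, 2, 3, 2, 0, 1, 6, 1, 2, 3, 2, 1],
  [1, 6, 0, 1],
  [6, 1, 6, 2, 1],
  [2, 0, 1, 6, 3, 1, 2, 3, 1, 2, 0, 1],
  [6, 2, 1],
  [0, 1, 2, 6, 3, 1, 2, 3, 1, 2, 0, 1],
  [1, 2, 6, 1, 2, 6, 3, 1, 2, 0, 1],
  [1, 6, 2, 0, 1, 6, 3, 2, 1],
  [1, 2, 6, 1, 2, 6, 3, 2, 1],
  [2, 3, 0, 1, 2, 6, 3, 1, 2, 0, 1],
  [2, 1, 6, 2, 3, 2, 0, 1],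
  [2, 0, 1],
  [6, 0, 1, 2, 6, 1],
  [2, 1, 6, 1, 2, 3, 2, 0, 1],
  [6, 1, 2, 6, 3, 2, 1],
  [2, 6, 1, 6, 1, 2, 3, 2, 0, 1],
  [6, 1, 6, 1, 2, 3, 2, 1],
  [3, 2, 6, 1, 6, 2, 1],
  [2, 3, 2, 1, 6, 2, 3, 2, 0, 1],
  [6, 3, 1, 2, 6, 0, 1, 6, 3, 2, 1],
  [3, 1, 2, 0, 1],
  [6, 3, 2, 0, 1, 6, 2, 3, 1, 2, 0, 1],
  [2, 3, 1, 2, 6, 1, 2, 6, 3, 2, 1],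
  [1, 2, 0, 1, 6, 3, 2, 1],
  [6, 2, 6, 3, 1, 2, 1, 6, 3, 2, 1],
  [1, 6, 1, 6, 2, 3, 1, 2, 0, 1],
  [6, 0, 1, 2, 3, 2, 1],
  [2, 6, 1, 2, 3, 2, 0, 1],
  [1, 6, 3, 2, 0, 1],
  [6, 3, 1, 2, 6, 0, 1],
  [6, 3, 2, 6, 1],
  [1, 6, 3, 2, 6, 1],
  [1, 6, 2, 3, 2, 1],
  [2, 6, 1, 6, 2, 3, 2, 0, 1],
  [6, 1, 6, 0, 1, 2, 3, 2, 0, 1],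
  [3, 0, 1, 2, 3, 2, 1, 6, 2, 3, 2, 1],
  [6, 0, 1, 2, 0, 1, 6, 3, 2, 0, 1],
  [6, 1, 2, 0, 1, 6, 3, 2, 1],
  [6, 1, 6, 3, 2, 3, 1, 2, 6, 0, 1],
  [2, 3, 1, 2, 1, 6, 3, 2, 1],
  [1, 6, 3, 2, 6, 3, 1, 2, 0, 1],
  [3, 2, 1, 6, 3, 2, 1],
  [6, 3, 2, 6, 1, 6, 2, 3, 1, 2, 0, 1],
  [6, 3, 0, 1, 2, 0, 1, 6, 3, 2, 1],
  [0, 1, 2, 6, 3, 2, 6, 1],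
  [2, 6, 0, 1, 6, 2, 3, 2, 0, 1],
  [2, 3, 2, 1, 6, 0, 1, 2, 3, 2, 1],
  [3, 2, 3, 2, 1, 6, 2, 3, 2, 1],
  [3, 1, 2, 1, 6, 1, 2, 3, 2, 0, 1],
  [0, 1, 2, 1, 6, 3, 2, 0, 1],
  [6, 3, 2, 6, 1, 6, 2, 3, 2, 0, 1],
  [3, 2, 3, 0, 1, 2, 6, 0, 1],
  [6, 2, 1, 6, 2, 3, 1, 2, 6, 1],
  [2, 0, 1, 6, 2, 3, 2, 0, 1],
  [6, 0, 1, 6, 2, 3, 2, 1],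
  [6, 3, 1, 2, 3, 0, 1, 2, 6, 1],
  [1, 6, 2, 1, 6, 2, 3, 2, 0, 1],
  [6, 0, 1, 6, 2, 3, 2, 1, 6, 2, 1],
  [0, 1, 6, 3, 1, 2, 1, 6, 3, 2, 1],
  [0, 1, 2, 3, 2, 1, 6, 2, 3, 2, 1],
  [6, 2, 6, 1, 6, 2, 3, 2, 1],
  [0, 1, 6, 2, 3, 2, 1],
  [6, 1, 2, 3, 0, 1, 2, 6, 1],
  [2, 3, 0, 1, 2, 6, 0, 1],
  [6, 1, 2, 6, 3, 2, 6, 1],
  [1, 2, 1, 6, 1, 2, 3, 2, 0, 1],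
  [2, 0, 1, 6, 3, 2, 1],
  [6, 1, 2, 6, 1],
  [6, 0, 1, 6, 3, 2, 3, 1, 2, 0, 1],
  [1, 2, 3, 2, 0, 1, 6, 1, 2, 3, 2, 1],
  [1, 2, 3, 2, 3, 1, 2, 6, 0, 1],
  [3, 1, 2, 6, 1, 6, 2, 3, 1, 2, 0, 1],
  [6, 2, 6, 1, 6, 3, 2, 1],
  [0, 1, 2, 1, 6, 3, 1, 2, 0, 1],
  [1, 6, 2, 1, 6, 2, 3, 2, 1],
  [3, 1, 2, 3, 1, 2, 0, 1],
  [6, 1, 6, 2, 6, 1],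
  [2, 1, 6, 1, 6, 3, 2, 1],
  [2, 1, 6, 3, 2, 3, 1, 2, 0, 1],
  [6, 3, 1, 2, 1, 6, 3, 2, 0, 1],
  [6, 3, 2, 6, 1, 2, 3, 2, 1],
  [1, 2, 3, 2, 1, 6, 2, 3, 2, 1],
  [6, 2, 3, 2, 1, 6, 1, 2, 3, 2, 1],
  [6, 0, 1, 6, 2, 1],
  [6, 0, 1, 2, 6, 3, 2, 1],
  [3, 1, 2, 0, 1, 6, 0, 1, 2, 3, 2, 1],
  [2, 3, 1, 2, 0, 1, 6, 1, 2, 3, 2, 1],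
  [3, 2, 0, 1, 6, 2, 3, 1, 2, 0, 1],
  [1, 6, 1, 2, 1, 6, 3, 2, 0, 1],
  [3, 1, 2, 3, 0, 1, 2, 6, 1],
  [1, 2, 1, 6, 3, 2, 1],
  [6, 1, 2, 1, 6, 1, 6, 2, 3, 2, 1],
  [2, 6, 3, 1, 2, 0, 1, 6, 3, 2, 1],
  [0, 1, 2, 1, 6, 3, 2, 1],
  [3, 0, 1, 2, 6, 1],
  [6, 3, 1, 2, 0, 1, 6, 1, 2, 3, 2, 1],
  [6, 1, 2, 0, 1, 6, 2, 3, 2, 0, 1],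
  [2, 6, 0, 1, 6, 1, 2, 3, 2, 1],
  [3, 2, 6, 1, 6, 1, 2, 3, 2, 1],
  [0, 1, 2, 6, 1, 6, 3, 2, 1],
  [0, 1, 2, 6, 1, 2, 3, 2, 0, 1],
  [6, 2, 6, 3, 1, 2, 3, 1, 2, 0, 1],
  [6, 3, 2, 6, 1, 2, 3, 2, 0, 1],
  [3, 2, 0, 1, 6, 0, 1, 2, 3, 2, 1],
  [1, 6, 2, 3, 1, 2, 6, 0, 1],
  [1, 2, 6, 1, 6, 2, 3, 1, 2, 0, 1],
  [0, 1, 6, 2, 1],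
  [2, 0, 1, 6, 1, 2, 3, 2, 1],
  [6, 2, 0, 1, 6, 3, 2, 1, 6, 3, 2, 1],
  [2, 3, 0, 1, 2, 6, 1],
  [2, 3, 2, 3, 1, 2, 6, 0, 1],
  [2, 3, 1, 2, 6, 0, 1, 6, 3, 2, 1],
  [1, 6, 1, 2, 0, 1, 6, 3, 2, 1],
  [3, 2, 3, 1, 2, 0, 1, 6, 2, 3, 2, 1],
  [1, 6, 1, 2, 3, 2, 3, 1, 2, 6, 0, 1],
  [3, 2, 6, 1, 6, 2, 3, 2, 1],
  [2, 6, 3, 2, 1],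
  [6, 1, 6, 2, 3, 1, 2, 6, 0, 1],
  [6, 0, 1, 2, 3, 1, 2, 0, 1],
  [0, 1, 6, 1, 2, 3, 2, 1],
  [6, 0, 1, 2, 6, 3, 2, 6, 1],
  [6, 0, 1, 6, 2, 0, 1, 6, 3, 2, 1],
  [6, 2, 3, 2, 1, 6, 2, 1],
  [6, 3, 2, 6, 1, 6, 3, 2, 1],
  [6, 1, 6, 3, 2, 1, 6, 2, 3, 2, 1],
  [6, 2, 6, 1, 2, 3, 2, 1],
  [6, 0, 1, 6, 3, 1, 2, 3, 1, 2, 0, 1],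
  [2, 1, 6, 3, 2, 6, 3, 1, 2, 0, 1],
  [1, 2, 1, 6, 3, 1, 2, 0, 1],
  [6, 2, 3, 1, 2, 0, 1, 6, 3, 2, 1],
  [6, 2, 3, 2, 1, 6, 1, 2, 3, 2, 0, 1],
  [2, 3, 2, 1, 6, 1, 2, 3, 2, 0, 1],
  [1, 2, 6, 3, 2, 0, 1],
  [3, 1, 2, 6, 1, 2, 3, 2, 1],
  [6, 1, 6, 1, 2, 0, 1],
  [1, 6, 1, 2, 6, 1, 6, 3, 2, 1],
  [1, 2, 0, 1, 6, 1, 2, 3, 2, 1],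
  [2, 1, 6, 0, 1, 2, 3, 2, 0, 1],
  [2, 1, 6, 2, 3, 2, 1],
  [1, 2, 6, 1, 6, 2, 6, 3, 2, 1],
  [0, 1, 2, 3, 1, 2, 0, 1],
  [6, 0, 1, 6, 2, 3, 2, 0, 1],
  [2, 0, 1, 6, 3, 2, 0, 1],
  [2, 3, 1, 2, 0, 1, 6, 2, 3, 2, 0, 1],
  [1, 2, 0, 1, 6, 0, 1, 2, 3, 2, 1],
  [6, 0, 1, 2, 0, 1, 6, 3, 2, 1],
  [6, 1, 2, 6, 0, 1, 6, 3, 2, 1],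
  [1, 6, 1, 2, 3, 2, 1],
  [6, 1, 2, 0, 1, 6, 1, 2, 3, 2, 1],
  [1, 2, 6, 3, 1, 2, 6, 0, 1],
  [6, 2, 6, 1, 6, 2, 3, 1, 2, 0, 1],
  [2, 3, 2, 1, 6, 2, 6, 3, 2, 1],
  [6, 2, 3, 2, 1, 6, 2, 6, 3, 2, 1],
  [6, 3, 2, 1, 6, 3, 2, 0, 1],
  [1, 2, 3, 2, 1],
  [3, 2, 6, 1, 6, 3, 2, 1],
  [2, 1, 6, 0, 1, 2, 3, 2, 1],
  [1, 6, 3, 1, 2, 0, 1, 6, 3, 2, 1],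
  [0, 1, 2, 1, 6, 3, 1, 2, 3, 1, 2, 0, 1],
  [3, 2, 1, 6, 1, 2, 3, 2, 1],
  [1, 2, 6, 3, 1, 2, 3, 1, 2, 0, 1],
  [6, 1],
  [6, 1, 6, 2, 0, 1],
  [1, 6, 1, 6, 2, 1],
  [3, 2, 6, 1, 6, 2, 0, 1, 6, 3, 2, 1],
  [3, 1, 2, 6, 1, 2, 3, 2, 0, 1],
  [3, 1, 2, 1, 6, 3, 1, 2, 0, 1],
  [3, 2, 6, 0, 1, 6, 2, 3, 2, 1],
  [3, 1, 2, 0, 1, 6, 3, 2, 1],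
  [3, 2, 1, 6, 1, 6, 3, 2, 1],
  [3, 2, 1, 6, 1, 2, 3, 2, 0, 1],
  [6, 3, 2, 1, 6, 2, 3, 2, 0, 1],
  [6, 3, 2, 6, 1, 2, 0, 1],
  [3, 2, 0, 1, 6, 1, 2, 3, 2, 1],
  [3, 2, 6, 1],
  [3, 2, 0, 1, 6, 3, 2, 1],
  [6, 2, 1, 6, 2, 3, 1, 2, 0, 1],
  [6, 0, 1, 2, 6, 3, 1, 2, 0, 1],
  [2, 3, 1, 2, 0, 1, 6, 3, 2, 1],
  [1, 6, 2, 1, 6, 3, 2, 1],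
  [1, 6, 2, 6, 3, 2, 1],
  [0, 1, 2, 3, 2, 0, 1],
  [2, 0, 1, 6, 0, 1, 2, 3, 2, 1],
  [3, 2, 3, 1, 2, 6, 0, 1],
  [6, 1, 2, 3, 2, 1, 6, 3, 2, 1],
  [0, 1, 6, 2, 6, 3, 2, 1],
  [1, 6, 3, 2, 6, 1, 6, 2, 3, 2, 0, 1],
  [3, 1, 2, 6, 1, 6, 2, 6, 3, 2, 1],
  [2, 1, 6, 2, 3, 1, 2, 6, 1],
  [0, 1, 2, 3, 2, 1, 6, 3, 2, 1],
  [2, 6, 3, 1, 2, 6, 0, 1, 6, 3, 2, 1],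
  [3, 2, 6, 0, 1, 2, 3, 2, 1],
  [3, 2, 3, 1, 2, 3, 0, 1, 2, 6, 0, 1],
  [6, 1, 6, 2, 1, 6, 2, 3, 2, 0, 1],
  [1, 6, 1, 2, 6, 3, 1, 2, 0, 1],
  [6, 0, 1, 6, 3, 2, 1],
  [6, 0, 1, 6, 1, 2, 3, 1, 2, 0, 1],
  [1, 6, 1, 2, 1, 6, 1, 6, 3, 2, 1],
  [0, 1, 6, 3, 2, 1],
  [0, 1, 2, 6, 3, 1, 2, 0, 1],
  [2, 3, 1, 2, 6, 3, 1, 2, 0, 1],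
  [6, 2, 3, 2, 0, 1, 6, 1, 2, 3, 2, 1],
  [3, 2, 6, 1, 6, 2, 3, 2, 0, 1],
  [3, 2, 6, 0, 1],
  [3, 1, 2, 0, 1, 6, 2, 3, 2, 1],
  [2, 1, 6, 1, 2, 3, 2, 1],
  [3, 2, 1, 6, 2, 6, 3, 2, 1],
  [2, 3, 1, 2, 1, 6, 1, 2, 3, 2, 1],
  [1, 6, 3, 2, 3, 1, 2, 6, 0, 1],
  [3, 1, 2, 6, 1, 2, 6, 3, 1, 2, 0, 1],
  [2, 6, 0, 1],
  [6, 3, 1, 2, 1, 6, 3, 1, 2, 0, 1],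
  [3, 2, 6, 1, 2, 3, 2, 1],
  [6, 1, 2, 3, 2, 3, 1, 2, 6, 1],
  [0, 1, 2, 3, 1, 2, 1, 6, 3, 2, 1],
  [2, 6, 1, 2, 3, 0, 1, 2, 6, 1],
  [1, 6, 1, 6, 2, 6, 1, 6, 3, 2, 1],
  [3, 2, 1, 6, 2, 3, 1, 2, 0, 1],
  [3, 2, 6, 1, 6, 1, 2, 3, 2, 0, 1],
  [6, 0, 1, 2, 6, 3, 1, 2, 6, 0, 1],
  [6, 2, 3, 0, 1, 2, 0, 1, 6, 3, 2, 1],
  [6, 3, 2, 3, 2, 1, 6, 1, 2, 3, 2, 1],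
  [1, 2, 3, 2, 1, 6, 1, 2, 3, 2, 0, 1],
  [6, 0, 1, 6, 2, 3, 1, 2, 0, 1],
  [1, 6, 0, 1, 2, 6, 3, 2, 1],
  [6, 2, 6, 1, 6, 1, 2, 3, 2, 1],
  [1, 2, 0, 1, 6, 2, 3, 2, 0, 1],
  [2, 6, 3, 1, 2, 3, 0, 1, 2, 6, 0, 1],
  [1, 2, 3, 2, 3, 1, 2, 6, 1],
  [3, 1, 2, 6, 1, 6, 1, 2, 3, 2, 0, 1],
  [2, 6, 1, 2, 6, 3, 2, 1],
  [6, 2, 0, 1, 6, 2, 3, 2, 1],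
  [2, 0, 1, 6, 3, 2, 3, 1, 2, 0, 1],
  [1, 6, 1, 6, 2, 0, 1],
  [0, 1, 6, 3, 2, 0, 1],
  [1, 2, 6, 0, 1, 6, 3, 2, 1],
  [3, 1, 2, 6, 1, 6, 2, 3, 2, 0, 1],
  [2, 6, 2, 1],
  [6, 2, 6, 0, 1],
  [3, 2, 0, 1, 6, 2, 3, 2, 0, 1],
  [6, 1, 6, 1, 2, 3, 1, 2, 0, 1],
  [2, 6, 1, 2, 6, 3, 1, 2, 6, 0, 1],
  [1, 2, 3, 0, 1, 2, 6, 1],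
  [3, 2, 6, 1, 2, 0, 1],
  [6, 1, 2, 6, 1, 6, 3, 2, 1],
  [0, 1, 6, 1, 2, 3, 2, 0, 1],
  [1, 2, 1, 6, 3, 2, 0, 1],
  [1, 6, 1, 6, 3, 2, 0, 1],
  [2, 6, 3, 2, 6, 1, 6, 2, 3, 2, 0, 1],
  [0, 1, 2, 6, 1, 2, 3, 2, 1],
  [1, 6, 1],
  [6, 0, 1, 2, 6, 3, 2, 0, 1],
  [2, 3, 2, 1, 6, 2, 3, 1, 2, 0, 1],
  [0, 1, 2, 6, 3, 1, 2, 6, 0, 1],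
  [6, 2, 6, 3, 1, 2, 0, 1],
  [6, 2, 1, 6, 3, 2, 1],
  [2, 6, 1, 6, 3, 2, 6, 1],
  [0, 1],
  [1, 6, 1, 6, 2, 3, 1, 2, 6, 0, 1],
  [3, 2, 6, 0, 1, 6, 1, 2, 3, 2, 1],
  [6, 3, 1, 2, 0, 1, 6, 2, 3, 2, 0, 1],
  [2, 6, 3, 1, 2, 3, 1, 2, 0, 1],
  [1, 6, 3, 2, 1],
  [6, 2, 6, 3, 2, 1, 6, 2, 3, 2, 1],
  [2, 6, 0, 1, 6, 1, 2, 3, 2, 0, 1],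
  [2, 6, 3, 2, 1, 6, 2, 3, 2, 1],
  [0, 1, 6, 2, 3, 1, 2, 0, 1],
  [2, 3, 1, 2, 6, 1],
  [6, 1, 2, 1, 6, 3, 2, 1],
  [6, 1, 2, 3, 2, 3, 1, 2, 6, 0, 1],
  [1, 6, 0, 1, 2, 3, 2, 0, 1],
  [2, 0, 1, 6, 2, 6, 3, 2, 1],
  [2, 6, 3, 1, 2, 1, 6, 3, 2, 0, 1],
  [0, 1, 6, 2, 3, 2, 0, 1],
  [2, 1, 6, 1, 2, 6, 3, 2, 1],
  [3, 2, 0, 1, 6, 2, 3, 2, 1],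
  [0, 1, 6, 2, 6, 3, 1, 2, 0, 1],
  [3, 2, 1, 6, 3, 1, 2, 0, 1],
  [6, 1, 2, 3, 0, 1, 2, 6, 0, 1],
  [1, 6, 1, 6, 3, 2, 1],
  [1, 2, 1, 6, 1, 6, 2, 3, 2, 1],
  [6, 2, 6, 1, 2, 3, 2, 0, 1],
  [0, 1, 6, 3, 2, 6, 3, 1, 2, 0, 1],
  [6, 1, 6, 3, 2, 6, 1],
  [0, 1, 6, 0, 1, 2, 3, 1, 2, 0, 1],
  [2, 1],
  [2, 6, 3, 1, 2, 0, 1],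
  [3, 2, 6, 1, 6, 2, 6, 3, 2, 1],
  [3, 0, 1, 2, 1, 6, 3, 2, 0, 1],
  [1, 6, 3, 1, 2, 1, 6, 3, 1, 2, 0, 1],
  [2, 3, 1, 2, 6, 0, 1],
  [1, 2, 6, 1, 6, 1, 2, 3, 2, 0, 1],
  [3, 2, 1, 6, 1, 6, 3, 2, 0, 1],
  [1, 6, 2, 0, 1],
  [0, 1, 6, 3, 1, 2, 3, 1, 2, 0, 1],
  [0, 1, 2, 3, 2, 3, 1, 2, 6, 0, 1],
  [3, 0, 1, 2, 3, 1, 2, 0, 1],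
  [0, 1, 2, 6, 0, 1, 6, 3, 2, 1],
  [6, 1, 6, 2, 0, 1, 6, 3, 2, 1],
  [1, 2, 3, 2, 0, 1],
  [6, 3, 2, 3, 2, 1, 6, 2, 1],
  [6, 2, 3, 1, 2, 6, 0, 1],
  [1, 6, 2, 1],
  [6, 3, 2, 3, 1, 2, 0, 1, 6, 3, 2, 1],
  [2, 6, 0, 1, 6, 2, 3, 2, 1],
  [1, 6, 3, 0, 1, 2, 3, 1, 2, 0, 1],
  [2, 3, 2, 0, 1, 6, 1, 2, 3, 2, 1],
  [0, 1, 6, 1, 2, 3, 1, 2, 0, 1],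
  [0, 1, 2, 6, 1, 2, 6, 3, 2, 1],
  [1, 6, 3, 2, 1, 6, 2, 3, 2, 1],
  [2, 3, 0, 1, 2, 1, 6, 3, 2, 1],
  [1, 2, 3, 2, 1, 6, 3, 2, 1],
  [6, 1, 6, 0, 1, 2, 3, 1, 2, 0, 1],
  [3, 2, 1, 6, 2, 1],
  [3, 2, 3, 1, 2, 0, 1, 6, 3, 2, 1],
  [1, 2, 3, 1, 2, 1, 6, 3, 2, 1],
  [1, 2, 0, 1],
  [1, 2, 6, 3, 1, 2, 6, 1],
  [1, 2, 6, 1],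
  [6, 3, 2, 6, 3, 1, 2, 0, 1],
  [6, 3, 2, 3, 1, 2, 0, 1],
  [0, 1, 2, 6, 1],
  [6, 3, 1, 2, 3, 1, 2, 0, 1],
  [1, 2, 0, 1, 6, 3, 2, 6, 3, 1, 2, 0, 1],
  [1, 6, 2, 6, 1],
  [6, 1, 2, 0, 1, 6, 3, 2, 0, 1],
  [3, 2, 1, 6, 2, 3, 2, 0, 1],
  [0, 1, 2, 0, 1, 6, 3, 2, 1],
  [6, 1, 6, 2, 6, 3, 2, 1],
  [0, 1, 2, 3, 2, 1],
  [6, 1, 6, 2, 1, 6, 3, 2, 1],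
  [2, 6, 1, 6, 1, 2, 3, 2, 1],
  [2, 1, 6, 1, 6, 2, 3, 2, 1],
  [3, 1, 2, 0, 1, 6, 1, 2, 3, 2, 1],
  [3, 1, 2, 6, 1, 2, 6, 3, 2, 1],
  [2, 3, 2, 0, 1],
  [1, 6, 2, 1, 6, 3, 2, 0, 1],
  [2, 6, 1, 6, 2, 1],
  [2, 1, 6, 2, 3, 1, 2, 0, 1],
  [6, 2, 1, 6, 2, 3, 2, 0, 1],
  [2, 6, 1, 6, 3, 1, 2, 3, 1, 2, 0, 1],
  [2, 6, 1, 2, 6, 3, 2, 0, 1],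
  [6, 0, 1, 6, 2, 6, 1],
  [3, 0, 1, 2, 6, 3, 1, 2, 0, 1],
  [3, 2, 6, 1, 2, 6, 3, 1, 2, 0, 1],
  [6, 2, 3, 1, 2, 0, 1],
  [0, 1, 6, 0, 1, 2, 3, 2, 0, 1],
  [2, 6, 3, 1, 2, 6, 1],
  [0, 1, 6, 3, 2, 1, 6, 3, 2, 1],
  [3, 2, 6, 1, 2, 3, 2, 0, 1],
  [2, 6, 1, 6, 2, 3, 2, 1],
  [2, 1, 6, 3, 2, 3, 1, 2, 6, 0, 1],
  [1, 6, 0, 1, 2, 0, 1, 6, 3, 2, 1],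
  [1, 2, 6, 1, 6, 2, 3, 2, 0, 1],
  [0, 1, 2, 6, 3, 2, 1],
  [6, 0, 1, 2, 3, 2, 1, 6, 3, 2, 1],
  [3, 0, 1, 2, 6, 0, 1, 6, 3, 2, 1],
  [2, 3, 2, 3, 1, 2, 6, 1],
  [6, 1, 6, 3, 2, 0, 1],
  [6, 2, 6, 0, 1, 2, 3, 2, 0, 1],
  [1, 2, 3, 1, 2, 0, 1],
  [1, 6, 0, 1, 2, 3, 1, 2, 0, 1],
  [6, 1, 6, 3, 2, 3, 1, 2, 0, 1],
  [1, 2, 6, 3, 1, 2, 0, 1],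
  [1, 6, 3, 1, 2, 0, 1],
  [6, 3, 0, 1, 2, 6, 1],
  [6, 0, 1, 6, 3, 2, 6, 1],
  [1, 6, 2, 3, 1, 2, 0, 1],
  [2, 3, 2, 1],
  [3, 2, 0, 1, 6, 2, 6, 3, 2, 1],
  [0, 1, 6, 3, 2, 3, 1, 2, 0, 1],
  [3, 2, 3, 2, 1, 6, 2, 1],
  [1, 6, 3, 2, 1, 6, 3, 2, 0, 1],
  [6, 0, 1, 6, 2, 6, 3, 2, 1],
  [1, 2, 6, 1, 6, 3, 2, 1],
  [6, 0, 1, 2, 3, 2, 3, 1, 2, 6, 0, 1],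
  [2, 3, 1, 2, 0, 1],
  [6, 2, 3, 1, 2, 6, 3, 1, 2, 0, 1],
  [0, 1, 6, 2, 1, 6, 3, 2, 1],
  [6, 0, 1, 6, 2, 3, 1, 2, 6, 0, 1],
  [6, 2, 3, 1, 2, 6, 1],
  [0, 1, 2, 0, 1, 6, 3, 2, 0, 1],
  [3, 2, 6, 1, 6, 3, 2, 6, 1],
  [1, 2, 6, 3, 2, 1],
  [6, 1, 2, 6, 3, 2, 0, 1],
  [6, 1, 6, 2, 1, 6, 3, 2, 0, 1],
  [0, 1, 6, 3, 2, 3, 1, 2, 6, 0, 1],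
  [2, 1, 6, 3, 1, 2, 0, 1],
  [6, 0, 1, 6, 1, 2, 3, 2, 1],
  [6, 3, 1, 2, 6, 1],
  [6, 3, 1, 2, 0, 1, 6, 3, 2, 1],
  [6, 3, 2, 3, 1, 2, 6, 0, 1],
  [2, 0, 1, 6, 3, 2, 6, 3, 1, 2, 0, 1],
  [6, 1, 2, 1, 6, 1, 6, 3, 2, 1],
  [6, 1, 2, 6, 0, 1],
  [3, 2, 1, 6, 0, 1, 2, 3, 2, 1],
  [6, 1, 6, 3, 2, 1],
  [6, 1, 2, 0, 1],
  [2, 6, 1, 2, 0, 1],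
  [6, 3, 0, 1, 2, 3, 1, 2, 0, 1],
  [1, 6, 3, 2, 1, 6, 3, 2, 1],
  [1, 6, 2, 6, 1, 2, 3, 2, 0, 1],
  [6, 1, 6, 3, 1, 2, 3, 1, 2, 0, 1],
  [0, 1, 6, 0, 1],
  [6, 0, 1],
  [0, 1, 6, 2, 6, 1],
  [1],
  [1, 2, 1, 6, 3, 1, 2, 3, 1, 2, 0, 1],
  [3, 2, 1],
  [6, 3, 2, 1, 6, 2, 3, 1, 2, 0, 1],
  [3, 1, 2, 3, 0, 1, 2, 6, 0, 1],
  [3, 1, 2, 1, 6, 1, 2, 6, 3, 2, 1],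
  [6, 2, 6, 1, 6, 2, 3, 2, 0, 1],
  [6, 3, 1, 2, 1, 6, 3, 2, 1],
  [3, 2, 0, 1],
  [1, 6, 1, 6, 2, 3, 2, 1],
  [2, 6, 1, 6, 2, 0, 1, 6, 3, 2, 1],
  [2, 3, 2, 1, 6, 2, 1],
  [1, 2, 6, 1, 6, 2, 3, 2, 1],
  [0, 1, 6, 0, 1, 2, 3, 2, 1],
  [1, 6, 2, 6, 3, 1, 2, 0, 1],
  [2, 3, 2, 1, 6, 1, 6, 2, 3, 2, 1],
  [6, 1, 2, 1, 6, 3, 1, 2, 0, 1],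
  [2, 3, 2, 0, 1, 6, 2, 3, 2, 1],
  [3, 2, 6, 1, 2, 3, 0, 1, 2, 6, 1]]

theorem usA_ok : orbitOK [0, 1, 2, 3, 5, 6] [0] usA = true ∧ usA.length = 630 := by decide +kernel

end Cfsg.Agent.ONGlue
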