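import Cfsg.Agent.Lib.ONGlue.KClassify
import Cfsg.Agent.Lib.ONGlue.OrbitA

/-!
# Finite facts for the gluing of the centralisers of a and f
-/

set_option autoImplicit false

noncomputable section

namespace Cfsg.Agent.ONGlue

open Cfsg.Agent.InvCoset

/-- The word of an element of the table. -/
abbrev kW (i : ℕ) : List ℕ := KC.word i

/-- A word conjugated by another. -/
def cW (u x : List ℕ) : List ℕ := u ++ (x ++ invW ONTable.iv u)

theorem glue_facts :
    ((sameW (kW iA) [0] && sameW (kW iF) [5] && sameW (kW iZ) zW) = true) ∧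
    ((sameW (cW nW [0]) [5] && sameW (cW nW [5]) [0] && inRange 8 nW && inRange 8 mW && inRange 8 zW) = true) ∧
    ((sameW (cW mW [0]) [0, 5] && sameW (cW mW [5]) [5]) = true) ∧
    ((([2, 3, 6].zip good).all fun p => sameW (cW nW [p.1]) (kW p.2)) = true) ∧
    ((([2, 3, 6].zip mI).all fun p => sameW (cW mW [p.1]) (kW p.2)) = true) ∧
    (([0, 1, 2, 3, 5, 6].all fun x => sameW (cW [x] zW) zW || sameW (cW [x] zW) (invW ONTable.iv zW)) = true) ∧
    ((sameW (cW [2] zW) zW && sameW (cW [3] zW) (invW ONTable.iv zW) && sameW (cW [6] zW) (invW ONTable.iv zW) && sameW (cW [0] zW) zW &&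
      sameW (cW [5] zW) zW && sameW [2] (kW (sI.getD 0 0)) && sameW ([3] ++ zW) (kW (sI.getD 1 0)) &&
      sameW ([6] ++ zW) (kW (sI.getD 2 0)) && Nat.beq (KC.mul iZ iZ) iF) = true) ∧
    ((sameW [6, 2, 6, 2, 6, 2, 6] (kW (twI.getD 0 0)) && sameW [3] (kW (twI.getD 1 0)) &&
      sameW [2, 6, 2, 6, 2, 6, 2] (kW (twI.getD 2 0))) = true) ∧
    (((List.range 3).all fun i =>
      Nat.beq (KC.evI (targets.getD 1 []) (sI.getD i 0)) (KC.evI sI (good.getD i 0)) &&
      Nat.beq (KC.evI (targets.getD 3 []) (sI.getD i 0)) (KC.evI sI (bad.getD i 0)) &&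
      Nat.beq (KC.evI good (good.getD i 0)) (gI.getD i 0) && Nat.beq (KC.evI bad (good.getD i 0)) (twI.getD i 0) &&
      Nat.blt (good.getD i 0) KC.N && Nat.blt (bad.getD i 0) KC.N && Nat.blt (sI.getD i 0) KC.N &&
      Nat.blt (twI.getD i 0) KC.N && Nat.blt (mI.getD i 0) KC.N) = true) := by
  decide +kernel

end Cfsg.Agent.ONGlue
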