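import Cfsg.Agent.Lib.ONGlue.KData

/-!
# The table of the subgroup spanned by c, d, g is correct
-/

set_option autoImplicit false

noncomputable section

namespace Cfsg.Agent.ONGlue

theorem KC_ok : KC.check = true := by decide +kernel

end Cfsg.Agent.ONGlue
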