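import Cfsg.Agent.Lib.ONGlue.KSearch

/-!
# An exchange of a and f on the subgroup spanned by c, d, g is conjugate to one of four
-/

set_option autoImplicit false

noncomputable section

namespace Cfsg.Agent.ONGlue

open Cfsg.Agent.InvCoset Cfsg.Agent.ONGroup

/-- The group of the table. -/
abbrev KS : Type := KC.sub

/-- An element of the table. -/
def kel {i : ℕ} (hi : i < KC.N) : KS := ⟨KC.el i, Code.el_mem KC_ok hi⟩

/-- A generator. -/
def kgen {k : ℕ} (hk : k < KC.r) : KS := ⟨KC.gen k, KC.gen_mem hk⟩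

/-- Given by conjugation with one element. -/
def Inner (f : KS →* KS) : Prop := ∃ k : KS, ∀ x, f x = k * x * k⁻¹

theorem gI_spec {i : ℕ} (hi : i < 3) : gI.getD i 0 < KC.N ∧ KC.el (gI.getD i 0) = KC.gen i := by
  have h0 : 0 < KC.N := (Code.check_spec KC_ok).1
  have e : gI.getD i 0 = KC.tgt 0 i := by
    simp [gI, hi]
  rw [e]
  exact ⟨Code.tgt_lt KC_ok h0 hi, by rw [Code.el_tgt KC_ok h0 hi, Code.el_zero KC_ok, one_mul]⟩

theorem central_ok : ((List.range KC.N).all fun i => Nat.beq (KC.mul i iA) (KC.mul iA i) &&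
    Nat.beq (KC.mul i iF) (KC.mul iF i)) = true ∧ Nat.beq (KC.mul (gI.getD 0 0) (gI.getD 0 0)) 0 = true ∧
    Nat.beq (gI.getD 0 0) 0 = false ∧ Nat.beq (KC.mul (gI.getD 2 0) (gI.getD 2 0)) (KC.mul iA iF) = true ∧
    Nat.beq (pow4 (KC.mul (gI.getD 0 0) (gI.getD 2 0))) iA = true ∧
    Nat.beq (pow4 (KC.mul (gI.getD 1 0) (gI.getD 2 0))) iF = true ∧
    Nat.beq (KC.mul (gI.getD 1 0) (gI.getD 1 0)) 0 = true := by
  decide +kernel

theorem iA_lt : iA < KC.N ∧ iF < KC.N := ⟨by decide, by decide⟩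

/-- The element of the table at `iA`. -/
def kA : KS := kel iA_lt.1

/-- The element of the table at `iF`. -/
def kF : KS := kel iA_lt.2

theorem exists_kel (x : KS) : ∃ (i : ℕ) (hi : i < KC.N), kel hi = x := by
  obtain ⟨i, hi, h⟩ := (Code.mem_sub KC_ok).1 x.2
  exact ⟨i, hi, Subtype.ext h⟩

theorem kel_mul {i j : ℕ} (hi : i < KC.N) (hj : j < KC.N) :
    kel (Code.mul_lt KC_ok hi hj) = kel hi * kel hj := Subtype.ext (Code.el_mul KC_ok hi hj)

theorem kel_inj {i j : ℕ} (hi : i < KC.N) (hj : j < KC.N) (h : kel hi = kel hj) : i = j :=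
  Code.el_inj KC_ok hi hj (congrArg Subtype.val h)

theorem kel_congr {i j : ℕ} (hi : i < KC.N) (hj : j < KC.N) (h : i = j) : kel hi = kel hj := by
  subst h; rfl

theorem kgen_eq (i : ℕ) (hi : i < 3) : kgen hi = kel (gI_spec hi).1 := Subtype.ext (gI_spec hi).2.symm

theorem center_kA (x : KS) : x * kA = kA * x ∧ x * kF = kF * x := by
  obtain ⟨i, hi, rfl⟩ := exists_kel x
  have h := List.all_eq_true.1 central_ok.1 i (List.mem_range.2 hi)
  rw [Bool.and_eq_true] at h
  constructor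
  · rw [kA, ← kel_mul, ← kel_mul]; exact kel_congr _ _ (Nat.eq_of_beq_eq_true h.1)
  · rw [kF, ← kel_mul, ← kel_mul]; exact kel_congr _ _ (Nat.eq_of_beq_eq_true h.2)

/-- The images of a homomorphism from those of the generators. -/
theorem hom_spec (f : KS →* KS) {img : List ℕ} (hi : ∀ k < 3, img.getD k 0 < KC.N)
    (hf : ∀ k (hk : k < 3), f (kgen hk) = kel (hi k hk)) (i : ℕ) (hiN : i < KC.N) :
    ∃ h : KC.evI img i < KC.N, f (kel hiN) = kel h := by
  obtain ⟨h1, h2⟩ := Code.ev_spec KC_ok (f := KC.sub.subtype.comp f) hi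
    (fun k hk => congrArg Subtype.val (hf k hk)) i hiN
  exact ⟨h1, Subtype.ext h2⟩

theorem inner_conj {β : KS →* KS} (k : KS) (h : Inner (β.comp β)) :
    Inner (((MulAut.conj k).toMonoidHom.comp β).comp ((MulAut.conj k).toMonoidHom.comp β)) := by
  obtain ⟨l, hl⟩ := h
  refine ⟨k * β k * l, fun x => ?_⟩
  show k * β (k * β x * k⁻¹) * k⁻¹ = _
  rw [map_mul, map_mul, map_inv, show β (β x) = l * x * l⁻¹ from hl x]
  group

theorem inner_conj3 {γ : KS →* KS} (k : KS) (h : Inner (γ.comp (γ.comp γ))) :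
    Inner (((MulAut.conj k).toMonoidHom.comp γ).comp (((MulAut.conj k).toMonoidHom.comp γ).comp
      ((MulAut.conj k).toMonoidHom.comp γ))) := by
  obtain ⟨l, hl⟩ := h
  refine ⟨k * γ k * γ (γ k) * l, fun x => ?_⟩
  show k * γ (k * γ (k * γ x * k⁻¹) * k⁻¹) * k⁻¹ = _
  simp only [map_mul, map_inv, show γ (γ (γ x)) = l * x * l⁻¹ from hl x]
  group

theorem exchange_core (β m : KS →* KS) (hinj : Function.Injective β) (hA : β kA = kF) (hF : β kF = kA)
    (hm : ∀ k (hk : k < 3), ((m (kgen hk) : KS) : Spor.ON) = KC.el (mI.getD k 0)) (hsq : Inner (β.comp β))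
    (hcube : Inner ((β.comp m).comp ((β.comp m).comp (β.comp m))))
    (hrep : ∀ (h : 0 < 3), ∃ r ∈ reps, ∃ hr : r < KC.N, β (kgen h) = kel hr) :
    ∃ t ∈ targets, ∃ k : KS, ∀ i (hi : i < 3), ((β (kgen hi) : KS) : Spor.ON) =
      k * KC.el (t.getD i 0) * (k : Spor.ON)⁻¹ := by
  obtain ⟨r, hrm, hr, e0⟩ := hrep (by norm_num)
  obtain ⟨j, hj, e1⟩ := exists_kel (β (kgen (show 1 < 3 by norm_num)))
  obtain ⟨q, hq, e2⟩ := exists_kel (β (kgen (show 2 < 3 by norm_num)))
  set img := [r, j, q] with himg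
  have hi : ∀ k < 3, img.getD k 0 < KC.N := fun k hk => by interval_cases k <;> assumption
  have hf : ∀ k (hk : k < 3), β (kgen hk) = kel (hi k hk) := fun k hk => by
    interval_cases k
    · exact e0
    · exact e1.symm
    · exact e2.symm
  have spec := hom_spec β hi hf
  have hrange := rangeOK_true
  simp only [rangeOK, Bool.and_eq_true, List.all_eq_true, Nat.blt_eq, Nat.beq_eq] at hrange
  obtain ⟨⟨⟨⟨-, htg⟩, hmI⟩, hgI⟩, hlen⟩ := hrange
  have hmi : ∀ k < 3, mI.getD k 0 < KC.N := fun k hk => by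
    have h : k < mI.length := by rw [hlen]; exact hk
    rw [List.getD_eq_getElem _ _ h]; exact hmI _ (List.getElem_mem h)
  have getmap : ∀ (f : ℕ → ℕ) (l : List ℕ), l.length = 3 → ∀ k < 3, (l.map f).getD k 0 = f (l.getD k 0) :=
    fun f l hl k hk => by simp [List.getD_eq_getElem?_getD, List.getElem?_eq_getElem (show k < l.length by omega)]
  -- the filters
  obtain ⟨-, c00, -, c22, c02, c12, c11⟩ := central_ok
  have g0 := gI_spec (show 0 < 3 by norm_num)
  have g1 := gI_spec (show 1 < 3 by norm_num)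
  have g2 := gI_spec (show 2 < 3 by norm_num)
  have hz := (Code.check_spec KC_ok).1
  have hzero : kel hz = 1 := Subtype.ext (Code.el_zero KC_ok)
  have b11 : KC.mul j j = 0 := kel_inj (Code.mul_lt KC_ok hj hj) hz (by
    rw [kel_mul hj hj, e1, ← map_mul, kgen_eq 1 (by norm_num), ← kel_mul g1.1 g1.1,
      kel_congr _ hz (Nat.eq_of_beq_eq_true c11), hzero, map_one])
  have hAF : β (kel (Code.mul_lt KC_ok iA_lt.1 iA_lt.2)) = kel (Code.mul_lt KC_ok iA_lt.1 iA_lt.2) := by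
    rw [kel_mul iA_lt.1 iA_lt.2, map_mul, show kel iA_lt.1 = kA from rfl, show kel iA_lt.2 = kF from rfl, hA, hF, (center_kA kF).1]
  have b22 : KC.mul q q = KC.mul iA iF := kel_inj (Code.mul_lt KC_ok hq hq) (Code.mul_lt KC_ok iA_lt.1 iA_lt.2) (by
    rw [kel_mul hq hq, e2, ← map_mul, kgen_eq 2 (by norm_num), ← kel_mul g2.1 g2.1,
      kel_congr _ (Code.mul_lt KC_ok iA_lt.1 iA_lt.2) (Nat.eq_of_beq_eq_true c22), hAF])
  have pw : ∀ {x : ℕ} (hx : x < KC.N), ∃ h : pow4 x < KC.N, kel h = (kel hx * kel hx) * (kel hx * kel hx) :=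
    fun {x} hx => ⟨Code.mul_lt KC_ok (Code.mul_lt KC_ok hx hx) (Code.mul_lt KC_ok hx hx), by
      rw [← kel_mul, ← kel_mul]; exact kel_congr _ _ rfl⟩
  have b02 : pow4 (KC.mul r q) = iF := by
    obtain ⟨h, e⟩ := pw (Code.mul_lt KC_ok hr hq)
    obtain ⟨h', e'⟩ := pw (Code.mul_lt KC_ok g0.1 g2.1)
    refine kel_inj h iA_lt.2 ?_
    rw [e, show kel iA_lt.2 = β kA from hA.symm, kel_mul hr hq, e2, ← e0, ← map_mul, ← map_mul, ← map_mul,
      kgen_eq 0 (by norm_num), kgen_eq 2 (by norm_num), ← kel_mul g0.1 g2.1, ← e', kel_congr h' iA_lt.1 (Nat.eq_of_beq_eq_true c02)]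
    rfl
  have b12 : pow4 (KC.mul j q) = iA := by
    obtain ⟨h, e⟩ := pw (Code.mul_lt KC_ok hj hq)
    obtain ⟨h', e'⟩ := pw (Code.mul_lt KC_ok g1.1 g2.1)
    refine kel_inj h iA_lt.1 ?_
    rw [e, show kel iA_lt.1 = β kF from hF.symm, kel_mul hj hq, e2, e1, ← map_mul, ← map_mul, ← map_mul,
      kgen_eq 1 (by norm_num), kgen_eq 2 (by norm_num), ← kel_mul g1.1 g2.1, ← e', kel_congr h' iA_lt.2 (Nat.eq_of_beq_eq_true c12)]
    rfl
  -- conjugation checks
  have innerOK_of : ∀ (f : KS →* KS) (l : List ℕ) (hl : ∀ k < 3, l.getD k 0 < KC.N),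
      (∀ k (hk : k < 3), f (kgen hk) = kel (hl k hk)) → Inner f → innerOK l = true := by
    intro f l hl hfl ⟨k, hk⟩
    obtain ⟨k', hk', rfl⟩ := exists_kel k
    simp only [innerOK, List.any_eq_true, List.all_eq_true, List.mem_range, Nat.beq_eq]
    refine ⟨k', hk', fun i hi => kel_inj (Code.mul_lt KC_ok hk' (gI_spec hi).1) (Code.mul_lt KC_ok (hl i hi) hk') ?_⟩
    rw [kel_mul hk' (gI_spec hi).1, kel_mul (hl i hi) hk', ← hfl i hi, ← kgen_eq i hi, hk]
    group
  have hc1 : ∀ k (hk : k < 3), ∃ h : (mI.map (KC.evI img)).getD k 0 < KC.N, (β.comp m) (kgen hk) = kel h :=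
    fun k hk => by
      obtain ⟨h, e⟩ := spec _ (hmi k hk)
      refine ⟨by rw [getmap _ _ hlen k hk]; exact h, ?_⟩
      rw [MonoidHom.comp_apply, show m (kgen hk) = kel (hmi k hk) from Subtype.ext (hm k hk), e]
      exact kel_congr _ _ (getmap _ _ hlen k hk).symm
  set c1 := mI.map (KC.evI img)
  have hc1' : c1.length = 3 := by rw [List.length_map, hlen]
  have spec1 := hom_spec (β.comp m) (fun k hk => (hc1 k hk).1) (fun k hk => (hc1 k hk).2)
  set c2 := c1.map (KC.evI c1)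
  have hc2' : c2.length = 3 := by rw [List.length_map, hc1']
  have hc2 : ∀ k (hk : k < 3), ∃ h : c2.getD k 0 < KC.N, ((β.comp m).comp (β.comp m)) (kgen hk) = kel h :=
    fun k hk => by
      obtain ⟨h, e⟩ := spec1 _ (hc1 k hk).1
      refine ⟨by rw [getmap _ _ hc1' k hk]; exact h, ?_⟩
      rw [MonoidHom.comp_apply, (hc1 k hk).2, e]
      exact kel_congr _ _ (getmap _ _ hc1' k hk).symm
  have hc3 : ∀ k (hk : k < 3), ∃ h : (c2.map (KC.evI c1)).getD k 0 < KC.N,
      ((β.comp m).comp ((β.comp m).comp (β.comp m))) (kgen hk) = kel h := fun k hk => by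
    obtain ⟨h, e⟩ := spec1 _ (hc2 k hk).1
    refine ⟨by rw [getmap _ _ hc2' k hk]; exact h, ?_⟩
    rw [MonoidHom.comp_apply, (hc2 k hk).2, e]
    exact kel_congr _ _ (getmap _ _ hc2' k hk).symm
  have hb2 : ∀ k (hk : k < 3), ∃ h : (img.map (KC.evI img)).getD k 0 < KC.N, (β.comp β) (kgen hk) = kel h :=
    fun k hk => by
      obtain ⟨h, e⟩ := spec _ (hi k hk)
      refine ⟨by rw [getmap _ _ rfl k hk]; exact h, ?_⟩
      rw [MonoidHom.comp_apply, hf k hk, e]
      exact kel_congr _ _ (getmap _ _ rfl k hk).symm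
  have hcond : condOK [r, j, q] = true := by
    simp only [condOK, Bool.and_eq_true, Nat.beq_eq]
    refine ⟨⟨⟨?_, ?_⟩, innerOK_of _ _ (fun k hk => (hb2 k hk).1) (fun k hk => (hb2 k hk).2) hsq⟩,
      innerOK_of _ _ (fun k hk => (hc3 k hk).1) (fun k hk => (hc3 k hk).2) hcube⟩
    · obtain ⟨h, e⟩ := spec iA iA_lt.1
      exact kel_inj h iA_lt.2 (e.symm.trans hA)
    · obtain ⟨h, e⟩ := spec iF iA_lt.2
      exact kel_inj h iA_lt.1 (e.symm.trans hF)
  have hs := searchOK_true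
  simp only [searchOK, List.all_eq_true, Bool.or_eq_true, Bool.not_eq_true', List.mem_range] at hs
  rcases hs r hrm q hq with h | h
  · simp [filtK, b22, b02] at h
  rcases h j hj with (h | h) | h
  · simp [filtJ, b11, b12] at h
  · rw [hcond] at h; cases h
  simp only [hitOK, List.any_eq_true, List.all_eq_true, List.mem_range, Nat.beq_eq] at h
  obtain ⟨t, ht, k, hk, hkt⟩ := h
  refine ⟨t, ht, kel hk, fun i hi' => ?_⟩
  have hti : t.getD i 0 < KC.N := by
    by_cases hl : i < t.length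
    · rw [List.getD_eq_getElem _ _ hl]; exact htg t ht _ (List.getElem_mem hl)
    · rw [List.getD_eq_default _ _ (by omega)]; exact hz
  have e := congrArg Subtype.val (kel_congr (Code.mul_lt KC_ok hk hti) (Code.mul_lt KC_ok (hi i hi') hk) (hkt i hi'))
  rw [kel_mul hk hti, kel_mul (hi i hi') hk, Subgroup.coe_mul, Subgroup.coe_mul] at e
  rw [show (kel hti : KS).1 = KC.el (t.getD i 0) from rfl] at e
  rw [e, hf i hi']
  group

/-- An exchange of `a` and `f` whose square, and whose cube after the map `m`, are inner is a target. -/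
theorem exchange_cases (β m : KS →* KS) (hinj : Function.Injective β) (hA : β kA = kF) (hF : β kF = kA)
    (hm : ∀ k (hk : k < 3), ((m (kgen hk) : KS) : Spor.ON) = KC.el (mI.getD k 0)) (hsq : Inner (β.comp β))
    (hcube : Inner ((β.comp m).comp ((β.comp m).comp (β.comp m)))) :
    ∃ t ∈ targets, ∃ k : KS, ∀ i (hi : i < 3), ((β (kgen hi) : KS) : Spor.ON) =
      k * KC.el (t.getD i 0) * (k : Spor.ON)⁻¹ := by
  have h03 : 0 < 3 := by norm_num
  obtain ⟨v, hv, ev⟩ := exists_kel (β (kgen h03))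
  have hz := (Code.check_spec KC_ok).1
  have hzero : kel hz = 1 := Subtype.ext (Code.el_zero KC_ok)
  have g0 := gI_spec h03
  obtain ⟨-, c00, c0, -⟩ := central_ok
  have hv0 : v ≠ 0 := fun h => by
    subst h
    have h1 : kgen h03 = 1 := hinj (by rw [map_one, ← ev, hzero])
    rw [kgen_eq 0 h03, ← hzero] at h1
    exact Nat.ne_of_beq_eq_false c0 (kel_inj g0.1 hz h1)
  have hvv : KC.mul v v = 0 := kel_inj (Code.mul_lt KC_ok hv hv) hz (by
    rw [kel_mul hv hv, ev, ← map_mul, kgen_eq 0 h03, ← kel_mul g0.1 g0.1, kel_congr _ hz (Nat.eq_of_beq_eq_true c00), hzero,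
      map_one])
  have hrep := List.all_eq_true.1 repsOK_true v (List.mem_range.2 hv)
  simp only [Bool.or_eq_true, Bool.not_eq_true', List.any_eq_true, List.mem_range, Nat.beq_eq] at hrep
  rcases hrep with (h | h) | ⟨r, hr, k, hk, hkv⟩
  · exact absurd h hv0
  · simp [hvv] at h
  have hrN : r < KC.N := by
    have : (reps.all fun x => Nat.blt x KC.N) = true := by decide +kernel
    exact Nat.blt_eq ▸ List.all_eq_true.1 this r hr
  set c := (MulAut.conj (kel hk)).toMonoidHom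
  have hc : ∀ x, c x = kel hk * x * (kel hk)⁻¹ := fun _ => rfl
  have hfix : ∀ y, (∀ x : KS, x * y = y * x) → c y = y := fun y hy => by rw [hc, hy, mul_inv_cancel_right]
  obtain ⟨t, ht, l, hl⟩ := exchange_core (c.comp β) m ((MulAut.conj (kel hk)).injective.comp hinj)
    (by rw [MonoidHom.comp_apply, hA, hfix _ fun x => (center_kA x).2])
    (by rw [MonoidHom.comp_apply, hF, hfix _ fun x => (center_kA x).1]) hm (inner_conj _ hsq)
    (inner_conj3 _ hcube)
    (fun _ => ⟨r, hr, hrN, by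
      rw [MonoidHom.comp_apply, ← ev, hc, mul_inv_eq_iff_eq_mul, ← kel_mul, ← kel_mul]
      exact kel_congr _ _ hkv⟩)
  refine ⟨t, ht, (kel hk)⁻¹ * l, fun i hi => ?_⟩
  have h := hl i hi
  rw [MonoidHom.comp_apply, hc, Subgroup.coe_mul, Subgroup.coe_mul, InvMemClass.coe_inv, mul_inv_eq_iff_eq_mul,
    ← eq_inv_mul_iff_mul_eq] at h
  rw [h, Subgroup.coe_mul, InvMemClass.coe_inv]
  group

end Cfsg.Agent.ONGlue
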