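import Cfsg.Agent.Lib.ONGlue.KCheck

/-!
# The exchanges of a and f on the subgroup spanned by c, d, g
-/

set_option autoImplicit false

noncomputable section

namespace Cfsg.Agent.ONGlue

/-- The indices of the generators. -/
def gI : List ℕ := (List.range 3).map fun k => KC.tgt 0 k

/-- The fourth power. -/
def pow4 (i : ℕ) : ℕ :=
  let s := KC.mul i i
  KC.mul s s

/-- Three images are given by conjugation with one element. -/
def innerOK (img : List ℕ) : Bool :=
  (List.range KC.N).any fun k => (List.range 3).all fun i =>
    Nat.beq (KC.mul k (gI.getD i 0)) (KC.mul (img.getD i 0) k)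

/-- The images are those of a target up to conjugation. -/
def hitOK (img : List ℕ) : Bool :=
  targets.any fun t => (List.range KC.N).any fun k => (List.range 3).all fun i =>
    Nat.beq (KC.mul k (t.getD i 0)) (KC.mul (img.getD i 0) k)

/-- The relations seen on the second and third generator. -/
def filtK (i k : ℕ) : Bool := Nat.beq (KC.mul k k) (KC.mul iA iF) && Nat.beq (pow4 (KC.mul i k)) iF

/-- The relations seen on the middle generator. -/
def filtJ (k j : ℕ) : Bool := Nat.beq (KC.mul j j) 0 && Nat.beq (pow4 (KC.mul j k)) iA

/-- The conditions on a candidate. -/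
def condOK (img : List ℕ) : Bool :=
  Nat.beq (KC.evI img iA) iF && Nat.beq (KC.evI img iF) iA && innerOK (img.map (KC.evI img)) &&
    let c1 := mI.map (KC.evI img)
    let c2 := c1.map (KC.evI c1)
    innerOK (c2.map (KC.evI c1))

/-- Every candidate with the conditions is one of the targets up to conjugation. -/
def searchOK : Bool :=
  reps.all fun i => (List.range KC.N).all fun k => !filtK i k || (List.range KC.N).all fun j =>
    !filtJ k j || !condOK [i, j, k] || hitOK [i, j, k]

/-- Every involution is conjugate to a representative. -/
def repsOK : Bool :=
  (List.range KC.N).all fun v => Nat.beq v 0 || !Nat.beq (KC.mul v v) 0 ||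
    reps.any fun r => (List.range KC.N).any fun k => Nat.beq (KC.mul k v) (KC.mul r k)

/-- The indices used by the search are in range. -/
def rangeOK : Bool :=
  Nat.blt iA KC.N && Nat.blt iF KC.N && (targets.all fun t => t.all fun x => Nat.blt x KC.N) &&
    (mI.all fun x => Nat.blt x KC.N) && (gI.all fun x => Nat.blt x KC.N) && Nat.beq mI.length 3

theorem searchOK_true : searchOK = true := by decide +kernel

theorem repsOK_true : repsOK = true := by decide +kernel

theorem rangeOK_true : rangeOK = true := by decide +kernel

end Cfsg.Agent.ONGlue
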