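import Cfsg.Agent.Lib.ONGroup.PSL

/-!
# A group containing the presented O'Nan group contains `L₃(7):2`
-/

set_option autoImplicit false

noncomputable section

namespace Cfsg.Agent.ONGlue

open Cfsg.Spor Cfsg.Agent.ONGroup Cfsg.Agent.ONGroup.PSLModel

universe u

variable {G : Type u} [Group G]

theorem exists_l37 (φ : ON →* G) (hinj : Function.Injective φ) :
    ∃ (H : Subgroup G) (N : Subgroup H), N.Normal ∧ N.index = 2 ∧
      Nonempty (N ≃* Matrix.ProjectiveSpecialLinearGroup (Fin 3) (ZMod 7)) := by
  obtain ⟨e37⟩ := evenSub_equiv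
  let e : hSub ≃* hSub.map φ := hSub.equivMapOfInjective φ hinj
  refine ⟨hSub.map φ, evenSub.map e.toMonoidHom, ?_, ?_, ⟨(e.subgroupMap evenSub).symm.trans e37⟩⟩
  · exact (show evenSub.Normal from Subgroup.normal_of_index_eq_two even_index).map _ e.surjective
  · exact (evenSub.index_map_equiv e).trans even_index

end Cfsg.Agent.ONGlue
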