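import Cfsg.Agent.Lib.ONGlue.Code

/-!
# A centraliser is small when its element has many listed conjugates
-/

set_option autoImplicit false

noncomputable section

namespace Cfsg.Agent.ONGlue

open Cfsg.Agent.InvCoset Cfsg.Agent.ONGroup

/-- The conjugate by a word of the element of a word, as a word. -/
def conjW (x u : List ℕ) : List ℕ := u ++ (x ++ invW ONTable.iv u)

/-- Strictly increasing keys of conjugates. -/
def incConj (x : List ℕ) : List (List ℕ) → Bool
  | u :: v :: l => Nat.blt (key (conjW x u)) (key (conjW x v)) && incConj x (v :: l)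
  | _ => true

/-- The conjugators use the given letters, and their conjugates have increasing keys. -/
def orbitOK (ls : List ℕ) (x : List ℕ) (us : List (List ℕ)) : Bool :=
  inRange 8 x && (us.all fun u => inRange 8 u && inRange 8 (conjW x u) && u.all fun k => ls.contains k) &&
    incConj x us

theorem incConj_pairwise {x : List ℕ} : ∀ {l : List (List ℕ)}, incConj x l = true →
    l.Pairwise fun u v => key (conjW x u) < key (conjW x v)
  | [], _ => List.Pairwise.nil
  | [u], _ => List.pairwise_singleton _ _
  | u :: v :: l, h => by
    rw [incConj, Bool.and_eq_true] at h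
    have ih := incConj_pairwise h.2
    have huv : key (conjW x u) < key (conjW x v) := Nat.blt_eq ▸ h.1
    refine List.pairwise_cons.2 ⟨fun w hw => ?_, ih⟩
    rcases List.mem_cons.1 hw with rfl | hw
    · exact huv
    · exact huv.trans ((List.pairwise_cons.1 ih).1 w hw)

/-- With so many conjugates in a subgroup, the centraliser there is no larger than the quotient. -/
theorem orbit_bound {ls x : List ℕ} {us : List (List ℕ)} (h : orbitOK ls x us = true) (C : Subgroup Spor.ON)
    (hls : ∀ k ∈ ls, let8 k ∈ C) :
    us.length * Nat.card (C ⊓ Subgroup.centralizer ({val x} : Set Spor.ON) : Subgroup Spor.ON) ≤ Nat.card C := by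
  haveI : Finite Spor.ON := Nat.finite_of_card_ne_zero (by rw [card_ON]; norm_num)
  simp only [orbitOK, Bool.and_eq_true, List.all_eq_true, List.contains_iff_mem] at h
  obtain ⟨⟨hx, hu⟩, hinc⟩ := h
  have hC : ∀ u ∈ us, val u ∈ C := fun u hu' => by
    have hk := (hu u hu').2
    clear hu hu' hinc
    induction u with
    | nil => exact one_mem _
    | cons k u ih => exact mul_mem (hls k (hk k List.mem_cons_self)) (ih fun j hj => hk j (List.mem_cons_of_mem _ hj))
  have hp := List.pairwise_iff_getElem.1 (incConj_pairwise hinc)
  let D : Subgroup Spor.ON := C ⊓ Subgroup.centralizer ({val x} : Set Spor.ON)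
  let f : Fin us.length × D → C := fun p =>
    ⟨val (us[p.1.val]'p.1.2) * (p.2 : Spor.ON), mul_mem (hC _ (List.getElem_mem _)) (Subgroup.mem_inf.1 p.2.2).1⟩
  have hf : Function.Injective f := by
    rintro ⟨i, c⟩ ⟨j, c'⟩ he
    have he' : val us[i.val] * (c : Spor.ON) = val us[j.val] * c' := congrArg Subtype.val he
    have hconj : ∀ (k : Fin us.length) (d : D),
        val (conjW x us[k.val]) = val us[k.val] * d * val x * (val us[k.val] * d)⁻¹ := fun k d => by
      have hd := Subgroup.mem_centralizer_singleton_iff.1 (Subgroup.mem_inf.1 d.2).2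
      have hd' : (d : Spor.ON) * val x * (d : Spor.ON)⁻¹ = val x := by rw [hd, mul_inv_cancel_right]
      rw [conjW, val_append, val_append, val_invW (hu _ (List.getElem_mem _)).1.1]
      conv_lhs => rw [← hd']
      group
    have hk : key (conjW x us[i.val]) = key (conjW x us[j.val]) :=
      key_eq (hu _ (List.getElem_mem _)).1.2 (hu _ (List.getElem_mem _)).1.2 (by rw [hconj i c, hconj j c', he'])
    have hij : i = j := by
      refine Fin.ext (le_antisymm (not_lt.1 fun hlt => ?_) (not_lt.1 fun hlt => ?_))
      · exact absurd hk (hp _ _ j.2 i.2 hlt).ne'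
      · exact absurd hk (hp _ _ i.2 j.2 hlt).ne
    subst hij
    exact Prod.ext rfl (Subtype.ext (mul_left_cancel he'))
  have := Nat.card_le_card_of_injective f hf
  rwa [Nat.card_prod, Nat.card_fin] at this

end Cfsg.Agent.ONGlue
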