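import Cfsg.Agent.Lib.L34Fusion.Normal
import Cfsg.Agent.Lib.ONType.Side.Structure
import Cfsg.Agent.Lib.ONGlue.Glue

/-!
# An involution centraliser of O'Nan type is that of f, with a matched to the exchanged involution
-/

set_option autoImplicit false
set_option linter.unusedSectionVars false
set_option linter.style.haveILetI false

noncomputable section

namespace Cfsg.Agent.ONGlue

open Cfsg.Spor Cfsg.Agent.InvCoset Cfsg.Agent.ONGroup Cfsg.Agent.ONType.Side
open Cfsg.Agent.L34Mult Cfsg.Agent.L34Univ Cfsg.Agent.L34Fusion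

universe u

instance finite_ON : Finite ON := Nat.finite_of_card_ne_zero (by rw [card_ON]; norm_num)

theorem six_gen : Subgroup.closure (let8 '' {k | k ∈ [0, 1, 2, 3, 5, 6]}) = Kf := by
  refine le_antisymm ((Subgroup.closure_le _).2 ?_) ((Subgroup.closure_le _).2 ?_)
  · rintro _ ⟨k, hk, rfl⟩
    refine let8_seven ?_
    simp only [Set.mem_setOf_eq, List.mem_cons, List.not_mem_nil, or_false] at hk
    rcases hk with rfl | rfl | rfl | rfl | rfl | rfl <;> decide
  · rintro _ ⟨k, hk, rfl⟩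
    by_cases h7 : k = 7
    · subst h7
      rw [show let8 7 = (let8 6)⁻¹ from rfl]
      exact inv_mem (Subgroup.subset_closure ⟨6, by simp, rfl⟩)
    · refine Subgroup.subset_closure ⟨k, ?_, rfl⟩
      simp only [Set.mem_setOf_eq, sevenL, List.mem_cons, List.not_mem_nil, or_false] at hk ⊢
      omega

theorem a_sq_fact : sameW [2, 6, 2, 6, 2, 6, 2, 6] [0] = true ∧ iA ≠ 0 ∧ iA ≠ iF := by decide +kernel

theorem a_facts : let8 0 ≠ 1 ∧ let8 0 ≠ let8 5 := by
  refine ⟨fun h => a_sq_fact.2.1 (kel_inj iA_lt.1 (Code.check_spec KC_ok).1 (Subtype.ext ?_)),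
    fun h => a_sq_fact.2.2 (kel_inj iA_lt.1 iA_lt.2 (Subtype.ext ?_))⟩
  · exact (kA_val.1.trans h).trans (Code.el_zero KC_ok).symm
  · exact (kA_val.1.trans h).trans kA_val.2.1.symm

variable {G : Type u} [Group G] [Finite G] [IsSimpleGroup G]

/-- The isomorphism of the involution centralisers, carrying `a` to the exchanged involution. -/
theorem exists_theta (hC : C0 = Kf) (t : G) (ht : orderOf t = 2)
    (M : Subgroup (Subgroup.centralizer ({t} : Set G))) [M.Normal] (hM : M.index = 2)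
    (hout : Subgroup.centralizer (M : Set (Subgroup.centralizer ({t} : Set G))) ≤ M)
    (hZc : IsCyclic (Subgroup.center M)) (hZ4 : Nat.card (Subgroup.center M) = 4) (hperf : commutator M = ⊤)
    (F : Type) [Field F] [Fintype F] (hF : Fintype.card F = 4)
    (e : M ⧸ Subgroup.center M ≃* Matrix.ProjectiveSpecialLinearGroup (Fin 3) F) :
    ∃ (θ : C0 →* G) (z1 h : G), Function.Injective θ ∧ (∀ y, Commute y t → y ∈ θ.range) ∧ θ fS = t ∧
      θ aS = z1 ∧ h * t * h⁻¹ = z1 ∧ h * z1 * h⁻¹ = t := by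
  haveI : CharP F 2 := charP_of_card_eq_prime_pow (f := 2) (by rw [hF]; norm_num)
  haveI := simple_ON
  obtain ⟨W, X, hρ, ha, hb, hsq, hzz, h, h1, h2⟩ := exists_on_coords t ht M hM hout hZc hZ4 hperf hF e
  obtain ⟨M0, hN, hM0, hout0, hZc0, hZ40, hperf0, ⟨e0⟩⟩ : ∃ M : Subgroup C0, M.Normal ∧ M.index = 2 ∧
      Subgroup.centralizer (M : Set C0) ≤ M ∧
      IsCyclic (Subgroup.center M) ∧ Nat.card (Subgroup.center M) = 4 ∧ commutator M = ⊤ ∧
      Nonempty (M ⧸ Subgroup.center M ≃* Matrix.ProjectiveSpecialLinearGroup (Fin 3) F) := by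
    rw [hC]; exact kf_structure hF
  haveI := hN
  obtain ⟨W0, X0, hρ0, ha0, hb0, hsq0, hzz0, -⟩ := exists_on_coords (G := ON) (let8 5) f_order M0 hM0 hout0 hZc0
    hZ40 hperf0 hF e0
  obtain ⟨θ, hmem, hz, hz1⟩ := ONGlue.exists_iso hF hF hM0 hM hperf0 hperf hZ40 hZ4 X0 X hρ0 hρ
    (ha0.trans ha.symm) (hb0.trans hb.symm) hsq0 hsq
  -- `a` lies in the perfect part and is conjugate there to the marked involution
  have haM : aS ∈ M0 := by
    have hq : val [2, 6, 2, 6] ∈ C0 := hC ▸ word_Kf (by decide)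
    have e1 : aS = ⟨_, hq⟩ * ⟨_, hq⟩ := Subtype.ext (by
      show let8 0 = val [2, 6, 2, 6] * val [2, 6, 2, 6]
      rw [← val_append, ← val_singleton 0]
      exact (val_eq_of_sameW a_sq_fact.1).symm)
    rw [e1]
    exact Subgroup.mul_self_mem_of_index_two hM0 _
  obtain ⟨v, hv, Y, hYφ, hYD, -, -⟩ := exists_model X0
  have hY : Good Y := Good.of_hyps hF hv hM0 hZ40 e0
  have hzz' : Y.z ^ 2 = X0.z * X0.z := by
    obtain ⟨j, hj⟩ := hY.ker X0.z (by
      have hs := L34Mult.ker_eq_center Y.D.surjective Y.D.central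
      exact (hs _).2 ((L34Mult.ker_eq_center X0.D.surjective X0.D.central _).1 (by
        obtain ⟨c, hc⟩ := X0.unit
        have h := X0.iota_eq c
        rw [hc, show (1 : ZMod 4).val = 1 from rfl, pow_one] at h
        rw [← h, X0.D.iota_map])))
    have hj' : Y.z ^ j = X0.z := hj
    have ho := X0.orderOf_z
    rw [← hj', orderOf_pow, Y.orderOf_z] at ho
    have hodd : j % 2 = 1 := by
      by_contra hne2
      have : 2 ∣ Nat.gcd 4 j := Nat.dvd_gcd (by norm_num) (Nat.dvd_of_mod_eq_zero (by omega))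
      obtain ⟨d, hd⟩ := this
      have h4 : Nat.gcd 4 j ≤ 4 := Nat.le_of_dvd (by norm_num) (Nat.gcd_dvd_left 4 j)
      interval_cases h : Nat.gcd 4 j <;> omega
    rw [← pow_two, ← hj', ← pow_mul]
    conv_rhs => rw [← pow_mod_orderOf, Y.orderOf_z, show j * 2 % 4 = 2 by omega]
  obtain ⟨m, hm⟩ := hY.exists_conj_z1 (u := ⟨aS, haM⟩) (Subtype.ext (Subtype.ext let8_zero_sq))
    (fun h0 => a_facts.1 (congrArg (fun x : M0 => ((x : C0) : ON)) h0))
    (fun h0 => a_facts.2 ((congrArg (fun x : M0 => ((x : C0) : ON)) h0).trans (by rw [hzz']; exact hzz0)))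
  have hD1 : Y.D.z 1 = X0.D.z 1 := by
    obtain ⟨φ, D, g, z, gn, oz, zm, ie, un, gs, ci⟩ := Y
    dsimp only at hYφ hYD ⊢
    subst hYφ
    obtain rfl := eq_of_heq hYD
    rfl
  let θ1 : C0 →* G := (Subgroup.subtype _).comp (θ.toMonoidHom.comp (MulAut.conj (m : C0)).toMonoidHom)
  have hθ1 : ∀ x, θ1 x = (θ ((m : C0) * x * (m : C0)⁻¹) : G) := fun _ => rfl
  refine ⟨θ1, ((X.D.z 1 : M) : G), h, ?_, ?_, ?_, ?_, h1, h2⟩
  · exact Subtype.val_injective.comp (θ.injective.comp (MulAut.conj (m : C0)).injective)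
  · intro y hy
    obtain ⟨x, hx⟩ := θ.surjective ⟨y, Subgroup.mem_centralizer_singleton_iff.2 hy.eq⟩
    exact ⟨(m : C0)⁻¹ * x * (m : C0), by rw [hθ1, show (m : C0) * ((m : C0)⁻¹ * x * (m : C0)) * (m : C0)⁻¹ = x by group, hx]⟩
  · have hf : fS = ((X0.z * X0.z : M0) : C0) := Subtype.ext hzz0.symm
    rw [hθ1, show (m : C0) * fS * (m : C0)⁻¹ = fS by
      refine Subtype.ext ?_
      show ((m : C0) : ON) * let8 5 * ((m : C0) : ON)⁻¹ = let8 5
      rw [Subgroup.mem_centralizer_singleton_iff.1 (SetLike.coe_mem (m : C0)), mul_inv_cancel_right]]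
    rw [hf, Subgroup.coe_mul, map_mul, hz, ← Subgroup.coe_mul]
    exact hzz
  · rw [hθ1]
    have e2 : (m : C0) * aS * (m : C0)⁻¹ = ((X0.D.z 1 : M0) : C0) := by
      rw [← hD1]; exact congrArg Subtype.val hm
    rw [e2, hz1]

end Cfsg.Agent.ONGlue
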